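import Groth.Agent.Lib.CohMop.Bidual
import Groth.Agent.Lib.CBC10.TensorSec
import Groth.Agent.Lib.PushFin12.Basic
import Groth.Agent.Lib.DirImg11.Colim
import Groth.Agent.Lib.ModLimH13.Sections
import Groth.Agent.Lib.SerreCl8.Main
import Groth.Agent.Lib.DMon9.Mod
import Groth.Agent.Lib.CohFound.RpushComp

/-!
# Direct images of generating families along finite locally free coverings
-/

universe u

open CategoryTheory CategoryTheory.Limits AlgebraicGeometry TopologicalSpace Opposite TensorProduct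

set_option linter.style.haveILetI false
set_option linter.unusedSectionVars false
set_option backward.isDefEq.respectTransparency false
set_option backward.isDefEq.respectTransparency.types false

namespace Groth.Agent.StQC14

open Groth.Agent.M1

variable {X Y : Scheme.{u}} (f : X ⟶ Y)

/-- A morphism of modules vanishing on affine opens vanishes. -/
theorem hom_eq_zero_of_affine {M N : Y.Modules} (φ : M ⟶ N)
    (h : ∀ (U : Y.Opens), IsAffineOpen U → ∀ m : Γ(M, U), φ.app U m = 0) : φ = 0 := by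
  refine Scheme.Modules.hom_ext _ _ fun V => ?_
  ext t
  refine M1.section_ext _ _ fun x hx => ?_
  obtain ⟨W, hW, hxW, hWV⟩ := exists_isAffineOpen_mem_and_subset hx
  rw [← TopCat.Presheaf.germ_res_apply N.presheaf (homOfLE hWV) x hxW (φ.app V t),
    ← TopCat.Presheaf.germ_res_apply N.presheaf (homOfLE hWV) x hxW ((0 : M ⟶ N).app V t)]
  refine congrArg _ ?_
  show mres N hWV (φ.app V t) = mres N hWV ((0 : M ⟶ N).app V t)
  rw [← app_mres, ← app_mres, h W hW]
  rfl

open Classical in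
/-- Morphisms out of the direct image of a coproduct are determined on the summands. -/
theorem pushforward_coprod_eq_zero [QuasiCompact f] {ι : Type u} (F : ι → X.Modules) {C : Y.Modules}
    (d : (Scheme.Modules.pushforward f).obj (∐ F) ⟶ C)
    (hd : ∀ i, (Scheme.Modules.pushforward f).map (Sigma.ι F i) ≫ d = 0) : d = 0 := by
  refine hom_eq_zero_of_affine d fun U hU s => ?_
  haveI : PreservesColimitsOfShape (Discrete ι) (SheafOfModules.toSheaf X.ringCatSheaf) :=
    CohFound.preservesColimitsOfShape_sheafOfModules_toSheaf X.ringCatSheaf _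
  have hX := isColimitCofanMkObjOfIsColimit (SheafOfModules.toSheaf X.ringCatSheaf) _ _ (coproductIsCoproduct F)
  let π : ∀ i, (∐ F) ⟶ F i := fun i => Sigma.desc fun j => if h : j = i then eqToHom (congrArg F h) else 0
  have hπ : ∀ (i j : ι) (V : X.Opens) (t : Γ(F j, V)),
      (π i).app V ((Sigma.ι F j).app V t) = if h : j = i then (eqToHom (congrArg F h)).app V t else 0 := by
    intro i j V t
    rw [← comp_app_apply, Sigma.ι_desc]
    split_ifs with h
    · rfl
    · rfl
  choose V hV P t hxV ht using fun x : (f ⁻¹ᵁ U : X.Opens) => DirImg11.exists_local_sum hX s x.2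
  obtain ⟨T, hT⟩ := (f.isCompact_preimage hU.isCompact).elim_finite_subcover (fun x => (V x : Set X)) (fun x => (V x).2)
    fun x hx => Set.mem_iUnion.2 ⟨⟨x, hx⟩, hxV ⟨x, hx⟩⟩
  let Q := T.biUnion P
  have hs : (s : Γ(∐ F, f ⁻¹ᵁ U)) = ∑ i ∈ Q, (Sigma.ι F i).app (f ⁻¹ᵁ U) ((π i).app (f ⁻¹ᵁ U) s) := by
    refine modules_eq_of_locally_eq (∐ F) (f ⁻¹ᵁ U) (fun x : T => V x.1) (fun x => hV x.1)
      (fun x hx => by
        obtain ⟨y, hy, hxy⟩ := Set.mem_iUnion₂.1 (hT hx)
        exact Opens.mem_iSup.2 ⟨⟨y, hy⟩, hxy⟩) _ _ fun x => Eq.symm ?_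
    have hs : mres (∐ F) (hV x.1) s = ∑ j ∈ P x.1, (Sigma.ι F j).app (V x.1) (t x.1 j) := ht x.1
    refine (map_sum (mres (∐ F) (hV x.1)).hom (fun i => (Sigma.ι F i).app (f ⁻¹ᵁ U) ((π i).app (f ⁻¹ᵁ U) s)) Q).trans ?_
    show _ = mres (∐ F) (hV x.1) s
    rw [hs, ← Finset.sum_subset (Finset.subset_biUnion_of_mem P x.2) (fun i _ hi => ?_)]
    · refine Finset.sum_congr rfl fun i hi => ?_
      rw [← app_mres, ← app_mres, hs, map_sum,
        Finset.sum_eq_single i (fun j _ hj => by rw [hπ, dif_neg hj]) (fun h => absurd hi h), hπ, dif_pos rfl]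
      rfl
    · rw [← app_mres, ← app_mres, hs, map_sum, Finset.sum_eq_zero fun j hj => ?_, map_zero]
      rw [hπ, dif_neg (fun h : j = i => hi (h ▸ hj))]
  refine (congrArg (fun z : Γ(∐ F, f ⁻¹ᵁ U) => d.app U z) hs).trans ?_
  refine (map_sum (d.app U).hom (fun i => (Sigma.ι F i).app (f ⁻¹ᵁ U) ((π i).app (f ⁻¹ᵁ U) s)) Q).trans
    (Finset.sum_eq_zero fun i _ => ?_)
  exact congrArg (fun φ : (Scheme.Modules.pushforward f).obj (F i) ⟶ C =>
    φ.app U ((π i).app (f ⁻¹ᵁ U) s)) (hd i)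

/-- Direct images along affine morphisms preserve epimorphisms of quasi-coherent modules. -/
theorem epi_pushforward_map [IsAffineHom f] {M N : X.Modules} (hM : Coh.IsQCoh M) (hN : Coh.IsQCoh N) (φ : M ⟶ N)
    [Epi φ] : Epi ((Scheme.Modules.pushforward f).map φ) := by
  refine Preadditive.epi_of_cancel_zero _ fun {C} d hd => hom_eq_zero_of_affine d fun U hU s => ?_
  obtain ⟨a, ha⟩ := M1.app_surjective_affine_of_isQCoh hM hN φ (hU.preimage f) (s : Γ(N, f ⁻¹ᵁ U))
  rw [show s = ((Scheme.Modules.pushforward f).map φ).app U a from ha.symm]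
  exact congrArg (fun χ : (Scheme.Modules.pushforward f).obj M ⟶ C => χ.app U a) hd

/-- The comparison `N ⊗ f_* O ⟶ f_* f^* N`. -/
noncomputable def projOne (N : Y.Modules) :
    CohB1.tensorMod N ((Scheme.Modules.pushforward f).obj (Coh.structureModule X)) ⟶
      (Scheme.Modules.pushforward f).obj ((Scheme.Modules.pullback f).obj N) :=
  AmpleFin18.projHom f N (Coh.structureModule X) ≫
    (Scheme.Modules.pushforward f).map (M2.tensorRUnit ((Scheme.Modules.pullback f).obj N)).hom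

theorem projOne_tsec (N : Y.Modules) {V : Y.Opens} (n : Γ(N, V)) (c : Γ(X, f ⁻¹ᵁ V)) :
    (projOne f N).app V (M2.tsec N ((Scheme.Modules.pushforward f).obj (Coh.structureModule X)) n c) =
      c • (M2.pullSec f N n : Γ((Scheme.Modules.pullback f).obj N, f ⁻¹ᵁ V)) := by
  rw [projOne, M1.comp_app_apply, AmpleFin18.projHom_tsec]
  exact DMon9.tensorRUnit_tsec _ (M2.pullSec f N n) c

set_option maxHeartbeats 1000000 in
theorem bijective_projOne_app [IsAffineHom f] (N : Y.Modules) (hN : Coh.IsQCoh N) {V : Y.Opens}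
    (hV : IsAffineOpen V) : Function.Bijective ((projOne f N).app V) := by
  haveI := hN
  let A := (Scheme.Modules.pushforward f).obj (Coh.structureModule X)
  have hA : Coh.IsQCoh A := M1.isQCoh_push f (M1.isQCoh_structureModule X)
  obtain ⟨Φ, hΦ⟩ := ModLimH13.exists_pullEquiv f N (W' := f ⁻¹ᵁ V) le_rfl hV (hV.preimage f)
  letI := (f.appLE V (f ⁻¹ᵁ V) le_rfl).hom.toAlgebra
  let τ : Γ(X, f ⁻¹ᵁ V) ⊗[Γ(Y, V)] Γ(N, V) →+ Γ(CohB1.tensorMod N A, V) :=
    TensorProduct.liftAddHom
      (AddMonoidHom.mk' (fun c => AddMonoidHom.mk' (fun n => M2.tsec N A n c)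
        fun n n' => M2.tsec_add_left (M := N) (N := A) n n' (c : Γ(A, V))) fun c c' => AddMonoidHom.ext fun n => show M2.tsec N A n ((c + c' : Γ(A, V))) = M2.tsec N A n c + M2.tsec N A n c' from
          M2.tsec_add_right _ _ _)
      fun r c n => by
        show M2.tsec N A n (r • c : Γ(X, f ⁻¹ᵁ V)) = M2.tsec N A (r • n) c
        rw [M2.tsec_smul_left, ← M2.tsec_smul_right]
        refine congrArg (M2.tsec N A n) ?_
        show (r • c : Γ(X, f ⁻¹ᵁ V)) = (f.app V r • c : Γ(X, f ⁻¹ᵁ V))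
        rw [Algebra.smul_def, RingHom.algebraMap_toAlgebra, Scheme.Hom.appLE, smul_eq_mul]
        simp
  have key : ∀ w, (projOne f N).app V (τ w) = Φ w := fun w => by
    induction w using TensorProduct.induction_on with
    | zero => rw [map_zero, map_zero, map_zero]
    | add a b ha hb => rw [map_add, map_add, map_add, ha, hb]
    | tmul c n =>
      rw [hΦ]
      refine (projOne_tsec f N n c).trans (congrArg (c • ·) ?_)
      exact (M1.mres_id _ _ _).symm
  have hτ : Function.Surjective τ := fun z => by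
    obtain ⟨w, rfl⟩ := (CBC10.bijective_secTensor N A hN hA hV).2 z
    induction w using TensorProduct.induction_on with
    | zero => exact ⟨0, by rw [map_zero, map_zero]⟩
    | add a b ha hb =>
      obtain ⟨a', ha'⟩ := ha
      obtain ⟨b', hb'⟩ := hb
      exact ⟨a' + b', by rw [map_add, map_add, ha', hb']⟩
    | tmul n c => exact ⟨(c : Γ(X, f ⁻¹ᵁ V)) ⊗ₜ n, (CBC10.secTensor_tmul N A n c).symm⟩
  refine ⟨(injective_iff_map_eq_zero _).2 fun z hz => ?_, fun p => ?_⟩
  · obtain ⟨w, rfl⟩ := hτ z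
    rw [key] at hz
    rw [Φ.map_eq_zero_iff.1 hz, map_zero]
  · obtain ⟨w, rfl⟩ := Φ.surjective p
    exact ⟨τ w, key w⟩

theorem isIso_projOne [IsAffineHom f] (N : Y.Modules) (hN : Coh.IsQCoh N) : IsIso (projOne f N) := by
  let φ := projOne f N
  haveI : IsIso ((SheafOfModules.toSheaf Y.ringCatSheaf).map φ) := CohFound.isIso_of_bijective_basis _ IsAffineOpen
    (fun O z hz => by
      obtain ⟨W, hW, hzW, hWO⟩ := exists_isAffineOpen_mem_and_subset hz
      exact ⟨W, hW, hzW, hWO⟩)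
    fun W hW => bijective_projOne_app f N hN hW
  haveI : IsIso ((SheafOfModules.toSheaf Y.ringCatSheaf).map φ).hom :=
    inferInstanceAs (IsIso ((sheafToPresheaf _ _).map ((SheafOfModules.toSheaf Y.ringCatSheaf).map φ)))
  exact Scheme.Modules.Hom.isIso_iff_isIso_app.2 fun W => (ConcreteCategory.isIso_iff_bijective _).2
    (ConcreteCategory.bijective_of_isIso (((SheafOfModules.toSheaf Y.ringCatSheaf).map φ).hom.app (op W)))

theorem tsec_zero_right' {A C : Y.Modules} {U : Y.Opens} (a : Γ(A, U)) : M2.tsec A C a (0 : Γ(C, U)) = 0 := by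
  have : M2.tsec A C a ((0 : Γ(C, U)) + 0) = M2.tsec A C a (0 : Γ(C, U)) + M2.tsec A C a (0 : Γ(C, U)) :=
    M2.tsec_add_right _ _ _
  rw [add_zero] at this
  exact add_eq_left.1 this.symm

/-- Tensoring with a locally free module of positive rank is faithful. -/
theorem eq_zero_of_tensorMap_eq_zero {A : Y.Modules} (hA : FlatMod.IsFinLocFree A)
    (hpos : ∀ (y : Y) (U : Y.Opens), y ∈ U → (∀ a b : Γ(A, U), a = b) → False) {N C : Y.Modules} (h : N ⟶ C)
    (hz : M2.tensorMap h (𝟙 A) = 0) : h = 0 := by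
  refine Scheme.Modules.hom_ext _ _ fun V => ?_
  ext s
  refine M1.section_ext _ _ fun x hx => ?_
  obtain ⟨U, n, hxU, ⟨i⟩⟩ := hA x
  obtain ⟨D, e, hxD, he⟩ : ∃ (D : Y.Opens) (e : Fin n → Γ(A, D)), x ∈ D ∧ P1Split.IsBas A D e := by
    have hb := (P1Split.isBas_coprod (fun _ : Fin n => Coh.structureModule (U : Scheme.{u})) (fun _ => one ⊤)
      fun _ => P1Split.isGen_one ⊤).map_iso i.symm
    exact ⟨U.ι ''ᵁ ⊤, _, ⟨⟨x, hxU⟩, trivial, rfl⟩, P1Split.isBas_of_restrict U.ι A hb⟩
  cases n with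
  | zero =>
    refine (hpos x D hxD fun a b => ?_).elim
    obtain ⟨c, rfl⟩ := (he D le_rfl).2 a
    obtain ⟨c', rfl⟩ := (he D le_rfl).2 b
    simp
  | succ n =>
    have hWV : V ⊓ D ≤ V := inf_le_left
    rw [← TopCat.Presheaf.germ_res_apply C.presheaf (homOfLE hWV) x ⟨hx, hxD⟩ (h.app V s),
      ← TopCat.Presheaf.germ_res_apply C.presheaf (homOfLE hWV) x ⟨hx, hxD⟩ ((0 : N ⟶ C).app V s)]
    refine congrArg _ ?_
    show mres C hWV (h.app V s) = mres C hWV ((0 : N ⟶ C).app V s)
    rw [← app_mres, ← app_mres]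
    generalize mres N hWV s = s'
    let e' := mres A (inf_le_right : V ⊓ D ≤ D) (e 0)
    have h1 : M2.tsec C A (h.app (V ⊓ D) s') e' = 0 := by
      have := congrArg (fun φ : CohB1.tensorMod N A ⟶ CohB1.tensorMod C A => φ.app (V ⊓ D) (M2.tsec N A s' e')) hz
      simp only [M2.tensorMap_tsec] at this
      exact this
    have h2 : M2.tsec A C e' (h.app (V ⊓ D) s') = 0 := by
      have h3 := congrArg ((M2.tensorComm C A).hom.app (V ⊓ D)) h1
      rw [CohMop.tensorComm_tsec', map_zero] at h3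
      exact h3
    have h4 := (AmpleFin18.bijective_sum_tsec (G := C) he (inf_le_right : V ⊓ D ≤ D)).1
      (a₁ := Pi.single 0 (h.app (V ⊓ D) s')) (a₂ := 0) (by
        show ∑ j, M2.tsec A C _ (Pi.single (M := fun _ => Γ(C, V ⊓ D)) 0 (h.app (V ⊓ D) s') j) =
          ∑ j, M2.tsec A C _ ((0 : Fin (n + 1) → Γ(C, V ⊓ D)) j)
        rw [Finset.sum_eq_single (0 : Fin (n + 1)) (fun j _ hj => by
            rw [Pi.single_eq_of_ne hj, tsec_zero_right']) (fun h => absurd (Finset.mem_univ _) h),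
          Pi.single_eq_same, h2]
        simp [tsec_zero_right'])
    have h5 := congrFun h4 0
    rw [Pi.single_eq_same] at h5
    rw [h5]
    rfl

open CohMop in
/-- The evaluation is an epimorphism. -/
theorem epi_dualEval {A : Y.Modules} (hA : FlatMod.IsFinLocFree A)
    (hpos : ∀ (y : Y) (U : Y.Opens), y ∈ U → (∀ a b : Γ(A, U), a = b) → False) (N : Y.Modules) :
    Epi (dualEval N (dual A)) := by
  haveI : ModSite.HasSheafHom (O := Y.sheaf) A := isLeftAdjoint_tenR _
  haveI : ModSite.HasSheafHom (O := Y.sheaf) (dual A) := isLeftAdjoint_tenR _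
  have hA' := isFinLocFree_dual hA
  haveI := isIso_bidual hA
  refine Preadditive.epi_of_cancel_zero _ fun {C} h hd => ?_
  haveI := isIso_dualMap (N := C) hA'
  have h1 := dualMap_natural (dual A) h
  have h2 : dualMap N (dual A) ≫ (ihom (dual A)).map h = 0 := by
    rw [dualMap, ← Adjunction.homEquiv_naturality_right, hd]
    exact (ihomAdj (dual A)).homAddEquiv_zero _ _
  rw [h2] at h1
  have h3 : (tenR (dual (dual A))).map h = 0 := by
    rw [← cancel_mono (dualMap C (dual A)), h1, zero_comp]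
  refine eq_zero_of_tensorMap_eq_zero hA hpos h ?_
  have h4 : M2.tensorMap h (𝟙 (dual (dual A))) = 0 := by
    rw [← RHom.map_eq_tensorMap_left h]; exact h3
  have e : M2.tensorMap h (𝟙 A) = M2.tensorMap (𝟙 N) (bidual A) ≫ M2.tensorMap h (𝟙 (dual (dual A))) ≫
      M2.tensorMap (𝟙 C) (inv (bidual A)) := by
    rw [← M2.tensorMap_comp, ← M2.tensorMap_comp]
    simp
  rw [e, h4, zero_comp, comp_zero]

open CohMop in
/-- Every quasi-coherent module is a quotient of the direct image of a quasi-coherent module. -/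
theorem exists_epi_from_pushforward [IsFinite f] [Flat f] [LocallyOfFinitePresentation f] [Surjective f]
    (N : Y.Modules) (hN : Coh.IsQCoh N) :
    ∃ (G : X.Modules) (q : (Scheme.Modules.pushforward f).obj G ⟶ N), Coh.IsQCoh G ∧ Epi q := by
  let A := (Scheme.Modules.pushforward f).obj (Coh.structureModule X)
  have hA : FlatMod.IsFinLocFree A := (PushFin12.finLocFree_iff f).2 ⟨‹_›, ‹_›, ‹_›⟩ |>.2
  haveI : ModSite.HasSheafHom (O := Y.sheaf) A := isLeftAdjoint_tenR _
  haveI : ModSite.HasSheafHom (O := Y.sheaf) (dual A) := isLeftAdjoint_tenR _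
  have hA' := isFinLocFree_dual hA
  haveI := isIso_bidual hA
  have hpos : ∀ (y : Y) (U : Y.Opens), y ∈ U → (∀ a b : Γ(A, U), a = b) → False := fun y U hy hab => by
    obtain ⟨x, rfl⟩ := f.surjective y
    haveI : Nonempty (f ⁻¹ᵁ U : X.Opens) := ⟨⟨x, hy⟩⟩
    have h0 : ∀ a b : Γ(X, f ⁻¹ᵁ U), a = b := hab
    exact one_ne_zero (h0 1 0)
  let P := (Scheme.Modules.pullback f).obj N
  haveI := isIso_projOne f N hN
  haveI := epi_dualEval hA hpos N
  let q := ((pushTenIso f (dual A) hA').app P).inv ≫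
    M2.tensorMap (inv (projOne f N)) (𝟙 (dual A)) ≫ M2.tensorMap (M2.tensorMap (𝟙 N) (bidual A)) (𝟙 (dual A)) ≫
    dualEval N (dual A)
  refine ⟨CohB1.tensorMod P ((Scheme.Modules.pullback f).obj (dual A)), q,
    M2.isQCoh_tensor (M1.isQCoh_pullback f hN) (M1.isQCoh_pullback f (M1.isFP_isQCoh (M1.isFP_of_isFinLocFree hA'))), ?_⟩
  haveI : IsIso (M2.tensorMap (inv (projOne f N)) (𝟙 (dual A))) :=
    ⟨M2.tensorMap (projOne f N) (𝟙 (dual A)), by rw [← M2.tensorMap_comp]; simp [M2.tensorMap_id],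
      by rw [← M2.tensorMap_comp]; simp [M2.tensorMap_id]⟩
  haveI : IsIso (M2.tensorMap (M2.tensorMap (𝟙 N) (bidual A)) (𝟙 (dual A))) :=
    ⟨M2.tensorMap (M2.tensorMap (𝟙 N) (inv (bidual A))) (𝟙 (dual A)),
      by rw [← M2.tensorMap_comp, ← M2.tensorMap_comp]; simp [M2.tensorMap_id],
      by rw [← M2.tensorMap_comp, ← M2.tensorMap_comp]; simp [M2.tensorMap_id]⟩
  infer_instance

/-- Direct images of a generating family generate. -/
theorem generating_pushforward [IsFinite f] [Flat f] [LocallyOfFinitePresentation f] [Surjective f]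
    {ι : Type u} (E : ι → X.Modules) (hE : ∀ i, Coh.IsQCoh (E i))
    (hgen : ∀ M : X.Modules, Coh.IsQCoh M → ∃ (κ : Type u) (j : κ → ι) (π : (∐ fun k : κ => E (j k)) ⟶ M), Epi π)
    (N : Y.Modules) (hN : Coh.IsQCoh N) :
    ∃ (κ : Type u) (j : κ → ι) (π : (∐ fun k : κ => (Scheme.Modules.pushforward f).obj (E (j k))) ⟶ N), Epi π := by
  obtain ⟨G, q, hG, hq⟩ := exists_epi_from_pushforward f N hN
  obtain ⟨κ, j, π, hπ⟩ := hgen G hG
  haveI := epi_pushforward_map f (SerreCl8.isQCoh_sigma _ fun k => hE (j k)) hG π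
  refine ⟨κ, j, Sigma.desc fun k => (Scheme.Modules.pushforward f).map (Sigma.ι (fun k => E (j k)) k ≫ π) ≫ q,
    Preadditive.epi_of_cancel_zero _ fun {C} d hd => ?_⟩
  have h1 : ((Scheme.Modules.pushforward f).map π ≫ q) ≫ d = 0 := pushforward_coprod_eq_zero f _ _ fun k => by
    have h2 := congrArg (fun χ => Sigma.ι (fun k => (Scheme.Modules.pushforward f).obj (E (j k))) k ≫ χ) hd
    simp only [Sigma.ι_desc_assoc, comp_zero] at h2
    rw [← h2, Functor.map_comp]
    simp only [Category.assoc]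
  rw [← cancel_epi ((Scheme.Modules.pushforward f).map π ≫ q), h1, comp_zero]

end Groth.Agent.StQC14
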