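import Groth.Agent.Lib.CohFound.ProjQuot
import Groth.Agent.Lib.SerreCl8.Main
import Groth.Agent.Lib.KFlat.FinLocFree
import Groth.Agent.Lib.Defo13.Basic
import Groth.Prelude.Def_PerfAux

/-!
# A separating family gives finite surjections onto modules of finite type
-/

universe v u

open CategoryTheory Limits AlgebraicGeometry Opposite

attribute [local instance] Abelian.hasFiniteBiproducts

set_option linter.style.haveILetI false
set_option linter.unusedSectionVars false
set_option backward.isDefEq.respectTransparency false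
set_option backward.isDefEq.respectTransparency.types false

namespace Groth.Agent.StQC14

variable {X : Scheme.{u}}

/-- A separating family gives a finite epimorphism onto a quasi-coherent module of finite type. -/
theorem exists_finite_epi_of_sep [CompactSpace X] {κ : Type v} (E : κ → X.Modules) (hE : ∀ k, Coh.IsQCoh (E k))
    (M : X.Modules) (hM : Coh.IsQCoh M) (hFT : CohB1.IsFT M)
    (hsep : ∀ {N : X.Modules}, Coh.IsQCoh N → ∀ u : M ⟶ N, (∀ (k : κ) (φ : E k ⟶ M), φ ≫ u = 0) → u = 0) :
    ∃ (n : ℕ) (j : Fin n → κ) (π : (∐ fun i => E (j i)) ⟶ M), Epi π := by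
  classical
  let Φ : Type u := Σ x : X, {b : (M1.stalkAb x).obj M // ∃ (k : κ) (φ : E k ⟶ M) (a : _),
    (M1.stalkAb x).map φ a = b}
  let kk : Φ → κ := fun c => c.2.2.choose
  let ff : ∀ c : Φ, E (kk c) ⟶ M := fun c => c.2.2.choose_spec.choose
  have hff : ∀ c : Φ, ∃ a, (M1.stalkAb c.1).map (ff c) a = c.2.1 := fun c => c.2.2.choose_spec.choose_spec
  let π : (∐ fun c => E (kk c)) ⟶ M := Sigma.desc ff
  have hπ : Epi π := by
    refine Preadditive.epi_of_isZero_cokernel _ ((IsZero.iff_id_eq_zero _).2 ?_)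
    have h0 : cokernel.π π = 0 := by
      refine hsep (M1.isQCoh_cokernel (SerreCl8.isQCoh_sigma _ fun c => hE _) hM π) _ fun k φ => ?_
      have hz : ∀ (x : X) (a : (M1.stalkAb x).obj (E k)), (M1.stalkAb x).map (φ ≫ cokernel.π π) a = 0 := by
        intro x a
        rw [M1.stalk_comp_apply]
        let c : Φ := ⟨x, (M1.stalkAb x).map φ a, k, φ, a, rfl⟩
        obtain ⟨a', ha'⟩ := hff c
        rw [show (M1.stalkAb x).map φ a = c.2.1 from rfl, ← ha', ← M1.stalk_comp_apply]
        have e : ff c ≫ cokernel.π π = 0 := by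
          rw [← Sigma.ι_desc ff c, Category.assoc, show Sigma.desc ff ≫ cokernel.π π = 0 from cokernel.condition π,
            comp_zero]
        show (M1.stalkAb c.1).map (ff c ≫ cokernel.π π) a' = 0
        rw [e, Functor.map_zero]
        rfl
      exact Defo13.hom_eq_zero_of_stalk _ hz
    exact (cancel_epi (cokernel.π π)).1 (by rw [h0, zero_comp, zero_comp])
  let R : ∀ (x : X) (P : Finset Φ), AddSubgroup ((M1.stalkAb x).obj M) := fun x P =>
    ⨆ c ∈ P, ((M1.stalkAb x).map (ff c)).hom.range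
  have hdir : ∀ x, Directed (· ≤ ·) (R x) := fun x P Q => ⟨P ∪ Q,
    biSup_mono fun c hc => Finset.mem_union_left Q hc, biSup_mono fun c hc => Finset.mem_union_right P hc⟩
  have htop : ∀ x b, b ∈ ⨆ P, R x P := by
    intro x b
    obtain ⟨a, rfl⟩ := (M1.epi_iff_stalk π).1 hπ x b
    let q := AddCommGrpCat.ofHom (QuotientAddGroup.mk' (⨆ P, R x P))
    have hz : (M1.stalkAb x).map π ≫ q = 0 := by
      refine (isColimitOfPreserves (M1.stalkAb x) (coproductIsCoproduct fun c => E (kk c))).hom_ext fun ⟨c⟩ => ?_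
      refine Eq.trans ?_ comp_zero.symm
      refine AddCommGrpCat.ext fun a => (QuotientAddGroup.eq_zero_iff _).2 ?_
      refine le_iSup (R x) {c} (le_iSup₂_of_le (f := fun c' _ => ((M1.stalkAb x).map (ff c')).hom.range) c
        (Finset.mem_singleton_self c) le_rfl ⟨a, ?_⟩)
      exact (congrArg (fun f => (M1.stalkAb x).map f a) (Sigma.ι_desc ff c).symm).trans
        (M1.stalk_comp_apply (Sigma.ι (fun c => E (kk c)) c) π x a)
    exact (QuotientAddGroup.eq_zero_iff _).1 (ConcreteCategory.congr_hom hz a)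
  let fp : ∀ P : Finset Φ, (∐ fun i : Fin (P.card) => E (kk (P.equivFin.symm i).1)) ⟶ M := fun P =>
    Sigma.desc fun i => ff (P.equivFin.symm i).1
  have hfp : ∀ x P, R x P ≤ ((M1.stalkAb x).map (fp P)).hom.range := fun x P => iSup₂_le fun c hc => by
    rintro _ ⟨a, rfl⟩
    have key : ∀ c₀ : P, ((M1.stalkAb x).map (ff c₀.1)).hom.range ≤ ((M1.stalkAb x).map (fp P)).hom.range := by
      intro c₀
      obtain ⟨i, rfl⟩ := P.equivFin.symm.surjective c₀
      rintro _ ⟨a, rfl⟩
      refine ⟨(M1.stalkAb x).map (Sigma.ι (fun i : Fin (P.card) => E (kk (P.equivFin.symm i).1)) i) a, ?_⟩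
      exact (M1.stalk_comp_apply _ _ x a).symm.trans (congrArg (fun f => (M1.stalkAb x).map f a) (Sigma.ι_desc _ i))
    exact key ⟨c, hc⟩ ⟨a, rfl⟩
  have hpt : ∀ x, ∃ P : Finset Φ, Function.Surjective ((M1.stalkAb x).map (fp P)) := by
    intro x
    obtain ⟨T, hT⟩ := (M1.finite_stalk hM hFT x).fg_top
    choose g hg using fun b => (AddSubgroup.mem_iSup_of_directed (hdir x)).1 (htop x b)
    refine ⟨T.sup g, CohFound.surjective_stalk_of_span (fp (T.sup g)) x T hT fun t ht => ?_⟩
    exact hfp x _ ((show R x (g t) ≤ R x (T.sup g) from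
      biSup_mono fun c hc => Finset.le_sup (f := g) ht hc) (hg t))
  choose P hP using hpt
  obtain ⟨s, hs⟩ := isCompact_univ.elim_finite_subcover
    (fun x => (CohB1.support (cokernel (fp (P x))))ᶜ)
    (fun x => (M1.isClosed_support (M1.isFT_of_epi (cokernel.π (fp (P x))) hFT)).isOpen_compl)
    fun x _ => Set.mem_iUnion.2 ⟨x, (CohFound.notMem_support_cokernel_iff _ x).2 (hP x)⟩
  refine ⟨_, _, fp (s.sup P), (M1.epi_iff_stalk _).2 fun x b => ?_⟩
  obtain ⟨x', hx', hx⟩ := Set.mem_iUnion₂.1 (hs (Set.mem_univ x))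
  obtain ⟨a, ha⟩ := (CohFound.notMem_support_cokernel_iff _ x).1 hx b
  suffices hb : b ∈ R x (s.sup P) by exact hfp x _ hb
  refine (show R x (P x') ≤ R x (s.sup P) from biSup_mono fun c hc => Finset.le_sup (f := P) hx' hc) ?_
  show b ∈ R x (P x')
  rw [← ha]
  let q := AddCommGrpCat.ofHom (QuotientAddGroup.mk' (R x (P x')))
  have hz : (M1.stalkAb x).map (fp (P x')) ≫ q = 0 := by
    refine (isColimitOfPreserves (M1.stalkAb x) (coproductIsCoproduct
      fun i : Fin ((P x').card) => E (kk ((P x').equivFin.symm i).1))).hom_ext fun ⟨i⟩ => ?_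
    refine Eq.trans ?_ comp_zero.symm
    refine AddCommGrpCat.ext fun a => (QuotientAddGroup.eq_zero_iff _).2 ?_
    refine le_iSup₂_of_le (f := fun c' _ => ((M1.stalkAb x).map (ff c')).hom.range) ((P x').equivFin.symm i).1
      ((P x').equivFin.symm i).2 le_rfl ⟨a, ?_⟩
    exact (congrArg (fun f => (M1.stalkAb x).map f a)
      (Sigma.ι_desc (fun i : Fin ((P x').card) => ff ((P x').equivFin.symm i).1) i).symm).trans
      (M1.stalk_comp_apply (Sigma.ι (fun i : Fin ((P x').card) => E (kk ((P x').equivFin.symm i).1)) i) (fp (P x')) x a)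
  exact (QuotientAddGroup.eq_zero_iff _).1 (ConcreteCategory.congr_hom hz a)

/-- A separating family of finite locally free modules gives the resolution property. -/
theorem hasResolutionProperty_of_sep [CompactSpace X] {κ : Type v} (E : κ → X.Modules)
    (hE : ∀ k, FlatMod.IsFinLocFree (E k))
    (hsep : ∀ {M N : X.Modules}, Coh.IsQCoh M → Coh.IsQCoh N → ∀ u : M ⟶ N,
      (∀ (k : κ) (φ : E k ⟶ M), φ ≫ u = 0) → u = 0) : PerfAux.HasResolutionProperty X := fun M hM hFT => by
  obtain ⟨n, j, π, hπ⟩ := exists_finite_epi_of_sep E (fun k => (CohFound.isCoh_of_isFinLocFree (hE k)).1) M hM hFT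
    fun hN u => hsep hM hN u
  haveI := hπ
  exact ⟨⨁ fun i => E (j i), (biproduct.isoCoproduct _).hom ≫ π, KFlat.Sch.isFinLocFree_biproduct _ (fun i => hE _),
    inferInstance⟩

end Groth.Agent.StQC14
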