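import Groth.Agent.Lib.StQC14.ResChart
import Groth.Agent.Lib.StQuotDiag14.Basic
import Groth.Agent.Lib.AlgSpDescent.AffineFpqc

/-!
# Descent along affine, flat and surjective functors; affineness of the diagonal
-/

universe u

open CategoryTheory CategoryTheory.Functor CategoryTheory.Limits AlgebraicGeometry Opposite

set_option linter.style.haveILetI false
set_option linter.unusedSectionVars false
set_option backward.isDefEq.respectTransparency false
set_option backward.isDefEq.respectTransparency.types false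

namespace Groth.Agent.StQC14

open Groth.Agent.FC16 Groth.Agent.StAlg Groth.Agent.StAlg16

variable {S : Scheme.{u}} {P : MorphismProperty (AlgSp.Sp S)} {𝒳 𝒴 𝒵 : AlgSt.Cat S}

/-- a property of a base change can be checked after a covering of the base -/
theorem repOf_of_cover_of {τ : AlgSp.CovNotion S} (hPb : PbP P) (hP : AlgSp.IsLocalOnBase τ P)
    (h𝒳 : FibCat.IsFibGrpd 𝒳.p) (h𝒴 : FibCat.IsFibGrpd 𝒴.p) {f : 𝒳 ⥤ᵇ 𝒴} (hf : AlgSt.RepByAlgSp1 f)
    {U : Over S} (y : FibCat.overCat U ⥤ᵇ 𝒴) {ι : Type u} (V : ι → Over S) (h : ∀ i, V i ⟶ U)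
    (hc : τ (fun i => (AlgSp.yon S).obj (V i)) (fun i => (AlgSp.yon S).map (h i)))
    (hr : ∀ i, RepOf P (FibCat.fpFst (BasedFunctor.comp (AlgSt.overMap (h i)) y) f)) :
    RepOf P (FibCat.fpFst y f) := by
  obtain ⟨G, a, e, he, ⟨i₀⟩, hra, -⟩ := exists_rep_over h𝒳 h𝒴 hf (BasedFunctor.comp (AlgSt.toOverCat U) y)
  obtain ⟨hG, hGA⟩ := AlgSpace.isAlgSpaceP_of_repBySp a hra (AlgSpace.isAlgSpaceP_pyon U)
  haveI := idFun_full (𝒳 := 𝒴)
  haveI := idFun_faithful (𝒳 := 𝒴)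
  let A : (⟨G, hG⟩ : AlgSp.Sp S) ⟶ (AlgSp.yon S).obj U := ObjectProperty.homMk a
  have key : ∀ i, ∃ (X : AlgSp.Sp S) (fst : X ⟶ (⟨G, hG⟩ : AlgSp.Sp S)) (snd : X ⟶ (AlgSp.yon S).obj (V i)),
      AlgSp.IsAlgSpace X ∧ IsPullback fst snd A ((AlgSp.yon S).map (h i)) ∧ P snd := fun i => by
    let y₀ : FibCat.overCat (V i) ⥤ᵇ AlgSt.ofSch U := BasedFunctor.comp (AlgSt.overMap (h i)) (AlgSt.ofOverCat U)
    have sq := IsPullback.of_hasPullback a ((AlgSp.yon S).map (h i)).hom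
    have hy : mapOf (BasedFunctor.comp (AlgSt.toOverCat (V i)) y₀) = ((AlgSp.yon S).map (h i)).hom := by
      ext T x; rfl
    have h1 : RepOf P (FibCat.fpFst y₀ (FibCat.fpFst (BasedFunctor.comp (AlgSt.toOverCat U) y) f)) :=
      repOf_of_equiv' (pasteL_isEquivOver y₀ (BasedFunctor.comp (AlgSt.toOverCat U) y) f) (Iso.refl _) (hr i)
    haveI := idFun_full (𝒳 := AlgSt.ofSch U)
    haveI := idFun_faithful (𝒳 := AlgSt.ofSch U)
    have hm : FibCat.IsEquivOver (fpMap (a := BasedFunctor.id (FibCat.overCat (V i))) (b := e)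
        (s := BasedFunctor.id (AlgSt.ofSch U)) (F := y₀) (G := Stk.ofPshMap a) (F' := y₀)
        (G' := FibCat.fpFst (BasedFunctor.comp (AlgSt.toOverCat U) y) f) (Iso.refl _) i₀) :=
      fpMap_isEquivOver (a := BasedFunctor.id (FibCat.overCat (V i))) (b := e)
        (s := BasedFunctor.id (AlgSt.ofSch U)) (F := y₀) (G := Stk.ofPshMap a) (F' := y₀)
        (G' := FibCat.fpFst (BasedFunctor.comp (AlgSt.toOverCat U) y) f) (Iso.refl _) i₀ isEquivOver_id he
    obtain ⟨hX, hXA, hXP⟩ := square_of_repOf (preIso_of_pullback hPb) sq y₀ hy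
      (repOf_of_equiv' hm (Iso.refl _) h1)
    exact ⟨⟨_, hX⟩, ObjectProperty.homMk (pullback.fst a ((AlgSp.yon S).map (h i)).hom), _, hXA,
      IsPullback.of_map (sheafToPresheaf (AlgSp.J S) (Type (u + 1))) (ObjectProperty.hom_ext _ sq.w) sq, hXP⟩
  choose X fst snd hXA sq hXP using key
  have hA : P A := (hP _ _ (AlgSp.IsAlgSpace.yon_obj U) (fun i => AlgSp.IsAlgSpace.yon_obj (V i)) hc A hGA
    X snd fst hXA sq).2 hXP
  refine repOf_of_equiv (E := BasedFunctor.comp e (fpMap (a := AlgSt.toOverCat U) (b := BasedFunctor.id 𝒳)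
      (s := BasedFunctor.id 𝒴) (F := BasedFunctor.comp (AlgSt.toOverCat U) y) (G := f) (F' := y) (G' := f)
      (Iso.refl _) (Iso.refl _))) (isEquivOver_comp he (fpMap_isEquivOver _ _ (toOverCat_isEquivOver U) isEquivOver_id))
    ?_ (repOf_ofPsh_of a (h := hG) hGA hA)
  exact wrIso i₀ (AlgSt.toOverCat U)

/-- an affine, flat and surjective functor lifts schemes after an fpqc covering -/
theorem exists_fpqc_lift (h𝒴 : FibCat.IsFibGrpd 𝒴.p) (h𝒵 : FibCat.IsFibGrpd 𝒵.p) {z : 𝒵 ⥤ᵇ 𝒴}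
    (hz₀ : AlgSt.RepByAlgSpWith AlgSp.IsAffineMor z) (hz₁ : AlgSt.RepByAlgSpWith (AlgSp.LocP @Flat) z)
    (hz₃ : AlgSt.RepByAlgSpWith AlgSp.IsSurjectiveMor z) (U : Over S) (y : FibCat.overCat U ⥤ᵇ 𝒴) :
    ∃ (V : Over S) (k : V ⟶ U) (v : FibCat.overCat V ⥤ᵇ 𝒵),
      AlgSp.IsFpqcCover (fun _ : PUnit.{u + 1} => (AlgSp.yon S).obj V) (fun _ => (AlgSp.yon S).map k) ∧
        Nonempty (BasedFunctor.comp (AlgSt.overMap k) y ≅ BasedFunctor.comp v z) := by
  obtain ⟨G, a, e, -, ⟨i₀⟩, hra, hr⟩ := exists_rep_over h𝒵 h𝒴 (repByAlgSp1_of_with hz₁)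
    (BasedFunctor.comp (AlgSt.toOverCat U) y)
  obtain ⟨hG, hGA⟩ := AlgSpace.isAlgSpaceP_of_repBySp a hra (AlgSpace.isAlgSpaceP_pyon U)
  let A : (⟨G, hG⟩ : AlgSp.Sp S) ⟶ (AlgSp.yon S).obj U := ObjectProperty.homMk a
  have hid : IsPullback (𝟙 G) a a (𝟙 (((AlgSp.yon S).obj U).obj)) := IsPullback.of_horiz_isIso ⟨by simp⟩
  have hA₀ : AlgSp.RepWith @IsAffineHom A :=
    AlgSpace.isAffineMor_iff_repWith.1 (hr _ goodP_isAffineMor.preIso hz₀ _ _ _ hid).2.2
  have hA₁ : AlgSp.LocP @Flat A := (hr _ (preIso_of_pullback pbP_locP) hz₁ _ _ _ hid).2.2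
  have hA₃ : AlgSp.IsSurjectiveMor A := (hr _ goodP_surjective.preIso hz₃ _ _ _ hid).2.2
  have hU := AlgSp.IsAlgSpace.yon_obj U
  obtain ⟨V, k, p, sq⟩ : ∃ (V : Over S) (k : V ⟶ U) (p : (AlgSp.yon S).obj V ⟶ ⟨G, hG⟩),
      IsPullback p ((AlgSp.yon S).map k) A (𝟙 _) :=
    ⟨_, _, _, hA₀.rep.isPullback (𝟙 _)⟩
  haveI : IsAffineHom k.left := hA₀.property _ _ _ sq
  haveI : IsIso p := sq.isIso_fst_of_isIso
  have hk : (AlgSp.yon S).map k = p ≫ A := (Category.comp_id _).symm.trans sq.w.symm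
  have hV := AlgSp.IsAlgSpace.yon_obj V
  haveI : Flat k.left := by
    refine (StAlg16.locP_yon_iff (R := @Flat) k).1 ?_
    rw [hk]
    exact AlgSpace.locP_comp hV hGA hU (AlgSpace.locP_of_repWith hGA (AlgSpace.repWith_of_isIso @Flat p)) hA₁
  haveI : Surjective k.left := surjective_left_of_isSurjectiveMor k fun q => by
    obtain ⟨g, rfl⟩ := hA₃ q
    refine ⟨AlgSp.Points.map (inv p) g, ?_⟩
    rw [hk, AlgSp.Points.map_comp, ← AlgSp.Points.map_comp (inv p) p, IsIso.inv_hom_id, AlgSp.Points.map_id]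
  let P' := BasedFunctor.comp (AlgSt.ofOverCat V) (Stk.ofPshMap (P := ((AlgSp.yon S).obj V).obj) p.hom)
  let v : FibCat.overCat V ⥤ᵇ 𝒵 := BasedFunctor.comp (BasedFunctor.comp P' e) (FibCat.fpSnd _ z)
  refine ⟨V, k, v, ⟨fun _ => (StAlg16.locP_yon_iff (R := @Flat) k).2 ‹_›, fun Z hZ h => ?_⟩, ?_⟩
  · obtain ⟨g, rfl⟩ := (AlgSp.yon S).map_surjective h
    have hp : IsPullback (pullback.fst k g).left (pullback.snd k g).left k.left g.left :=
      (IsPullback.of_hasPullback k g).map (Over.forget S)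
    haveI : IsAffineHom (pullback.snd k g).left := MorphismProperty.of_isPullback hp ‹IsAffineHom k.left›
    haveI : Surjective (pullback.snd k g).left := MorphismProperty.of_isPullback hp ‹Surjective k.left›
    haveI : IsAffine Z.left := hZ
    refine ⟨1, fun _ => pullback k g, fun _ => pullback.snd k g,
      fun _ => isAffine_of_isAffineHom (pullback.snd k g).left,
      fun _ => MorphismProperty.of_isPullback hp ‹Flat k.left›,
      fun t => ⟨0, (pullback.snd k g).left.surjective t⟩,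
      fun _ => ⟨PUnit.unit, (AlgSp.yon S).map (pullback.fst k g), ?_⟩⟩
    rw [← Functor.map_comp, ← Functor.map_comp, pullback.condition]
  · have hk' : mapOf (BasedFunctor.comp (Stk.ofPshMap (P := ((AlgSp.yon S).obj V).obj) p.hom) (Stk.ofPshMap a)) =
        ((AlgSp.yon S).map k).hom := by
      rw [mapOf_comp, mapOf_ofPshMap, mapOf_ofPshMap, hk]; rfl
    let j : BasedFunctor.comp (BasedFunctor.comp P' (Stk.ofPshMap a)) (AlgSt.toOverCat U) ≅ AlgSt.overMap k :=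
      wlIso (AlgSt.ofOverCat V) (wrIso (isoMapOf _ ≪≫ eqToIso (congrArg Stk.ofPshMap hk')) (AlgSt.toOverCat U) ≪≫
        overMapIso k) ≪≫ wrIso (eqToIso (ofOver_toOver V)) (AlgSt.overMap k)
    let i : BasedFunctor.comp (AlgSt.overMap k) y ≅ BasedFunctor.comp v z :=
      wrIso j.symm y ≪≫ wlIso P' (wrIso i₀.symm (BasedFunctor.comp (AlgSt.toOverCat U) y)) ≪≫
        wlIso (BasedFunctor.comp P' e) (FibCat.fpIso (BasedFunctor.comp (AlgSt.toOverCat U) y) z)
    exact ⟨i⟩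

/-- descent along an affine, flat and surjective functor -/
theorem with_of_fpFst_fpqc (hPb : PbP P) (hP : AlgSp.IsLocalOnBase AlgSp.IsFpqcCover P)
    (h𝒳 : FibCat.IsFibGrpd 𝒳.p) (h𝒴 : FibCat.IsFibGrpd 𝒴.p) (h𝒵 : FibCat.IsFibGrpd 𝒵.p)
    {f : 𝒳 ⥤ᵇ 𝒴} (hf : AlgSt.RepByAlgSp1 f) {z : 𝒵 ⥤ᵇ 𝒴}
    (hz₀ : AlgSt.RepByAlgSpWith AlgSp.IsAffineMor z) (hz₁ : AlgSt.RepByAlgSpWith (AlgSp.LocP @Flat) z)
    (hz₃ : AlgSt.RepByAlgSpWith AlgSp.IsSurjectiveMor z)
    (h : AlgSt.RepByAlgSpWith P (FibCat.fpFst z f)) : AlgSt.RepByAlgSpWith P f := fun U y => by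
  obtain ⟨V, k, v, hc, ⟨i⟩⟩ := exists_fpqc_lift h𝒴 h𝒵 hz₀ hz₁ hz₃ U y
  exact repOf_of_cover_of hPb hP h𝒳 h𝒴 hf y (fun _ => V) (fun _ => k) hc fun _ =>
    repOf_left i (repOf_of_equiv (pasteL_isEquivOver v z f) (Iso.refl _) (h V v))

/-- the diagonal of a separated scheme over `S` is affine -/
theorem with_affine_diag_toSelf (V : Over S) (hV : IsAffineHom (pullback.diagonal V.hom)) :
    AlgSt.RepByAlgSpWith AlgSp.IsAffineMor (FibCat.diag (FibCat.toSelf (FibCat.overCat V))) := by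
  let k : V ⟶ Over.mk (𝟙 S) := Over.homMk V.hom (Category.comp_id _)
  obtain ⟨E, hE, -, -⟩ := exists_inverse (selfToTerm_isEquivOver (S := S))
  obtain ⟨j⟩ := selfOver_functor_iso (BasedFunctor.comp (AlgSt.overMap k) E)
    (BasedFunctor.comp (BasedFunctor.id _) (FibCat.toSelf (FibCat.overCat V)))
  refine (with_diag_congr (f := FibCat.toSelf (FibCat.overCat V)) (f' := AlgSt.overMap k)
    (a := BasedFunctor.id _) (b := E) isEquivOver_id hE j).2 ?_
  refine (with_diag_congr (f := AlgSt.overMap k) (f' := AlgSt.ofSpMap ((AlgSp.yon S).map k))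
    (a := AlgSt.toOverCat V) (b := AlgSt.toOverCat _) (toOverCat_isEquivOver V) (toOverCat_isEquivOver _)
    (overMapIso k)).2 (with_diag_ofSpMap _ ?_)
  exact repBySpWith_of_space Quot16.pbP_isAffineMor (AlgSp.IsAlgSpace.yon_obj V)
    (AlgSpace.isAlgSpace_pullback (AlgSp.IsAlgSpace.yon_obj _) (AlgSp.IsAlgSpace.yon_obj V) (AlgSp.IsAlgSpace.yon_obj V)
      (IsPullback.of_hasPullback _ _))
    (AlgSpace.isAffineMor_iff_repWith.2 ((AlgSp.repWith_diagonal_yon_map_iff @IsAffineHom k).2 hV))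

/-- the diagonal of a stack with an affine, flat and surjective chart with affine diagonal is affine -/
theorem with_affine_diag_of_chart (h𝒳 : FibCat.IsFibGrpd 𝒳.p)
    (hΔ : AlgSt.RepByAlgSp1 (FibCat.diag (FibCat.toSelf 𝒳))) {V : Over S}
    (hV : IsAffineHom (pullback.diagonal V.hom)) {x : FibCat.overCat V ⥤ᵇ 𝒳}
    (hxa : AlgSt.RepByAlgSpWith AlgSp.IsAffineMor x) (hxf : AlgSt.RepByAlgSpWith (AlgSp.LocP @Flat) x)
    (hxs : AlgSt.RepByAlgSpWith AlgSp.IsSurjectiveMor x) :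
    AlgSt.RepByAlgSpWith AlgSp.IsAffineMor (FibCat.diag (FibCat.toSelf 𝒳)) := by
  have hv := overCat_isFibGrpd V
  let t := FibCat.toSelf 𝒳
  refine with_of_fpFst_fpqc (z := pair (Iso.refl (BasedFunctor.comp x t)) (Iso.refl (BasedFunctor.comp x t)))
    Quot16.pbP_isAffineMor AlgSpDescent.isLocalOnBase_fpqc_isAffineMor h𝒳
    (fp_isFibGrpd h𝒳 h𝒳 selfOver_isFibGrpd _ _) (fp_isFibGrpd hv hv selfOver_isFibGrpd _ _) hΔ
    (with_fp_map_gen goodP_isAffineMor h𝒳 selfOver_isFibGrpd t t hv hv hxa hxa)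
    (with_fp_map_gen goodP_locP h𝒳 selfOver_isFibGrpd t t hv hv hxf hxf)
    (with_fp_map_gen goodP_surjective h𝒳 selfOver_isFibGrpd t t hv hv hxs hxs)
    ((with_cmp_iff (f := x) (g := x) (t := t) (wrIso (FibCat.fpIso x x) t) (fun _ => rfl)).2 ?_)
  exact with_of_comp (g := FibCat.fpFst (BasedFunctor.comp x t) (BasedFunctor.comp x t)) goodP_isAffineMor
    (fp_isFibGrpd hv hv h𝒳 _ _) (fp_isFibGrpd hv hv selfOver_isFibGrpd _ _) hv
    (with_of_iso (Iso.refl _) (with_fpFst x hxa))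
    (with_diag_fpFst _ _ (with_diag_of_iso (selfOver_functor_iso _ _).some (with_affine_diag_toSelf V hV)))

/-- the diagonal of a stack with an affine, flat and surjective chart by a regular curve is affine -/
theorem with_affine_diag_of_regular (h𝒳 : FibCat.IsFibGrpd 𝒳.p)
    (hΔ : AlgSt.RepByAlgSp1 (FibCat.diag (FibCat.toSelf 𝒳))) (U : Over S) [IsNoetherian U.left]
    (hreg : ∀ x : U.left, IsRegularLocalRing (U.left.presheaf.stalk x))
    (hdim : topologicalKrullDim U.left ≤ 1) (u : FibCat.overCat U ⥤ᵇ 𝒳)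
    (hua : AlgSt.RepByAlgSpWith AlgSp.IsAffineMor u) (huf : AlgSt.RepByAlgSpWith (AlgSp.LocP @Flat) u)
    (hus : AlgSt.RepByAlgSpWith AlgSp.IsSurjectiveMor u) :
    AlgSt.RepByAlgSpWith AlgSp.IsAffineMor (FibCat.diag (FibCat.toSelf 𝒳)) := by
  obtain ⟨V₀, f, hV₀, hfa, hff, -, hfs, -⟩ := exists_affine_cover hreg hdim
  let V : Over S := Over.mk (f ≫ U.hom)
  let k : V ⟶ U := Over.homMk f rfl
  haveI : IsAffine V.left := hV₀
  haveI : IsSeparated V.hom := IsSeparated.of_comp V.hom (terminal.from S)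
  have h1 : AlgSt.RepByAlgSpWith (AlgSp.LocP @Flat) (AlgSt.overMap k) := with_locP_overMap k hff
  have h3 : AlgSt.RepByAlgSpWith AlgSp.IsSurjectiveMor (AlgSt.overMap k) := by
    refine with_surjective_of_isSurjective (overCat_isFibGrpd V) (overCat_isFibGrpd U) (repByAlgSp1_of_with h1)
      fun z => ?_
    obtain ⟨t, ht⟩ := hfs.surj (ptOf z)
    exact ⟨AlgSt.Points.mk (chartPt V t),
      by rw [map_overMap_chartPt, show k.left t = f t from rfl, ht, mk_chartPt_ptOf]⟩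
  exact with_affine_diag_of_chart h𝒳 hΔ inferInstance (x := BasedFunctor.comp (AlgSt.overMap k) u)
    (with_comp goodP_isAffineMor (overCat_isFibGrpd V) (overCat_isFibGrpd U) (with_isAffineMor_overMap k hfa) hua)
    (with_comp goodP_locP (overCat_isFibGrpd V) (overCat_isFibGrpd U) h1 huf)
    (with_comp goodP_surjective (overCat_isFibGrpd V) (overCat_isFibGrpd U) h3 hus)

end Groth.Agent.StQC14
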