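import Groth.Agent.Lib.StQC14.Flat
import Groth.Agent.Lib.StQC14.SepEpi
import Groth.Agent.Lib.ModLimH13.Sections
import Groth.Prelude.Def_StMod6
import Groth.Prelude.Def_StMod3

/-!
# Modules on a scheme as modules on its category of points
-/

universe v u

open CategoryTheory CategoryTheory.Functor CategoryTheory.Limits AlgebraicGeometry Opposite

set_option linter.style.haveILetI false
set_option linter.unusedSectionVars false
set_option backward.isDefEq.respectTransparency false
set_option backward.isDefEq.respectTransparency.types false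

namespace Groth.Agent.StQC14

open StMod ModLimH13

variable {S : Scheme.{u}} {X : Over S}

/-- The structure map of an object over `X`. -/
abbrev oStr (b : (FibCat.overCat X).obj) : sch (FibCat.overCat X) b ⟶ X.left := b.hom.left

theorem oStr_comp {a b : (FibCat.overCat X).obj} (k : a ⟶ b)
    {g : sch (FibCat.overCat X) a ⟶ sch (FibCat.overCat X) b} (hg : bmap (FibCat.overCat X) k = g) :
    g ≫ oStr b = oStr a := by
  subst hg
  exact congrArg CommaMorphism.left (Over.w k)

/-- Morphisms out of a pullback are determined by pulled back sections. -/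
theorem pullback_hom_ext {A B : Scheme.{u}} {f : A ⟶ B} {N : B.Modules} {P : A.Modules}
    {φ ψ : (Scheme.Modules.pullback f).obj N ⟶ P}
    (h : ∀ (U : B.Opens) (s : Γ(N, U)), φ.app (f ⁻¹ᵁ U) (M2.pullSec f N s) = ψ.app (f ⁻¹ᵁ U) (M2.pullSec f N s)) :
    φ = ψ := by
  apply ((Scheme.Modules.pullbackPushforwardAdjunction f).homEquiv N P).injective
  rw [Adjunction.homEquiv_unit, Adjunction.homEquiv_unit]
  exact Scheme.Modules.hom_ext _ _ fun U => ConcreteCategory.hom_ext _ _ fun s => h U s

variable (N : X.left.Modules)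

/-- The comparison maps of the pullbacks. -/
noncomputable def schMap {a b : (FibCat.overCat X).obj} (k : a ⟶ b)
    {g : sch (FibCat.overCat X) a ⟶ sch (FibCat.overCat X) b} (hg : bmap (FibCat.overCat X) k = g) :
    (Scheme.Modules.pullback (oStr b)).obj N ⟶
      (Scheme.Modules.pushforward g).obj ((Scheme.Modules.pullback (oStr a)).obj N) :=
  (Scheme.Modules.pullbackPushforwardAdjunction g).homEquiv _ _ ((cmp g (oStr b) (oStr_comp k hg)).hom.app N)

theorem preimage_oStr {a b : (FibCat.overCat X).obj} (k : a ⟶ b)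
    {g : sch (FibCat.overCat X) a ⟶ sch (FibCat.overCat X) b} (hg : bmap (FibCat.overCat X) k = g)
    (U : X.left.Opens) : g ⁻¹ᵁ oStr b ⁻¹ᵁ U = oStr a ⁻¹ᵁ U := by
  rw [← oStr_comp k hg, Scheme.Hom.comp_preimage]

theorem schMap_pullSec {a b : (FibCat.overCat X).obj} (k : a ⟶ b)
    {g : sch (FibCat.overCat X) a ⟶ sch (FibCat.overCat X) b} (hg : bmap (FibCat.overCat X) k = g)
    {U : X.left.Opens} (s : Γ(N, U)) :
    (schMap N k hg).app (oStr b ⁻¹ᵁ U) (M2.pullSec (oStr b) N s) =
      M1.mres ((Scheme.Modules.pullback (oStr a)).obj N) (preimage_oStr k hg U).le (M2.pullSec (oStr a) N s) := by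
  refine Eq.trans ?_ ((cmp_res' g (oStr b) N (oStr_comp k hg) (W' := oStr b ⁻¹ᵁ U)
    (W'' := g ⁻¹ᵁ oStr b ⁻¹ᵁ U) le_rfl le_rfl s))
  rw [schMap, Adjunction.homEquiv_unit]
  simp only [res', M1.mres_id]
  rfl

/-- The module on the category of points of a scheme. -/
noncomputable def schMod : Mod (FibCat.overCat X) where
  obj b := (Scheme.Modules.pullback (oStr b)).obj N
  map := @fun a b k g hg => schMap N (a := a) (b := b) k hg
  map_id b := by
    refine pullback_hom_ext fun U s => ?_
    show (((Scheme.Modules.pushforwardId _).hom.app _).app (oStr b ⁻¹ᵁ U))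
      ((schMap N (𝟙 b) (bmap_id b)).app (oStr b ⁻¹ᵁ U) (M2.pullSec (oStr b) N s)) = M2.pullSec (oStr b) N s
    rw [schMap_pullSec, Scheme.Modules.pushforwardId_hom_app_app]
    exact M1.mres_id _ _ _
  map_comp := @fun c a b ψ φ h g hh hg => by
    refine pullback_hom_ext fun U s => ?_
    refine (schMap_pullSec N (ψ ≫ φ) (g := h ≫ g) _ s).trans (Eq.symm ?_)
    show ((Scheme.Modules.pushforwardComp h g).hom.app _).app (oStr b ⁻¹ᵁ U)
      ((schMap N ψ hh).app (g ⁻¹ᵁ oStr b ⁻¹ᵁ U)
        ((schMap N φ hg).app (oStr b ⁻¹ᵁ U) (M2.pullSec (oStr b) N s))) = _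
    rw [schMap_pullSec, Scheme.Modules.pushforwardComp_hom_app_app]
    refine (M1.app_mres (schMap N ψ hh) _ _).trans ?_
    rw [schMap_pullSec]
    exact M1.mres_mres _ _ _ _

theorem isQCoh_schMod (hN : Coh.IsQCoh N) : isQCoh (FibCat.overCat X) (schMod N) :=
  ⟨fun a b k g hg => by
    show IsIso (((Scheme.Modules.pullbackPushforwardAdjunction g).homEquiv _ _).symm (schMap N k hg))
    rw [schMap, Equiv.symm_apply_apply]
    infer_instance, fun b => M1.isQCoh_pullback _ hN⟩

variable {N} {M : X.left.Modules}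

/-- Morphisms of modules on the category of points. -/
noncomputable def schHom (u : M ⟶ N) : schMod M ⟶ schMod N where
  app b := (Scheme.Modules.pullback (oStr b)).map u
  comm := @fun a b k g hg => by
    refine pullback_hom_ext fun U s => ?_
    show ((Scheme.Modules.pullback (oStr a)).map u).app (g ⁻¹ᵁ oStr b ⁻¹ᵁ U)
      ((schMap M k hg).app (oStr b ⁻¹ᵁ U) (M2.pullSec (oStr b) M s)) =
      (schMap N k hg).app (oStr b ⁻¹ᵁ U)
        (((Scheme.Modules.pullback (oStr b)).map u).app (oStr b ⁻¹ᵁ U) (M2.pullSec (oStr b) M s))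
    rw [schMap_pullSec, Amp.map_pullSec, schMap_pullSec, M1.app_mres, Amp.map_pullSec]

/-- A morphism of quasi-coherent modules zero at the scheme itself is zero. -/
theorem hom_eq_zero_of_top {F G : QCoh (FibCat.overCat X)} (w : F.obj ⟶ G.obj)
    (h : w.app (Over.mk (𝟙 X)) = 0) : w = 0 := by
  refine Mod.hom_ext fun b => ?_
  let k : b ⟶ (Over.mk (𝟙 X) : (FibCat.overCat X).obj) := Over.homMk b.hom (Category.comp_id _)
  haveI := F.property.1 k (g := bmap (FibCat.overCat X) k) rfl
  let adj := Scheme.Modules.pullbackPushforwardAdjunction (bmap (FibCat.overCat X) k)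
  rw [Mod.zero_app, ← cancel_epi ((adj.homEquiv _ _).symm (F.obj.map k rfl)), comp_zero,
    ← adj.homEquiv_naturality_right_symm, w.comm k rfl, h, zero_comp]
  exact adj.homAddEquiv_symm_zero _ _

/-- The sheaf on the scheme of a generating family separates. -/
theorem sep_of_isGenFam {κ : Type v} {E : κ → QCoh (FibCat.overCat X)} (hE : IsGenFam E)
    {M N : X.left.Modules} (hM : Coh.IsQCoh M) (hN : Coh.IsQCoh N) (u : M ⟶ N)
    (hu : ∀ (k : κ) (φ : (E k).obj.obj (Over.mk (𝟙 X)) ⟶ M), φ ≫ u = 0) : u = 0 := by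
  let o : (FibCat.overCat X).obj := Over.mk (𝟙 X)
  let u' : (⟨schMod M, isQCoh_schMod M hM⟩ : QCoh (FibCat.overCat X)) ⟶ ⟨schMod N, isQCoh_schMod N hN⟩ :=
    ObjectProperty.homMk (schHom u)
  have hz : u' = 0 := (isGenFam_iff _).1 hE u' fun k φ => by
    refine hom_eq_zero_of_top (F := E k) (G := ⟨schMod N, isQCoh_schMod N hN⟩) _ ?_
    let e : (schMod M).obj o ≅ M := (Scheme.Modules.pullbackId X.left).app M
    show φ.app o ≫ (Scheme.Modules.pullback (𝟙 X.left)).map u = 0
    rw [← cancel_mono ((Scheme.Modules.pullbackId X.left).app N).hom, zero_comp, Category.assoc]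
    refine Eq.trans ?_ (hu k (φ.app o ≫ e.hom))
    rw [Category.assoc]
    exact congrArg (φ.app o ≫ ·) ((Scheme.Modules.pullbackId X.left).hom.naturality u)
  have h0 : (Scheme.Modules.pullback (𝟙 X.left)).map u = 0 := congrArg (fun w => w.hom.app o) hz
  rw [← cancel_epi ((Scheme.Modules.pullbackId X.left).hom.app M), comp_zero,
    show (Scheme.Modules.pullbackId X.left).hom.app M ≫ u =
      (Scheme.Modules.pullback (𝟙 X.left)).map u ≫ (Scheme.Modules.pullbackId X.left).hom.app N from
    ((Scheme.Modules.pullbackId X.left).hom.naturality u).symm, h0, zero_comp]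

/-- A generating family of vector bundles on the category of points gives the resolution property. -/
theorem hasResolutionProperty_of_isGenFam [CompactSpace X.left] {κ : Type v} {E : κ → QCoh (FibCat.overCat X)}
    (hE : IsGenFam E) (hlf : ∀ k, FlatMod.IsFinLocFree ((E k).obj.obj (Over.mk (𝟙 X)))) :
    PerfAux.HasResolutionProperty X.left :=
  hasResolutionProperty_of_sep _ hlf fun hM hN u hu => sep_of_isGenFam hE hM hN u hu

end Groth.Agent.StQC14
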