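import Groth.Agent.Lib.ModM1.LocFree
import Groth.Agent.Lib.ModM1.Coh
import Mathlib.Algebra.Category.ModuleCat.Sheaf.LocallyFree

/-!
# Finite local freeness as local freeness with finite type
-/

universe u

open CategoryTheory Limits AlgebraicGeometry Opposite TopologicalSpace

set_option linter.style.haveILetI false
set_option linter.unusedSectionVars false
set_option backward.isDefEq.respectTransparency false
set_option backward.isDefEq.respectTransparency.types false

namespace Groth.Agent.StQC14

variable {X : Scheme.{u}}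

theorem isIso_genToRestrict {M : X.Modules} {U : X.Opens}
    (σ : SheafOfModules.GeneratingSections (SheafOfModules.over M U)) (h : IsIso σ.π) :
    IsIso (M1.genToRestrict σ).π := by
  haveI := h
  show IsIso (SheafOfModules.GeneratingSections.π (SheafOfModules.GeneratingSections.ofEpi
    (σ.map (Scheme.Modules.overEquiv U).functor (M1.overUnitIso U)) (M1.overToRestrictIso M U).hom))
  rw [SheafOfModules.GeneratingSections.ofEpi_π]
  infer_instance

theorem isIso_genOfRestrict {M : X.Modules} {U : X.Opens}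
    (σ : SheafOfModules.GeneratingSections (M.restrict U.ι)) (h : IsIso σ.π) :
    IsIso (M1.genOfRestrict σ).π := by
  haveI := h
  show IsIso (SheafOfModules.GeneratingSections.π (SheafOfModules.GeneratingSections.ofEpi
    (σ.map (Scheme.Modules.overEquiv U).inverse (M1.overInverseUnitIso U)) (M1.restrictToOverIso M U).hom))
  rw [SheafOfModules.GeneratingSections.ofEpi_π]
  infer_instance

/-- A locally free module of finite type is finite locally free. -/
theorem isFinLocFree_of_isLocallyFree {M : X.Modules}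
    (hLF : SheafOfModules.IsLocallyFree (R := X.ringCatSheaf) M) (hFT : CohB1.IsFT M) :
    FlatMod.IsFinLocFree M := by
  obtain ⟨q, hq⟩ := hLF.exists_isLocallyFreeData
  haveI := hq
  have hM : Coh.IsQCoh M := q.quasiCoherentData.isQuasicoherent
  haveI := hM
  intro x
  obtain ⟨i, hxi⟩ := M1.exists_mem_of_coversTop q.coversTop x
  let U : X.Opens := q.X i
  have hxU : x ∈ U := hxi
  let σ₀ : SheafOfModules.GeneratingSections (SheafOfModules.over M U) := q.generators i
  have hσ₀ : IsIso σ₀.π := hq.isIso i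
  let σ := M1.genToRestrict σ₀
  have hσ : IsIso σ.π := isIso_genToRestrict σ₀ hσ₀
  let e : M.restrict U.ι ≅ (M1.fr σ.I : (U : Scheme.{u}).Modules) := (@asIso _ _ _ _ σ.π hσ).symm
  obtain ⟨W, hW, hxW, hWU⟩ := exists_isAffineOpen_mem_and_subset (x := x) (U := U) hxU
  have h : Set.range hW.fromSpec ⊆ Set.range U.ι := by
    rw [IsAffineOpen.range_fromSpec, Scheme.Opens.range_ι]; exact hWU
  let l := IsOpenImmersion.lift U.ι hW.fromSpec h
  let e' : M.restrict hW.fromSpec ≅ (tilde.functor Γ(X, W)).obj (ModuleCat.of Γ(X, W) (σ.I →₀ Γ(X, W))) :=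
    (M1.restrictLiftIso M U.ι hW.fromSpec h).symm ≪≫
    (Scheme.Modules.restrictFunctor l).mapIso e ≪≫
      (M1.frRestrictIso l _).symm ≪≫ (M1.frTildeIso _).symm
  haveI : Module.Finite Γ(X, W) Γ(M, W) := M1.finite_sections hM hFT hW
  let L : (σ.I →₀ Γ(X, W)) ≃ₗ[Γ(X, W)] Γ(M, W) :=
    ((tilde.isoTop _ ≪≫ moduleSpecΓFunctor.mapIso e'.symm).toLinearEquiv).trans (M1.affineSecEquiv M hW)
  haveI : Nonempty (W : X.Opens) := ⟨⟨x, hxW⟩⟩
  haveI : Nontrivial Γ(X, W) := Scheme.component_nontrivial X W
  haveI : Finite σ.I := Module.Finite.finite_basis ((Finsupp.basisSingleOne).map L)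
  haveI : Fintype σ.I := Fintype.ofFinite _
  refine ⟨U, Fintype.card σ.I, hxU, ⟨?_⟩⟩
  refine e ≪≫ ?_ ≪≫ (M1.freeModFrIso _ _).symm
  exact Sigma.whiskerEquiv (f := fun _ : σ.I => Coh.structureModule (U : Scheme.{u}))
    (g := fun _ : ULift.{u} (Fin (Fintype.card σ.I)) => Coh.structureModule (U : Scheme.{u}))
    ((Fintype.equivFin σ.I).trans Equiv.ulift.symm) (fun _ => Iso.refl _)

set_option maxHeartbeats 400000 in
theorem isLocallyFree_of_isFinLocFree {M : X.Modules} (hM : FlatMod.IsFinLocFree M) :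
    SheafOfModules.IsLocallyFree (R := X.ringCatSheaf) M := by
  choose U n hU e using hM
  let p : ∀ x, (M1.fr (ULift.{u} (Fin (n x))) : (U x : Scheme.{u}).Modules) ⟶ M.restrict (U x).ι := fun x =>
    ((M1.freeModFrIso _ _).symm ≪≫ (e x).some.symm).hom
  have hp : ∀ x, IsIso (p x) := fun x => Iso.isIso_hom _
  haveI hp' : ∀ x, Epi (p x) := fun x => by haveI := hp x; infer_instance
  let σ : ∀ x, SheafOfModules.GeneratingSections (M.restrict (U x).ι) := fun x => M1.genOfEpi (p x)
  let q : SheafOfModules.LocalGeneratorsData.{u} (R := X.ringCatSheaf) M :=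
    { I := ↥X, X := U, coversTop := M1.coversTop_of_forall_mem U fun x => ⟨x, hU x⟩,
      generators := fun x => M1.genOfRestrict (σ x) }
  have hσ : ∀ x, IsIso (σ x).π := fun x => by
    have h : (σ x).π = p x := Equiv.symm_apply_apply _ _
    rw [h]
    exact hp x
  have hq : SheafOfModules.LocalGeneratorsData.IsLocallyFreeData (R := X.ringCatSheaf) q := by
    constructor
    intro x
    exact isIso_genOfRestrict (σ x) (hσ x)
  exact SheafOfModules.IsLocallyFree.mk (R := X.ringCatSheaf) (M := M) ⟨q, hq⟩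

theorem isFinLocFree_iff_locallyFree {M : X.Modules} : FlatMod.IsFinLocFree M ↔
    SheafOfModules.IsLocallyFree (R := X.ringCatSheaf) M ∧ CohB1.IsFT M :=
  ⟨fun h => ⟨isLocallyFree_of_isFinLocFree h, M1.isFP_isFT (M1.isFP_of_isFinLocFree h)⟩,
    fun h => isFinLocFree_of_isLocallyFree h.1 h.2⟩

end Groth.Agent.StQC14
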