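import Groth.Agent.Lib.ModM1.Fpqc
import Groth.Agent.Lib.StQC14.LocFree
import Mathlib.AlgebraicGeometry.Morphisms.UniversallyOpen

/-!
# Descent of finite local freeness along flat morphisms locally of finite presentation
-/

universe u

open CategoryTheory Limits AlgebraicGeometry Opposite TopologicalSpace

set_option linter.style.haveILetI false
set_option linter.unusedSectionVars false
set_option backward.isDefEq.respectTransparency false
set_option backward.isDefEq.respectTransparency.types false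

namespace Groth.Agent.StQC14

variable {X : Scheme.{u}}

/-- Finite local freeness is local. -/
theorem isFinLocFree_of_opens {M : X.Modules}
    (h : ∀ x : X, ∃ D : X.Opens, x ∈ D ∧ FlatMod.IsFinLocFree (M.restrict D.ι)) :
    FlatMod.IsFinLocFree M := fun x => by
  obtain ⟨D, hxD, hM⟩ := h x
  obtain ⟨U, n, hzU, ⟨e⟩⟩ := hM ⟨x, hxD⟩
  obtain ⟨V, m, hV, hiso⟩ := M1.exists_freeMod_of_openImmersion (M := M) (U.ι ≫ D.ι)
    ((M1.restrictRestrictIso M D.ι U.ι _ rfl).symm ≪≫ e ≪≫ M1.freeModFrIso _ n) ⟨⟨x, hxD⟩, hzU⟩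
  exact ⟨V, m, by simpa using hV, hiso⟩

/-- Finite local freeness descends along jointly surjective flat morphisms locally of finite presentation. -/
theorem isFinLocFree_of_flat_lfp_cover {M : X.Modules} (hM : Coh.IsQCoh M)
    (h : ∀ x : X, ∃ (W : Scheme.{u}) (g : W ⟶ X), Flat g ∧ LocallyOfFinitePresentation g ∧ x ∈ Set.range g ∧
      FlatMod.IsFinLocFree ((Scheme.Modules.pullback g).obj M)) :
    FlatMod.IsFinLocFree M := by
  refine isFinLocFree_of_opens fun x => ?_
  obtain ⟨W, g, hg, hg', ⟨w, rfl⟩, hW⟩ := h x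
  haveI := hg
  haveI := hg'
  obtain ⟨V, hV, hxV, -⟩ := exists_isAffineOpen_mem_and_subset (x := g w) (U := ⊤) trivial
  obtain ⟨A, hA, hwA, hAV⟩ := exists_isAffineOpen_mem_and_subset (x := w) (U := g ⁻¹ᵁ V) hxV
  have hopen : IsOpen (g '' A) := g.isOpenMap _ A.isOpen
  obtain ⟨f, hfD, hwD⟩ := hV.exists_basicOpen_le (V := ⟨g '' A, hopen⟩) ⟨g w, ⟨w, hwA, rfl⟩⟩ hxV
  let D := X.basicOpen f
  have hD : IsAffineOpen D := hV.basicOpen f
  let A' : W.Opens := W.basicOpen (g.appLE V A hAV f)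
  have hA' : IsAffineOpen A' := hA.basicOpen _
  have hA'eq : A' = A ⊓ g ⁻¹ᵁ D := by
    show W.basicOpen _ = _
    rw [Scheme.Hom.appLE, CommRingCat.comp_apply, Scheme.basicOpen_res, ← Scheme.preimage_basicOpen]
  have hle : A' ≤ g ⁻¹ᵁ D := hA'eq.le.trans inf_le_right
  let g₀ : (A' : Scheme.{u}) ⟶ (D : Scheme.{u}) := g.resLE D A' hle
  haveI : IsAffine (A' : Scheme.{u}) := hA'
  haveI : IsAffine (D : Scheme.{u}) := hD
  haveI : Surjective g₀ := ⟨fun d => by
    obtain ⟨a, ha, hae⟩ := hfD d.2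
    refine ⟨⟨a, ?_⟩, ?_⟩
    · rw [hA'eq]
      exact ⟨ha, by show g a ∈ D; rw [hae]; exact d.2⟩
    · apply D.ι.isOpenEmbedding.injective
      rw [← Scheme.Hom.comp_apply, Scheme.Hom.resLE_comp_ι]
      exact hae⟩
  refine ⟨D, hwD, M1.isFinLocFree_of_pullback_fpqc g₀ (M1.isQCoh_restrict hM D.ι) ?_⟩
  have h1 : FlatMod.IsFinLocFree ((Scheme.Modules.pullback (g₀ ≫ D.ι)).obj M) := by
    rw [show g₀ ≫ D.ι = A'.ι ≫ g from Scheme.Hom.resLE_comp_ι _ _]
    exact M2.isFinLocFree_of_iso ((Scheme.Modules.pullbackComp A'.ι g).app M) (M2.isFinLocFree_pullback A'.ι hW)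
  exact M2.isFinLocFree_of_iso
    (((Scheme.Modules.pullbackComp g₀ D.ι).app M).symm ≪≫
      (Scheme.Modules.pullback g₀).mapIso ((Scheme.Modules.restrictFunctorIsoPullback D.ι).app M).symm) h1

end Groth.Agent.StQC14
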