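import Groth.Agent.Lib.StQC14.Sect
import Groth.Agent.Lib.FC16.Comp

/-!
# The category of a functor over an object
-/

universe w' v' w v u

open CategoryTheory CategoryTheory.Functor CategoryTheory.Limits AlgebraicGeometry Opposite

set_option linter.style.haveILetI false
set_option linter.unusedSectionVars false
set_option backward.isDefEq.respectTransparency false
set_option backward.isDefEq.respectTransparency.types false

namespace Groth.Agent.StQC14

open StMod

variable {S : Scheme.{u}} {𝒳 : BasedCategory.{v, w} (Over S)} {𝒴 : BasedCategory.{v', w'} (Over S)}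

theorem fibCat_isFibGrpd (h : FibCat.IsFibGrpd 𝒳.p) (π : 𝒳 ⥤ᵇ 𝒴) (η : 𝒴.obj) :
    FibCat.IsFibGrpd (fibCat π η).p where
  exists_lift {x V} f := by
    obtain ⟨ξ', φ, hφ⟩ := h.exists_lift (x := x.left) f
    let y : (fibCat π η).obj := CostructuredArrow.mk (π.map φ ≫ x.hom)
    let m : y ⟶ x := CostructuredArrow.homMk φ rfl
    haveI : 𝒳.p.IsHomLift f ((CostructuredArrow.proj π.toFunctor η).map m) := hφ
    exact ⟨y, m, FC16.isHomLift_comp (F := CostructuredArrow.proj π.toFunctor η) (G := 𝒳.p) f m⟩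
  isStronglyCartesian {y x} φ :=
    { toIsHomLift := IsHomLift.map _ φ
      universal_property' := fun {z} g φ' hφ' => by
        haveI := h.isStronglyCartesian φ.left
        haveI hl : 𝒳.p.IsHomLift (g ≫ 𝒳.p.map φ.left) φ'.left :=
          @FC16.isHomLift_comp_map _ _ _ _ _ _ (CostructuredArrow.proj π.toFunctor η) 𝒳.p _ _ _ _ _ φ' hφ'
        let χ := IsStronglyCartesian.map 𝒳.p (𝒳.p.map φ.left) φ.left
          (g := g) (f' := g ≫ 𝒳.p.map φ.left) rfl φ'.left
        have hχ : χ ≫ φ.left = φ'.left := IsStronglyCartesian.fac _ _ _ _ _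
        have w : π.map χ ≫ y.hom = z.hom := by
          rw [← CostructuredArrow.w φ, ← Category.assoc, ← π.toFunctor.map_comp, hχ]
          exact CostructuredArrow.w φ'
        let m : z ⟶ y := CostructuredArrow.homMk χ w
        haveI hm : 𝒳.p.IsHomLift g ((CostructuredArrow.proj π.toFunctor η).map m) :=
          inferInstanceAs (𝒳.p.IsHomLift g χ)
        refine ⟨m, ⟨FC16.isHomLift_comp (F := CostructuredArrow.proj π.toFunctor η) (G := 𝒳.p) g m,
          CostructuredArrow.hom_ext _ _ hχ⟩, ?_⟩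
        rintro m' ⟨hm', e⟩
        haveI : 𝒳.p.IsHomLift g m'.left :=
          @FC16.isHomLift_comp_map _ _ _ _ _ _ (CostructuredArrow.proj π.toFunctor η) 𝒳.p _ _ g _ _ m' hm'
        haveI : 𝒳.p.IsHomLift g m.left := hm
        haveI : 𝒳.p.IsHomLift g χ := hm
        refine CostructuredArrow.hom_ext _ _ (IsStronglyCartesian.ext 𝒳.p (𝒳.p.map φ.left) φ.left g ?_)
        show m'.left ≫ φ.left = χ ≫ φ.left
        rw [hχ, ← e]
        first | rfl | done }

/-- The structure morphism of an object over `η` to the scheme under `η`. -/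
def str (π : 𝒳 ⥤ᵇ 𝒴) (η : 𝒴.obj) (x : (fibCat π η).obj) : sch (fibCat π η) x ⟶ sch 𝒴 η :=
  (baseOver π x.left x.hom).left

theorem bmap_str (π : 𝒳 ⥤ᵇ 𝒴) (η : 𝒴.obj) {x' x : (fibCat π η).obj} (φ : x' ⟶ x) :
    bmap (fibCat π η) φ ≫ str π η x = str π η x' := by
  show bmap 𝒳 φ.left ≫ (baseOver π x.left x.hom).left = (baseOver π x'.left x'.hom).left
  rw [bmap_comp_baseOver_left, show π.map φ.left ≫ x.hom = x'.hom from CostructuredArrow.w φ]

theorem bmap_map (π : 𝒳 ⥤ᵇ 𝒴) {ξ' ξ : 𝒳.obj} (φ : ξ' ⟶ ξ) :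
    bmap 𝒴 (π.map φ) = eqToHom (sch_obj_eq π ξ') ≫ bmap 𝒳 φ ≫ eqToHom (sch_obj_eq π ξ).symm := by
  have h := bmap_map_comm π φ (g := bmap 𝒳 φ) rfl
  rw [← Category.assoc, ← h]
  simp

/-- The structure morphism is the base of the structure map. -/
theorem str_eq (π : 𝒳 ⥤ᵇ 𝒴) (η : 𝒴.obj) (x : (fibCat π η).obj) :
    str π η x = eqToHom (sch_obj_eq π x.left).symm ≫ bmap 𝒴 x.hom := by
  show (eqToHom (π.w_obj x.left).symm ≫ 𝒴.p.map x.hom).left = _
  rw [Over.comp_left, Over.eqToHom_left]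

end Groth.Agent.StQC14
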