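import Groth.Agent.Lib.StQC14.AffGen
import Groth.Agent.Lib.StQC14.Fib

/-!
# Affine objects over a final object give affine pieces
-/

universe w' v' w v u

open CategoryTheory CategoryTheory.Functor CategoryTheory.Limits AlgebraicGeometry Opposite

set_option linter.style.haveILetI false
set_option linter.unusedSectionVars false
set_option backward.isDefEq.respectTransparency false
set_option backward.isDefEq.respectTransparency.types false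
set_option maxHeartbeats 400000

namespace Groth.Agent.StQC14

open StMod

variable {S : Scheme.{u}} {𝒳 : BasedCategory.{v, w} (Over S)} {𝒵 : BasedCategory.{v', w'} (Over S)}

variable (π : 𝒳 ⥤ᵇ 𝒵) {θ τ : 𝒵.obj} (tt : ∀ z : 𝒵.obj, z ⟶ τ)

/-- The structure morphism to the scheme under a final object. -/
def toTau (x : 𝒳.obj) : sch 𝒳 x ⟶ sch 𝒵 τ :=
  eqToHom (sch_obj_eq π x).symm ≫ bmap 𝒵 (tt (π.obj x))

variable {π} {tt}

theorem toTau_nat (hτ : ∀ {z : 𝒵.obj} (a b : z ⟶ τ), a = b) {x' x : 𝒳.obj} (φ : x' ⟶ x) :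
    bmap 𝒳 φ ≫ toTau π tt x = toTau π tt x' := by
  rw [toTau, toTau, hτ (tt (π.obj x')) (π.map φ ≫ tt (π.obj x)), bmap_comp, bmap_map π φ]
  simp

theorem str_comp (hτ : ∀ {z : 𝒵.obj} (a b : z ⟶ τ), a = b) (d : (fibCat π θ).obj) :
    str π θ d ≫ bmap 𝒵 (tt θ) = toTau π tt d.left := by
  rw [str_eq, toTau, Category.assoc, ← bmap_comp]
  exact congrArg (fun a => eqToHom (sch_obj_eq π d.left).symm ≫ bmap 𝒵 a) (hτ (d.hom ≫ tt θ) (tt (π.obj d.left)))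

/-- Objects over `θ` and pieces. -/
theorem exists_fib_piece (h𝒳 : FibCat.IsFibGrpd 𝒳.p) (h𝒵 : FibCat.IsFibGrpd 𝒵.p)
    (hτ : ∀ {z : 𝒵.obj} (a b : z ⟶ τ), a = b) (x : 𝒳.obj) :
    ∃ (d : (fibCat π θ).obj) (κ : (CostructuredArrow.proj π.toFunctor θ).obj d ⟶ x),
      IsPullback (bmap 𝒳 κ) (str π θ d) (toTau π tt x) (bmap 𝒵 (tt θ)) := by
  obtain ⟨x', φ, e, he⟩ := exists_lift_to h𝒳 x (pullback.fst (toTau π tt x) (bmap 𝒵 (tt θ)))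
  obtain ⟨k, -, hk⟩ := exists_factor h𝒵 (tt θ) (tt (π.obj x'))
    (eqToHom (sch_obj_eq π x') ≫ e.hom ≫ pullback.snd (toTau π tt x) (bmap 𝒵 (tt θ))) (by
      have h := toTau_nat (π := π) (tt := tt) hτ φ
      rw [he, Category.assoc, pullback.condition] at h
      rw [Category.assoc, Category.assoc, h, toTau]
      simp)
  refine ⟨CostructuredArrow.mk (S := π.toFunctor) (Y := x') k, φ, ?_⟩
  refine (IsPullback.of_hasPullback (toTau π tt x) (bmap 𝒵 (tt θ))).of_iso e.symm (Iso.refl _) (Iso.refl _)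
    (Iso.refl _) ?_ ?_ (by simp) (by simp)
  · show _ = e.inv ≫ bmap 𝒳 φ
    rw [he]
    simp
  · rw [str_eq]
    show _ = e.inv ≫ eqToHom (sch_obj_eq π x').symm ≫ bmap 𝒵 k
    rw [hk]
    simp

theorem fib_piece_ext (h𝒳 : FibCat.IsFibGrpd 𝒳.p) {x : 𝒳.obj} {d d' : (fibCat π θ).obj}
    (κ : (CostructuredArrow.proj π.toFunctor θ).obj d ⟶ x)
    (hκ : IsPullback (bmap 𝒳 κ) (str π θ d) (toTau π tt x) (bmap 𝒵 (tt θ))) (k k' : d' ⟶ d)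
    (e : k.left ≫ κ = k'.left ≫ κ) : k = k' := by
  refine CostructuredArrow.hom_ext _ _ (factor_unique h𝒳 κ e (hκ.hom_ext ?_ ?_))
  · exact (bmap_comp _ _).symm.trans ((congrArg (bmap 𝒳) e).trans (bmap_comp _ _))
  · exact (bmap_str π θ k).trans (bmap_str π θ k').symm

theorem fib_piece_exists (h𝒳 : FibCat.IsFibGrpd 𝒳.p) (h𝒵 : FibCat.IsFibGrpd 𝒵.p)
    (hτ : ∀ {z : 𝒵.obj} (a b : z ⟶ τ), a = b) {x : 𝒳.obj} {d d' : (fibCat π θ).obj}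
    (κ : (CostructuredArrow.proj π.toFunctor θ).obj d ⟶ x)
    (hκ : IsPullback (bmap 𝒳 κ) (str π θ d) (toTau π tt x) (bmap 𝒵 (tt θ)))
    (ψ : (CostructuredArrow.proj π.toFunctor θ).obj d' ⟶ x) : ∃ k : d' ⟶ d, k.left ≫ κ = ψ := by
  have hw : bmap 𝒳 ψ ≫ toTau π tt x = str π θ d' ≫ bmap 𝒵 (tt θ) :=
    (toTau_nat hτ ψ).trans (str_comp hτ d').symm
  obtain ⟨m, hm, hb⟩ := exists_factor h𝒳 κ ψ (hκ.lift _ _ hw) (hκ.lift_fst _ _ hw)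
  refine ⟨CostructuredArrow.homMk m ?_, hm⟩
  show π.map m ≫ d.hom = d'.hom
  refine factor_unique h𝒵 (tt θ) (hτ _ _) ?_
  have h2 := hκ.lift_snd _ _ hw
  rw [← hb, str_eq, str_eq] at h2
  rw [bmap_comp, bmap_map π m, Category.assoc, Category.assoc]
  refine (congrArg (eqToHom (sch_obj_eq π d'.left) ≫ ·) h2).trans ?_
  simp

section Pieces

variable (π) (tt) (θ) (h𝒳 : FibCat.IsFibGrpd 𝒳.p) (h𝒵 : FibCat.IsFibGrpd 𝒵.p)
  (hτ : ∀ {z : 𝒵.obj} (a b : z ⟶ τ), a = b)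

/-- The piece over `θ` of an object. -/
noncomputable def pieceObj (x : 𝒳.obj) : (fibCat π θ).obj :=
  (exists_fib_piece (π := π) (tt := tt) (θ := θ) h𝒳 h𝒵 hτ x).choose

/-- Its projection. -/
noncomputable def pieceκ (x : 𝒳.obj) :
    (CostructuredArrow.proj π.toFunctor θ).obj (pieceObj π θ tt h𝒳 h𝒵 hτ x) ⟶ x :=
  (exists_fib_piece (π := π) (tt := tt) (θ := θ) h𝒳 h𝒵 hτ x).choose_spec.choose

theorem piece_sq (x : 𝒳.obj) :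
    IsPullback (bmap 𝒳 (pieceκ π θ tt h𝒳 h𝒵 hτ x)) (str π θ (pieceObj π θ tt h𝒳 h𝒵 hτ x)) (toTau π tt x)
      (bmap 𝒵 (tt θ)) :=
  (exists_fib_piece (π := π) (tt := tt) (θ := θ) h𝒳 h𝒵 hτ x).choose_spec.choose_spec

/-- The morphism to a piece. -/
noncomputable def pieceHom {x : 𝒳.obj} (d : (fibCat π θ).obj) (ψ : d.left ⟶ x) :
    d ⟶ pieceObj π θ tt h𝒳 h𝒵 hτ x :=
  (fib_piece_exists h𝒳 h𝒵 hτ _ (piece_sq π θ tt h𝒳 h𝒵 hτ x) ψ).choose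

theorem pieceHom_fac {x : 𝒳.obj} (d : (fibCat π θ).obj) (ψ : d.left ⟶ x) :
    (pieceHom π θ tt h𝒳 h𝒵 hτ d ψ).left ≫ pieceκ π θ tt h𝒳 h𝒵 hτ x = ψ :=
  (fib_piece_exists h𝒳 h𝒵 hτ _ (piece_sq π θ tt h𝒳 h𝒵 hτ x) ψ).choose_spec

/-- The pieces over `θ`. -/
noncomputable def fibLift (haff : IsAffineHom (bmap 𝒵 (tt θ))) :
    AffLift (CostructuredArrow.proj π.toFunctor θ) where
  lift := pieceObj π θ tt h𝒳 h𝒵 hτ
  κ := pieceκ π θ tt h𝒳 h𝒵 hτ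
  affine x := MorphismProperty.of_isPullback (piece_sq π θ tt h𝒳 h𝒵 hτ x).flip haff
  map {x' x} φ := pieceHom π θ tt h𝒳 h𝒵 hτ (pieceObj π θ tt h𝒳 h𝒵 hτ x') (pieceκ π θ tt h𝒳 h𝒵 hτ x' ≫ φ)
  fac {x' x} φ := pieceHom_fac π θ tt h𝒳 h𝒵 hτ _ _
  sq {x' x} φ := by
    have hk := pieceHom_fac π θ tt h𝒳 h𝒵 hτ (pieceObj π θ tt h𝒳 h𝒵 hτ x')
      (pieceκ π θ tt h𝒳 h𝒵 hτ x' ≫ φ)
    refine IsPullback.of_right ?_ ((bmap_comp _ _).symm.trans ((congrArg (bmap 𝒳) hk).trans (bmap_comp _ _)))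
      (piece_sq π θ tt h𝒳 h𝒵 hτ x).flip
    rw [toTau_nat hτ φ]
    erw [bmap_str π θ (pieceHom π θ tt h𝒳 h𝒵 hτ (pieceObj π θ tt h𝒳 h𝒵 hτ x')
      (pieceκ π θ tt h𝒳 h𝒵 hτ x' ≫ φ))]
    exact (piece_sq π θ tt h𝒳 h𝒵 hτ x').flip
  map_id x := fib_piece_ext h𝒳 _ (piece_sq π θ tt h𝒳 h𝒵 hτ x) _ _
    ((pieceHom_fac π θ tt h𝒳 h𝒵 hτ _ _).trans ((Category.comp_id _).trans (Category.id_comp _).symm))
  map_comp {x'' x' x} ψ φ := fib_piece_ext h𝒳 _ (piece_sq π θ tt h𝒳 h𝒵 hτ x) _ _ (by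
    refine (pieceHom_fac π θ tt h𝒳 h𝒵 hτ _ _).trans (Eq.symm ?_)
    exact (Category.assoc _ _ _).trans
      ((congrArg (_ ≫ ·) (pieceHom_fac π θ tt h𝒳 h𝒵 hτ _ _)).trans ((Category.assoc _ _ _).symm.trans
        ((congrArg (· ≫ φ) (pieceHom_fac π θ tt h𝒳 h𝒵 hτ _ _)).trans (Category.assoc _ _ _)))))

/-- The sections of the pieces. -/
noncomputable def fibLiftSec (haff : IsAffineHom (bmap 𝒵 (tt θ))) :
    (fibLift π θ tt h𝒳 h𝒵 hτ haff).Sec where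
  σ d := pieceHom π θ tt h𝒳 h𝒵 hτ d (𝟙 d.left)
  fac d := pieceHom_fac π θ tt h𝒳 h𝒵 hτ _ _
  nat {d' d} k := fib_piece_ext h𝒳 _ (piece_sq π θ tt h𝒳 h𝒵 hτ d.left) _ _ (by
    refine ((Category.assoc _ _ _).trans ((congrArg (_ ≫ ·) (pieceHom_fac π θ tt h𝒳 h𝒵 hτ _ _)).trans
      ((Category.assoc _ _ _).symm.trans ((congrArg (· ≫ k.left) (pieceHom_fac π θ tt h𝒳 h𝒵 hτ _ _)).trans
        (Category.id_comp _))))).trans (Eq.symm ?_)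
    exact (Category.assoc _ _ _).trans
      ((congrArg (_ ≫ ·) (pieceHom_fac π θ tt h𝒳 h𝒵 hτ _ _)).trans (Category.comp_id _)))
  retr x := fib_piece_ext h𝒳 _ (piece_sq π θ tt h𝒳 h𝒵 hτ x) _ _ (by
    refine (Category.assoc _ _ _).trans ((congrArg (_ ≫ ·) (pieceHom_fac π θ tt h𝒳 h𝒵 hτ _ _)).trans
      ((Category.assoc _ _ _).symm.trans ((congrArg (· ≫ pieceκ π θ tt h𝒳 h𝒵 hτ x)
        (pieceHom_fac π θ tt h𝒳 h𝒵 hτ _ _)).trans ?_)))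
    rfl)

end Pieces

end Groth.Agent.StQC14
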