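import Groth.Agent.Lib.StQC14.AffPush

/-!
# Generating families restrict along affine morphisms
-/

universe w' v' t w v u

open CategoryTheory CategoryTheory.Functor CategoryTheory.Limits AlgebraicGeometry Opposite

set_option linter.style.haveILetI false
set_option linter.unusedSectionVars false
set_option backward.isDefEq.respectTransparency false
set_option backward.isDefEq.respectTransparency.types false
set_option maxHeartbeats 400000

namespace Groth.Agent.StQC14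

open StMod

variable {S : Scheme.{u}} {𝒳 : BasedCategory.{v, w} (Over S)} {D : Type w'} [Category.{v'} D]

/-- Sections of a coherent choice of affine pieces. -/
structure AffLift.Sec {T : D ⥤ 𝒳.obj} (A : AffLift T) where
  σ : ∀ d, d ⟶ A.lift (T.obj d)
  fac : ∀ d, T.map (σ d) ≫ A.κ (T.obj d) = 𝟙 _
  nat : ∀ {d' d : D} (k : d' ⟶ d), σ d' ≫ A.map (T.map k) = k ≫ σ d
  retr : ∀ x, σ (A.lift x) ≫ A.map (A.κ x) = 𝟙 (A.lift x)

/-- Morphisms commute with comparison maps. -/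
theorem resO_app {ℰ : BasedCategory.{v', w'} (Over S)} {M N : Mod ℰ} (u : M ⟶ N) {a b : ℰ.obj} (k : a ⟶ b)
    (W : (sch ℰ b).Opens) (V : (sch ℰ a).Opens) (hle : V ≤ bmap ℰ k ⁻¹ᵁ W) (s : Γ(M.obj b, W)) :
    (u.app a).app V (resO M k W V hle s) = resO N k W V hle ((u.app b).app W s) := by
  have e := congrArg (fun f => Scheme.Modules.Hom.app f W s) (u.comm k (g := bmap ℰ k) rfl)
  simp only [Scheme.Modules.Hom.comp_app, Scheme.Modules.pushforward_map_app] at e
  show (u.app a).app V (M1.mres (M.obj a) hle ((M.map k rfl).app W s)) =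
    M1.mres (N.obj a) hle ((N.map k rfl).app W ((u.app b).app W s))
  rw [M1.app_mres]
  exact congrArg _ e

variable {T : D ⥤ 𝒳.obj} (A : AffLift T)

/-- Morphisms into the direct image restrict. -/
theorem AffLift.le_sec (σ : A.Sec) (d : D) (U : (sch 𝒳 (T.obj d)).Opens) :
    (U : (sch (resCat T) d).Opens) ≤
      bmap (resCat T) (ξ' := d) (ξ := A.lift (T.obj d)) (σ.σ d) ⁻¹ᵁ (bmap 𝒳 (A.κ (T.obj d)) ⁻¹ᵁ U) := by
  show (U : (sch 𝒳 (T.obj d)).Opens) ≤ bmap 𝒳 (T.map (σ.σ d)) ⁻¹ᵁ (bmap 𝒳 (A.κ (T.obj d)) ⁻¹ᵁ U)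
  rw [← Scheme.Hom.comp_preimage, ← bmap_comp, σ.fac, bmap_id]
  exact le_rfl

/-- The component of the transpose. -/
noncomputable def AffLift.transApp {E : Mod 𝒳} {M : Mod (resCat T)} (σ : A.Sec) (ψ : E ⟶ A.push M) (d : D) :
    E.obj (T.obj d) ⟶ M.obj d :=
  ψ.app (T.obj d) ≫ (Scheme.Modules.pushforward (bmap 𝒳 (A.κ (T.obj d)))).map
      (M.map (ξ' := d) (ξ := A.lift (T.obj d)) (σ.σ d) rfl) ≫
    (Scheme.Modules.pushforwardComp (bmap (resCat T) (ξ' := d) (ξ := A.lift (T.obj d)) (σ.σ d))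
      (bmap 𝒳 (A.κ (T.obj d)))).hom.app (M.obj d) ≫
    (Scheme.Modules.pushforwardCongr (show bmap (resCat T) (ξ' := d) (ξ := A.lift (T.obj d)) (σ.σ d) ≫
        bmap 𝒳 (A.κ (T.obj d)) = 𝟙 (sch 𝒳 (T.obj d)) from
      ((bmap_comp _ _).symm.trans (congrArg (bmap 𝒳) (σ.fac d))).trans (bmap_id _))).hom.app (M.obj d) ≫
    (Scheme.Modules.pushforwardId _).hom.app (M.obj d)

theorem AffLift.transApp_app {E : Mod 𝒳} {M : Mod (resCat T)} (σ : A.Sec) (ψ : E ⟶ A.push M) (d : D)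
    (U : (sch 𝒳 (T.obj d)).Opens) (s : Γ(E.obj (T.obj d), U)) :
    (A.transApp σ ψ d).app U s =
      resO M (a := d) (b := A.lift (T.obj d)) (σ.σ d) (bmap 𝒳 (A.κ (T.obj d)) ⁻¹ᵁ U) U (A.le_sec σ d U)
        ((ψ.app (T.obj d)).app U s) := by
  simp only [AffLift.transApp, Scheme.Modules.Hom.comp_app, Scheme.Modules.pushforward_map_app,
    Scheme.Modules.pushforwardComp_hom_app_app, Scheme.Modules.pushforwardCongr_hom_app_app,
    Scheme.Modules.pushforwardId_hom_app_app, Category.comp_id, Category.id_comp]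
  rfl

/-- The transpose of a morphism into the direct image. -/
noncomputable def AffLift.trans {E : Mod 𝒳} {M : Mod (resCat T)} (σ : A.Sec) (ψ : E ⟶ A.push M) :
    Mod.comap (resIncl T) E ⟶ M where
  app d := A.transApp σ ψ d
  comm {d' d} k {g} hg := by
    subst hg
    refine Scheme.Modules.hom_ext _ _ fun U => ConcreteCategory.hom_ext _ _ fun s => ?_
    show (A.transApp σ ψ d').app (bmap (resCat T) k ⁻¹ᵁ U)
        (((Mod.comap (resIncl T) E).map k rfl).app U s) =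
      (M.map k rfl).app U ((A.transApp σ ψ d).app U s)
    rw [Mod.comap_map]
    erw [castMap_rfl_self]
    have hψ : (ψ.app (T.obj d')).app (bmap 𝒳 (T.map k) ⁻¹ᵁ U) ((E.map (T.map k) rfl).app U s) =
        (A.pushMap M (T.map k) rfl).app U ((ψ.app (T.obj d)).app U s) :=
      congr($(congrArg (fun f => Scheme.Modules.Hom.app f U) (ψ.comm (T.map k) rfl)) s)
    refine (A.transApp_app σ ψ d' _ _).trans ?_
    refine (congrArg (resO M (a := d') (b := A.lift (T.obj d')) (σ.σ d') _ _ _) hψ).trans ?_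
    refine (congrArg (resO M (a := d') (b := A.lift (T.obj d')) (σ.σ d') _ _ _)
      (A.pushMap_app M (T.map k) rfl U _)).trans ?_
    refine Eq.trans ?_ (congrArg ((M.map k rfl).app U) (A.transApp_app σ ψ d U s).symm)
    have hU : bmap (resCat T) k ⁻¹ᵁ U ≤ bmap (resCat T) (ξ' := d') (ξ := A.lift (T.obj d))
        (σ.σ d' ≫ A.map (T.map k)) ⁻¹ᵁ (bmap 𝒳 (A.κ (T.obj d)) ⁻¹ᵁ U) := by
      rw [bmap_comp, Scheme.Hom.comp_preimage]
      exact (A.le_sec σ d' _).trans ((bmap (resCat T) (ξ' := d') (ξ := A.lift (T.obj d')) (σ.σ d')).preimage_mono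
        (A.le_preimage (T.map k) rfl U))
    refine (resO_comp M (a := d') (b := A.lift (T.obj d')) (c := A.lift (T.obj d)) (σ.σ d') (A.map (T.map k))
      _ _ _ (A.le_preimage (T.map k) rfl U) (A.le_sec σ d' _) hU _).symm.trans ?_
    rw [resO_congr M (σ.nat k)]
    refine (resO_comp M (a := d') (b := d) (c := A.lift (T.obj d)) k (σ.σ d) _ U _ (A.le_sec σ d U) le_rfl _ _).trans ?_
    exact M1.mres_id _ _ _

/-- A morphism into the direct image is recovered from its transpose. -/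
theorem AffLift.app_eq_trans {E : Mod 𝒳} {M : Mod (resCat T)} (σ : A.Sec) (ψ : E ⟶ A.push M) (x : 𝒳.obj)
    (U : (sch 𝒳 x).Opens) (s : Γ(E.obj x, U)) :
    (ψ.app x).app U s =
      (A.transApp σ ψ (A.lift x)).app (bmap 𝒳 (A.κ x) ⁻¹ᵁ U) ((E.map (A.κ x) rfl).app U s) := by
  refine Eq.symm ((A.transApp_app σ ψ (A.lift x) _ _).trans ?_)
  have hψ : (ψ.app (T.obj (A.lift x))).app (bmap 𝒳 (A.κ x) ⁻¹ᵁ U) ((E.map (A.κ x) rfl).app U s) =
      (A.pushMap M (A.κ x) rfl).app U ((ψ.app x).app U s) :=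
    congr($(congrArg (fun f => Scheme.Modules.Hom.app f U) (ψ.comm (A.κ x) rfl)) s)
  refine (congrArg (resO M (a := A.lift x) (b := A.lift (T.obj (A.lift x))) (σ.σ (A.lift x)) _ _ _) hψ).trans ?_
  refine (congrArg (resO M (a := A.lift x) (b := A.lift (T.obj (A.lift x))) (σ.σ (A.lift x)) _ _ _)
    (A.pushMap_app M (A.κ x) rfl U _)).trans ?_
  have hU : (bmap 𝒳 (A.κ x) ⁻¹ᵁ U : (sch (resCat T) (A.lift x)).Opens) ≤ bmap (resCat T) (ξ' := A.lift x)
      (ξ := A.lift x) (σ.σ (A.lift x) ≫ A.map (A.κ x)) ⁻¹ᵁ (bmap 𝒳 (A.κ x) ⁻¹ᵁ U) := by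
    rw [σ.retr, bmap_id]
    exact le_rfl
  refine (resO_comp M (a := A.lift x) (b := A.lift (T.obj (A.lift x))) (c := A.lift x) (σ.σ (A.lift x))
    (A.map (A.κ x)) _ _ _ (A.le_preimage (A.κ x) rfl U) (A.le_sec σ (A.lift x) _) hU _).symm.trans ?_
  rw [resO_congr M (σ.retr x)]
  refine (resO_id M (a := A.lift x) _ _ _ le_rfl _).trans ?_
  exact M1.mres_id _ _ _

/-- The direct image of a morphism. -/
noncomputable def AffLift.pushHom {M N : Mod (resCat T)} (u : M ⟶ N) : A.push M ⟶ A.push N where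
  app x := (Scheme.Modules.pushforward (bmap 𝒳 (A.κ x))).map (u.app (A.lift x))
  comm {x' x} φ {g} hg := by
    refine Scheme.Modules.hom_ext _ _ fun U => ConcreteCategory.hom_ext _ _ fun s => ?_
    show (u.app (A.lift x')).app (bmap 𝒳 (A.κ x') ⁻¹ᵁ (g ⁻¹ᵁ U)) ((A.pushMap M φ hg).app U s) =
      (A.pushMap N φ hg).app U ((u.app (A.lift x)).app (bmap 𝒳 (A.κ x) ⁻¹ᵁ U) s)
    refine Eq.trans (congrArg _ (A.pushMap_app M φ hg U s)) (Eq.trans ?_ (A.pushMap_app N φ hg U _).symm)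
    exact resO_app u (a := A.lift x') (b := A.lift x) (A.map φ) _ _ (A.le_preimage φ hg U) _

/-- Generating families restrict along affine morphisms. -/
theorem AffLift.isGenFam (σ : A.Sec) (hfib : FibCat.IsFibGrpd (resCat T).p) {ι : Type t} {E : ι → QCoh 𝒳}
    (hE : IsGenFam E) : IsGenFam (fun i => (comapQ (resIncl T)).obj (E i)) := by
  refine (isGenFam_iff _).2 fun M N u hu => ?_
  let M' : QCoh 𝒳 := ⟨A.push M.obj, A.isQCoh_push M.obj M.property⟩
  let N' : QCoh 𝒳 := ⟨A.push N.obj, A.isQCoh_push N.obj N.property⟩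
  let u' : M' ⟶ N' := ObjectProperty.homMk (A.pushHom u.hom)
  have hz : u' = 0 := by
    refine (isGenFam_iff _).1 hE u' fun i ψ => Mod.hom_ext fun x => ?_
    refine Scheme.Modules.hom_ext _ _ fun U => ConcreteCategory.hom_ext _ _ fun s => ?_
    show (u.hom.app (A.lift x)).app (bmap 𝒳 (A.κ x) ⁻¹ᵁ U) ((ψ.app x).app U s) = 0
    rw [A.app_eq_trans σ ψ x U s]
    have h := congrArg (fun v : Mod.comap (resIncl T) (E i).obj ⟶ N.obj =>
      (v.app (A.lift x)).app (bmap 𝒳 (A.κ x) ⁻¹ᵁ U) (((E i).obj.map (A.κ x) rfl).app U s)) (hu i (A.trans σ ψ))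
    simp only [Mod.comp_app, Mod.zero_app, Scheme.Modules.Hom.comp_app] at h
    exact h
  refine InducedCategory.hom_ext (hom_ext_affine hfib M.property N.property fun d hd z => ?_)
  haveI : IsAffine (sch 𝒳 (T.obj d)) := hd
  haveI : IsAffine (sch (resCat T) (A.lift (T.obj d))) := isAffine_of_isAffineHom (bmap 𝒳 (A.κ (T.obj d)))
  show (u.hom.app d).app ⊤ z = ((0 : M.obj ⟶ N.obj).app d).app ⊤ z
  rw [Mod.zero_app]
  show (u.hom.app d).app ⊤ z = 0
  have h0 : ∀ w, (u.hom.app (A.lift (T.obj d))).app ⊤ w = 0 := fun w =>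
    congrArg (fun v : M' ⟶ N' => (v.hom.app (T.obj d)).app ⊤ w) hz
  induction (isBC_secL (ξ' := d) (ξ := A.lift (T.obj d)) (σ.σ d) M.property).span z
    using Submodule.span_induction with
  | mem z hz =>
    obtain ⟨w, rfl⟩ := hz
    rw [secL_apply, ← Mod.mapTop_app, h0]
    exact N.obj.mapTop_zero _
  | zero => exact _root_.map_zero _
  | add a b _ _ ha hb => rw [_root_.map_add, ha, hb, add_zero]
  | smul c a _ ha => rw [Scheme.Modules.Hom.app_smul, ha, smul_zero]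

end Groth.Agent.StQC14
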