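import Groth.Agent.Lib.StQC14.Flat
import Groth.Agent.Lib.PullBC11.AffineBC

/-!
# Direct images of quasi-coherent modules along affine morphisms of fibred categories
-/

universe w' v' w v u

open CategoryTheory CategoryTheory.Functor CategoryTheory.Limits AlgebraicGeometry Opposite

set_option linter.style.haveILetI false
set_option linter.unusedSectionVars false
set_option backward.isDefEq.respectTransparency false
set_option backward.isDefEq.respectTransparency.types false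

set_option maxHeartbeats 400000

namespace Groth.Agent.StQC14

open StMod

variable {S : Scheme.{u}} {𝒳 : BasedCategory.{v, w} (Over S)} {D : Type w'} [Category.{v'} D]

/-- A coherent choice of an affine piece of `D` over every object of `𝒳`. -/
structure AffLift (T : D ⥤ 𝒳.obj) where
  lift : 𝒳.obj → D
  κ : ∀ x, T.obj (lift x) ⟶ x
  affine : ∀ x, IsAffineHom (bmap 𝒳 (κ x))
  map : ∀ {x' x : 𝒳.obj}, (x' ⟶ x) → (lift x' ⟶ lift x)
  fac : ∀ {x' x : 𝒳.obj} (φ : x' ⟶ x), T.map (map φ) ≫ κ x = κ x' ≫ φ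
  sq : ∀ {x' x : 𝒳.obj} (φ : x' ⟶ x),
    IsPullback (bmap 𝒳 (T.map (map φ))) (bmap 𝒳 (κ x')) (bmap 𝒳 (κ x)) (bmap 𝒳 φ)
  map_id : ∀ x, map (𝟙 x) = 𝟙 (lift x)
  map_comp : ∀ {x'' x' x : 𝒳.obj} (ψ : x'' ⟶ x') (φ : x' ⟶ x), map (ψ ≫ φ) = map ψ ≫ map φ

attribute [instance] AffLift.affine

section Res

variable {ℰ : BasedCategory.{v', w'} (Over S)} (M : Mod ℰ) {a b c : ℰ.obj}

/-- Comparison maps between sections over opens. -/
noncomputable def resO (k : a ⟶ b) (W : (sch ℰ b).Opens) (V : (sch ℰ a).Opens) (hle : V ≤ bmap ℰ k ⁻¹ᵁ W)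
    (x : Γ(M.obj b, W)) : Γ(M.obj a, V) :=
  M1.mres (M.obj a) hle ((M.map k rfl).app W x)

theorem resO_congr {k k' : a ⟶ b} (e : k = k') (W : (sch ℰ b).Opens) (V : (sch ℰ a).Opens)
    (hle : V ≤ bmap ℰ k ⁻¹ᵁ W) (x : Γ(M.obj b, W)) :
    resO M k W V hle x = resO M k' W V (e ▸ hle) x := by
  subst e
  rfl

theorem resO_name (k : a ⟶ b) {g : sch ℰ a ⟶ sch ℰ b} (hg : bmap ℰ k = g) (W : (sch ℰ b).Opens)
    (V : (sch ℰ a).Opens) (hle : V ≤ bmap ℰ k ⁻¹ᵁ W) (x : Γ(M.obj b, W)) :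
    resO M k W V hle x = M1.mres (M.obj a) (hg ▸ hle) ((M.map k hg).app W x) := by
  subst hg
  rfl

theorem resO_id (W V : (sch ℰ a).Opens) (hle : V ≤ bmap ℰ (𝟙 a) ⁻¹ᵁ W) (hVW : V ≤ W) (x : Γ(M.obj a, W)) :
    resO M (𝟙 a) W V hle x = M1.mres (M.obj a) hVW x := by
  rw [resO_name M _ (bmap_id a), M.map_id_app]
  rfl

theorem resO_comp (p : a ⟶ b) (q : b ⟶ c) (W : (sch ℰ c).Opens) (V : (sch ℰ b).Opens) (U : (sch ℰ a).Opens)
    (h₁ : V ≤ bmap ℰ q ⁻¹ᵁ W) (h₂ : U ≤ bmap ℰ p ⁻¹ᵁ V) (h : U ≤ bmap ℰ (p ≫ q) ⁻¹ᵁ W) (x : Γ(M.obj c, W)) :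
    resO M (p ≫ q) W U h x = resO M p V U h₂ (resO M q W V h₁ x) := by
  rw [resO_name M (p ≫ q) (bmap_comp p q), M.map_comp_app p q rfl rfl]
  show M1.mres (M.obj a) _ ((M.map p rfl).app (bmap ℰ q ⁻¹ᵁ W) ((M.map q rfl).app W x)) =
    M1.mres (M.obj a) h₂ ((M.map p rfl).app V (M1.mres (M.obj b) h₁ ((M.map q rfl).app W x)))
  rw [M1.app_mres]
  exact (M1.mres_mres (M.obj a) _ _ _).symm

theorem resO_mres (k : a ⟶ b) {W W' : (sch ℰ b).Opens} (e : W' ≤ W) (V : (sch ℰ a).Opens)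
    (hle : V ≤ bmap ℰ k ⁻¹ᵁ W') (x : Γ(M.obj b, W)) :
    resO M k W' V hle (M1.mres (M.obj b) e x) = resO M k W V (hle.trans ((bmap ℰ k).preimage_mono e)) x := by
  show M1.mres (M.obj a) hle ((M.map k rfl).app W' (M1.mres (M.obj b) e x)) = _
  rw [M1.app_mres]
  exact M1.mres_mres (M.obj a) _ _ _

end Res

variable {T : D ⥤ 𝒳.obj} (A : AffLift T) (M : Mod (resCat T))

/-- The direct image on an object. -/
noncomputable abbrev AffLift.pushObj (x : 𝒳.obj) : (sch 𝒳 x).Modules :=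
  (Scheme.Modules.pushforward (bmap 𝒳 (A.κ x))).obj (M.obj (A.lift x))

theorem AffLift.le_preimage {x' x : 𝒳.obj} (φ : x' ⟶ x) {g : sch 𝒳 x' ⟶ sch 𝒳 x} (hg : bmap 𝒳 φ = g)
    (U : (sch 𝒳 x).Opens) :
    bmap 𝒳 (A.κ x') ⁻¹ᵁ (g ⁻¹ᵁ U) ≤
      bmap (resCat T) (ξ' := A.lift x') (ξ := A.lift x) (A.map φ) ⁻¹ᵁ (bmap 𝒳 (A.κ x) ⁻¹ᵁ U) := by
  subst hg
  rw [← Scheme.Hom.comp_preimage, ← Scheme.Hom.comp_preimage]
  exact (congrArg (fun h : sch 𝒳 (T.obj (A.lift x')) ⟶ sch 𝒳 x => h ⁻¹ᵁ U) (A.sq φ).w.symm).le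

/-- The comparison map of the direct image. -/
noncomputable def AffLift.pushMap {x' x : 𝒳.obj} (φ : x' ⟶ x) {g : sch 𝒳 x' ⟶ sch 𝒳 x} (hg : bmap 𝒳 φ = g) :
    A.pushObj M x ⟶ (Scheme.Modules.pushforward g).obj (A.pushObj M x') :=
  (Scheme.Modules.pushforward (bmap 𝒳 (A.κ x))).map (M.map (A.map φ) rfl) ≫
    (Scheme.Modules.pushforwardComp (bmap (resCat T) (A.map φ)) (bmap 𝒳 (A.κ x))).hom.app (M.obj (A.lift x')) ≫
    (Scheme.Modules.pushforwardCongr (show bmap (resCat T) (A.map φ) ≫ bmap 𝒳 (A.κ x) = bmap 𝒳 (A.κ x') ≫ g from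
      hg ▸ (A.sq φ).w)).hom.app (M.obj (A.lift x')) ≫
    (Scheme.Modules.pushforwardComp (bmap 𝒳 (A.κ x')) g).inv.app (M.obj (A.lift x'))

theorem AffLift.pushMap_app {x' x : 𝒳.obj} (φ : x' ⟶ x) {g : sch 𝒳 x' ⟶ sch 𝒳 x} (hg : bmap 𝒳 φ = g)
    (U : (sch 𝒳 x).Opens) (s : Γ(A.pushObj M x, U)) :
    (A.pushMap M φ hg).app U s =
      resO M (A.map φ) (bmap 𝒳 (A.κ x) ⁻¹ᵁ U) _ (A.le_preimage φ hg U) s := by
  simp only [AffLift.pushMap, Scheme.Modules.Hom.comp_app, Scheme.Modules.pushforward_map_app,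
    Scheme.Modules.pushforwardComp_hom_app_app, Scheme.Modules.pushforwardCongr_hom_app_app,
    Scheme.Modules.pushforwardComp_inv_app_app, Category.comp_id, Category.id_comp]
  rfl

theorem AffLift.pushMap_comp_app {x'' x' x : 𝒳.obj} (ψ : x'' ⟶ x') (φ : x' ⟶ x) {h : sch 𝒳 x'' ⟶ sch 𝒳 x'}
    {g : sch 𝒳 x' ⟶ sch 𝒳 x} (hh : bmap 𝒳 ψ = h) (hg : bmap 𝒳 φ = g) (e : bmap 𝒳 (ψ ≫ φ) = h ≫ g)
    (U : (sch 𝒳 x).Opens) (s : Γ(A.pushObj M x, U)) :
    (A.pushMap M (ψ ≫ φ) e).app U s = (A.pushMap M ψ hh).app (g ⁻¹ᵁ U) ((A.pushMap M φ hg).app U s) := by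
  rw [A.pushMap_app M (ψ ≫ φ) e U s, resO_congr M (A.map_comp ψ φ)]
  refine (resO_comp M (a := A.lift x'') (b := A.lift x') (c := A.lift x) (A.map ψ) (A.map φ) _ _ _
    (A.le_preimage φ hg U) (A.le_preimage ψ hh (g ⁻¹ᵁ U)) _ s).trans ?_
  rw [← A.pushMap_app M φ hg U s]
  exact (A.pushMap_app M ψ hh (g ⁻¹ᵁ U) _).symm

theorem AffLift.pushMap_comp {x'' x' x : 𝒳.obj} (ψ : x'' ⟶ x') (φ : x' ⟶ x) {h : sch 𝒳 x'' ⟶ sch 𝒳 x'}
    {g : sch 𝒳 x' ⟶ sch 𝒳 x} (hh : bmap 𝒳 ψ = h) (hg : bmap 𝒳 φ = g) :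
    A.pushMap M (ψ ≫ φ) (g := h ≫ g) (by rw [bmap_comp, hh, hg]) =
      A.pushMap M φ hg ≫ (Scheme.Modules.pushforward g).map (A.pushMap M ψ hh) ≫
        (Scheme.Modules.pushforwardComp h g).hom.app (A.pushObj M x'') := by
  refine Scheme.Modules.hom_ext _ _ fun U => ConcreteCategory.hom_ext _ _ fun s => ?_
  exact A.pushMap_comp_app M ψ φ hh hg (by rw [bmap_comp, hh, hg]) U s

/-- The direct image. -/
noncomputable def AffLift.push : Mod 𝒳 where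
  obj := A.pushObj M
  map φ _ hg := A.pushMap M φ hg
  map_id x := by
    refine Scheme.Modules.hom_ext _ _ fun U => ?_
    refine ConcreteCategory.hom_ext _ _ fun s => ?_
    simp only [Scheme.Modules.Hom.comp_app, Scheme.Modules.pushforwardId_hom_app_app, Category.comp_id,
      Scheme.Modules.Hom.id_app]
    erw [A.pushMap_app M (𝟙 x) (bmap_id x) U s]
    rw [resO_congr M (A.map_id x)]
    exact (resO_id M (a := A.lift x) _ _ _ le_rfl s).trans (M1.mres_id _ _ _)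
  map_comp {x'' x' x} ψ φ {h g} hh hg := A.pushMap_comp M ψ φ hh hg

theorem AffLift.isQCoh_push (hM : isQCoh (resCat T) M) : isQCoh 𝒳 (A.push M) := by
  refine ⟨fun x' x φ g hg => ?_, fun x => PushFin12.isQCoh_pushforward _ _ (hM.2 _)⟩
  subst hg
  have h := A.sq φ
  let F := M.obj (A.lift x)
  let m : F ⟶ (Scheme.Modules.pushforward (bmap 𝒳 (T.map (A.map φ)))).obj (M.obj (A.lift x')) :=
    M.map (A.map φ) rfl
  let ν := ((Scheme.Modules.pullbackPushforwardAdjunction (bmap 𝒳 (T.map (A.map φ)))).homEquiv _ _).symm m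
  haveI : IsIso ν := hM.1 (A.map φ) rfl
  haveI := PullBC11.isIso_bcMap h F (hM.2 (A.lift x))
  have e : (A.push M).map φ rfl = PullBC11.bcMap h F ≫ (Scheme.Modules.pushforward (bmap 𝒳 φ)).map
      ((Scheme.Modules.pushforward (bmap 𝒳 (A.κ x'))).map ν) := by
    refine Scheme.Modules.hom_ext _ _ fun U => ?_
    refine ConcreteCategory.hom_ext _ _ fun s => ?_
    refine (A.pushMap_app M φ rfl U s).trans ?_
    simp only [Scheme.Modules.Hom.comp_app, Scheme.Modules.pushforward_map_app]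
    erw [ConcreteCategory.comp_apply]
    have hs := PullBC11.sect_bcMap h F (V := bmap 𝒳 φ ⁻¹ᵁ U) le_rfl s
    rw [M1.mres_id] at hs
    erw [hs, M1.app_mres, PullBC11.homEquiv_symm_pullSec]
    rfl
  show IsIso (((Scheme.Modules.pullbackPushforwardAdjunction (bmap 𝒳 φ)).homEquiv _ _).symm ((A.push M).map φ rfl))
  rw [e]
  erw [Adjunction.homEquiv_naturality_right_symm]
  exact @IsIso.comp_isIso _ _ _ _ _ _ _ (PullBC11.isIso_bcMap h F (hM.2 (A.lift x))) inferInstance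

end Groth.Agent.StQC14
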