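import Groth.Agent.Lib.StQC14.Chart
import Groth.Agent.Lib.StQC14.Fib
import Groth.Agent.Lib.StAlg16.QSBase
import Groth.Agent.Lib.StAlg16.DiagOps

/-!
# Presentations of the category of a morphism over an affine object
-/

universe u

open CategoryTheory CategoryTheory.Functor CategoryTheory.Limits AlgebraicGeometry Opposite

set_option linter.style.haveILetI false
set_option linter.unusedSectionVars false
set_option backward.isDefEq.respectTransparency false
set_option backward.isDefEq.respectTransparency.types false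

namespace Groth.Agent.StQC14

open StMod Groth.Agent.FC16 Groth.Agent.StAlg Groth.Agent.StAlg16 AlgSt

variable {S : Scheme.{u}} {𝒳 𝒴 : AlgSt.Cat S}

theorem isQuasiCompactMor_overMap {U V : Over S} [IsAffine U.left] [IsAffine V.left] (h : U ⟶ V) :
    AlgSt.IsQuasiCompactMor Scheme.fppfPrecoverage (AlgSt.overMap h) := by
  intro 𝒲 h𝒲 hq g
  obtain ⟨W, w, hW, -, hws⟩ := hq
  haveI := hW
  obtain ⟨b, ⟨ib⟩⟩ := StAlg16.exists_overMap_iso (BasedFunctor.comp w g)
  refine qc_fp_of_lift (isAlgStack_overCat U) (isAlgStack_overCat V) h𝒲 (isAlgStack_overCat W)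
    (isSurjective_of_with h𝒲.isStack.1 hws) ib ?_
  let P : Over S := Over.mk (pullback.fst b.left h.left ≫ W.hom)
  let p₁ : P ⟶ W := Over.homMk (pullback.fst b.left h.left) rfl
  let p₂ : P ⟶ U := Over.homMk (pullback.snd b.left h.left) (by
    show pullback.snd b.left h.left ≫ U.hom = pullback.fst b.left h.left ≫ W.hom
    rw [← Over.w b, ← Over.w h, ← Category.assoc, ← Category.assoc, pullback.condition])
  have sq : IsPullback p₁ p₂ b h := by
    refine IsPullback.of_map (Over.forget S) (Over.OverMorphism.ext pullback.condition) ?_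
    exact IsPullback.of_hasPullback b.left h.left
  haveI : IsAffine P.left := inferInstanceAs (IsAffine (pullback b.left h.left))
  exact qc_of_equiv (isAlgStack_overCat P)
    (isAlgStack_fp' (isAlgStack_overCat W) (isAlgStack_overCat U) (isAlgStack_overCat V) _ _)
    (StAlg16.overPullback_isEquivOver sq) (isQuasiCompact_overCat P)

variable (f : 𝒳 ⥤ᵇ 𝒴) (η : 𝒴.obj) [𝒴.p.IsFibered]

/-- The functor attached to an object. -/
noncomputable abbrev objFun : FibCat.overCat (𝒴.p.obj η) ⥤ᵇ 𝒴 := FC16.ofObj (rfl : 𝒴.p.obj η = 𝒴.p.obj η)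

/-- The restriction map to the object. -/
noncomputable abbrev objPb (a : Over (𝒴.p.obj η)) : (objFun η).obj a ⟶ η :=
  IsPreFibered.pullbackMap (rfl : 𝒴.p.obj η = 𝒴.p.obj η) a.hom

/-- The base change of `f` along the object, to the category over the object. -/
noncomputable def toFib : FibCat.fp (objFun η) f ⥤ᵇ fibCat f η where
  toFunctor :=
    { obj := fun z => CostructuredArrow.mk (z.obj.iso.inv ≫ objPb η z.obj.fst)
      map := fun {z z'} φ => CostructuredArrow.homMk φ.hom.snd (by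
        show f.map φ.hom.snd ≫ z'.obj.iso.inv ≫ objPb η z'.obj.fst = z.obj.iso.inv ≫ objPb η z.obj.fst
        have h : f.map φ.hom.snd ≫ z'.obj.iso.inv = z.obj.iso.inv ≫ (objFun η).map φ.hom.fst := by
          rw [Iso.eq_inv_comp, ← Category.assoc, Iso.comp_inv_eq]
          exact (fp_w φ).symm
        rw [← Category.assoc, h, Category.assoc]
        congr 1
        exact FC16.ofObjMap_fac _ φ.hom.fst)
      map_id := fun z => CostructuredArrow.hom_ext _ _ rfl
      map_comp := fun φ φ' => CostructuredArrow.hom_ext _ _ rfl }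
  w := (FibCat.fpSnd (objFun η) f).w

theorem str_toFib (h : FibCat.IsFibGrpd 𝒴.p) (z : (FibCat.fp (objFun η) f).obj) :
    𝒳.p.obj z.obj.snd = z.obj.fst.left ∧
    baseOver f z.obj.snd (z.obj.iso.inv ≫ objPb η z.obj.fst) =
      eqToHom (snd_p z) ≫ z.obj.fst.hom := by
  haveI := iso_lift z (U := z.obj.fst.left) rfl
  haveI : 𝒴.p.IsHomLift z.obj.fst.hom (objPb η z.obj.fst) :=
    (IsPreFibered.pullbackMap.IsCartesian (rfl : 𝒴.p.obj η = 𝒴.p.obj η) z.obj.fst.hom).toIsHomLift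
  haveI : 𝒴.p.IsHomLift z.obj.fst.hom (z.obj.iso.inv ≫ objPb η z.obj.fst) := inferInstance
  refine ⟨snd_p z, ?_⟩
  rw [baseOver, IsHomLift.fac' 𝒴.p z.obj.fst.hom (z.obj.iso.inv ≫ objPb η z.obj.fst)]
  simp

theorem toFib_full (h𝒳 : FibCat.IsFibGrpd 𝒳.p) (h𝒴 : FibCat.IsFibGrpd 𝒴.p) : (toFib f η).toFunctor.Full := by
  refine ⟨fun {z z'} n => ?_⟩
  have hb := (str_toFib f η h𝒴 z).2
  have hb' := (str_toFib f η h𝒴 z').2
  have hw : f.map n.left ≫ z'.obj.iso.inv ≫ objPb η z'.obj.fst = z.obj.iso.inv ≫ objPb η z.obj.fst :=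
    CostructuredArrow.w n
  have hn : 𝒳.p.map n.left ≫ eqToHom (snd_p z') ≫ z'.obj.fst.hom = eqToHom (snd_p z) ≫ z.obj.fst.hom :=
    (congrArg (𝒳.p.map n.left ≫ ·) hb'.symm).trans
      ((map_comp_baseOver f n.left _).trans ((congrArg (baseOver f z.obj.snd) hw).trans hb))
  let a : z.obj.fst ⟶ z'.obj.fst :=
    Over.homMk (eqToHom (snd_p z).symm ≫ 𝒳.p.map n.left ≫ eqToHom (snd_p z')) (by
      have e := congrArg (eqToHom (snd_p z).symm ≫ ·) hn
      simp only [eqToHom_trans_assoc, eqToHom_refl, Category.id_comp] at e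
      simp only [Category.assoc]
      exact e)
  haveI := iso_lift z (U := z.obj.fst.left) rfl
  haveI := iso_lift z' (U := z'.obj.fst.left) rfl
  haveI hmap : 𝒴.p.IsHomLift a.left ((objFun η).map a) := inferInstance
  haveI : 𝒳.p.IsHomLift a.left n.left :=
    IsHomLift.of_fac' 𝒳.p a.left n.left (snd_p z) (snd_p z') (by simp [a])
  haveI hfm : 𝒴.p.IsHomLift a.left (f.map n.left) := BasedFunctor.preserves_isHomLift f a.left n.left
  haveI : 𝒴.p.IsHomLift z'.obj.fst.hom (objPb η z'.obj.fst) :=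
    (IsPreFibered.pullbackMap.IsCartesian (rfl : 𝒴.p.obj η = 𝒴.p.obj η) z'.obj.fst.hom).toIsHomLift
  haveI : 𝒴.p.IsHomLift z'.obj.fst.hom (z'.obj.iso.inv ≫ objPb η z'.obj.fst) := inferInstance
  haveI := FC16.isStronglyCartesian h𝒴 z'.obj.fst.hom (z'.obj.iso.inv ≫ objPb η z'.obj.fst)
  have w : (objFun η).map a ≫ z'.obj.iso.hom = z.obj.iso.hom ≫ f.map n.left := by
    refine IsStronglyCartesian.ext 𝒴.p z'.obj.fst.hom (z'.obj.iso.inv ≫ objPb η z'.obj.fst) a.left ?_
    rw [Category.assoc, Iso.hom_inv_id_assoc, Category.assoc, hw, Iso.hom_inv_id_assoc]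
    exact FC16.ofObjMap_fac _ a
  exact ⟨fpHom a n.left w, CostructuredArrow.hom_ext _ _ rfl⟩

theorem toFib_essSurj (h𝒳 : FibCat.IsFibGrpd 𝒳.p) (h𝒴 : FibCat.IsFibGrpd 𝒴.p) : (toFib f η).toFunctor.EssSurj := by
  refine ⟨fun x => ?_⟩
  let a : Over (𝒴.p.obj η) := Over.mk (baseOver f x.left x.hom)
  haveI : 𝒴.p.IsHomLift a.hom (objPb η a) :=
    (IsPreFibered.pullbackMap.IsCartesian (rfl : 𝒴.p.obj η = 𝒴.p.obj η) a.hom).toIsHomLift
  haveI hx : 𝒴.p.IsHomLift a.hom x.hom := by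
    refine IsHomLift.of_fac' 𝒴.p _ _ (f.w_obj x.left) rfl ?_
    show 𝒴.p.map x.hom = eqToHom _ ≫ (eqToHom _ ≫ 𝒴.p.map x.hom) ≫ eqToHom _
    simp
  haveI := FC16.isStronglyCartesian h𝒴 a.hom x.hom
  let k := IsStronglyCartesian.map 𝒴.p a.hom x.hom (g := 𝟙 a.left) (f' := a.hom) (by simp) (objPb η a)
  have hk : k ≫ x.hom = objPb η a := IsStronglyCartesian.fac _ _ _ _ _
  haveI : IsIso k := FC16.isIso_of_isHomLift h𝒴 (𝟙 a.left) k
  let z : (FibCat.fp (objFun η) f).obj := fpObj a x.left (asIso k) (U := a.left) rfl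
    (inferInstanceAs (𝒴.p.IsHomLift (𝟙 a.left) k))
  refine ⟨z, ⟨CostructuredArrow.isoMk (Iso.refl _) ?_⟩⟩
  show f.map (𝟙 x.left) ≫ x.hom = inv k ≫ objPb η a
  rw [f.toFunctor.map_id, Category.id_comp, IsIso.eq_inv_comp, hk]

omit [𝒴.p.IsFibered] in
/-- The category of a quasi-compact quasi-separated morphism over an affine object has a presentation. -/
theorem exists_pres_fib (h𝒳 : AlgSt.IsAlgStack Scheme.fppfPrecoverage 𝒳)
    (h𝒴 : AlgSt.IsAlgStack Scheme.fppfPrecoverage 𝒴)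
    (hfqc : AlgSt.IsQuasiCompactMor Scheme.fppfPrecoverage f) (hfqs : AlgSt.IsQuasiSeparatedMor f)
    [IsAffine (sch 𝒴 η)] : Nonempty (Pres (fibCat f η)) := by
  haveI := FC16.isFibered h𝒴.isStack.1
  haveI : IsAffine (𝒴.p.obj η).left := ‹IsAffine (sch 𝒴 η)›
  let g := objFun η
  have hT := isAlgStack_overCat (𝒴.p.obj η)
  have hℱ := isAlgStack_fp' hT h𝒳 h𝒴 g f
  obtain ⟨U, x, hU, hxm, hxu⟩ := hfqc _ hT (isQuasiCompact_overCat _) g
  haveI := hU
  obtain ⟨h, ⟨ih⟩⟩ := StAlg16.exists_overMap_iso (BasedFunctor.comp x (FibCat.fpFst g f))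
  have hqs : AlgSt.RepByAlgSpWith AlgSp.IsQuasiCompactMor (FibCat.diag f) :=
    repByAlgSpWith_mono (fun _ _ _ _ ha => ha.1) hfqs
  have hx : AlgSt.IsQuasiCompactMor Scheme.fppfPrecoverage x :=
    isQuasiCompactMor_of_comp (isAlgStack_overCat U) hℱ hT
      (isQuasiCompactMor_of_iso (isAlgStack_overCat U) hT ih.symm (isQuasiCompactMor_overMap h))
      (with_diag_fpFst f g hqs)
  obtain ⟨W, w, hW, hwm, hwu⟩ := hx _ (isAlgStack_overCat U) (isQuasiCompact_overCat U) x
  haveI := hW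
  obtain ⟨P⟩ := exists_pres_of_charts hℱ.isStack.1 hxm hxu hwm hwu
  haveI := toFib_full f η h𝒳.isStack.1 h𝒴.isStack.1
  haveI := toFib_essSurj f η h𝒳.isStack.1 h𝒴.isStack.1
  exact P.map (toFib f η)

end Groth.Agent.StQC14
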