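import Groth.Agent.Lib.StQC14.FibPres
import Groth.Agent.Lib.StAlg16.LocQ
import Groth.Agent.Lib.StAlg16.LocPInst

/-!
# Affine objects of a stack flat over an affine object of another one
-/

universe u

open CategoryTheory CategoryTheory.Functor CategoryTheory.Limits AlgebraicGeometry Opposite

set_option linter.style.haveILetI false
set_option linter.unusedSectionVars false
set_option backward.isDefEq.respectTransparency false
set_option backward.isDefEq.respectTransparency.types false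

namespace Groth.Agent.StQC14

open StMod Groth.Agent.FC16 Groth.Agent.StAlg Groth.Agent.StAlg16 AlgSt

variable {S : Scheme.{u}} {𝒴 𝒵 : AlgSt.Cat S}

theorem exists_chart_meet (h𝒴 : FibCat.IsFibGrpd 𝒴.p) [𝒴.p.IsFibered] (η : 𝒴.obj) {V : Over S}
    {y₀ : FibCat.overCat V ⥤ᵇ 𝒴} (hy₀ : AlgSt.RepByAlgSpWith (AlgSp.LocP @Smooth) y₀)
    (t : ↥(𝒴.p.obj η).left) (v : ↥V.left) (e : Points.ofChart (objFun η) t = Points.ofChart y₀ v) :
    ∃ (W : Over S) (w : FibCat.overCat W ⥤ᵇ FibCat.fp (objFun η) y₀) (b : W ⟶ 𝒴.p.obj η) (b₀ : W ⟶ V) (m : ↥W.left),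
      Nonempty (BasedFunctor.comp w (FibCat.fpFst (objFun η) y₀) ≅ AlgSt.overMap b) ∧
      Nonempty (BasedFunctor.comp w (FibCat.fpSnd (objFun η) y₀) ≅ AlgSt.overMap b₀) ∧
      Smooth b.left ∧ b.left m = t ∧ b₀.left m = v := by
  obtain ⟨W, w, hw, hws⟩ := StAlg16.exists_fp_chart h𝒴 (objFun η) (repByAlgSp1_of_with hy₀)
  obtain ⟨b, ⟨jb⟩⟩ := StAlg16.exists_overMap_iso (BasedFunctor.comp w (FibCat.fpFst (objFun η) y₀))
  obtain ⟨b₀, ⟨jb₀⟩⟩ := StAlg16.exists_overMap_iso (BasedFunctor.comp w (FibCat.fpSnd (objFun η) y₀))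
  have hfp : FibCat.IsFibGrpd (FibCat.fp (objFun η) y₀).p :=
    fp_isFibGrpd (overCat_isFibGrpd _) (overCat_isFibGrpd V) h𝒴 _ _
  have hb : Smooth b.left := of_with_locP_overMap b
    (with_of_iso jb (with_comp goodP_locP (overCat_isFibGrpd W) hfp (hw @Smooth) (with_fpFst _ hy₀)))
  obtain ⟨z, hz₁, hz₂⟩ := exists_fp_point (overCat_isFibGrpd V) h𝒴 (overCat_isFibGrpd _) y₀ (objFun η)
    (Points.mk (chartPt _ t)) (Points.mk (chartPt V v)) e
  obtain ⟨m, rfl⟩ := surjective_ofChart hfp hws z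
  refine ⟨W, w, b, b₀, m, ⟨jb⟩, ⟨jb₀⟩, hb, ?_, ?_⟩
  · rw [ofChart_eq, ← map_comp_apply, map_eq_map_of_iso jb, map_overMap_chartPt] at hz₁
    simpa [ptOf_chartPt] using congrArg ptOf hz₁
  · rw [ofChart_eq, ← map_comp_apply, map_eq_map_of_iso jb₀, map_overMap_chartPt] at hz₂
    simpa [ptOf_chartPt] using congrArg ptOf hz₂

/-- A morphism with a property containing the smooth morphisms hitting a point of an affine object has an affine
object over it there with that property. -/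
theorem exists_object_of {R : MorphismProperty Scheme.{u}} [AlgSpace.EtaleLocal R]
    (hRs : ∀ {X Y : Scheme.{u}} (g : X ⟶ Y), Smooth g → R g) (h𝒴 : FibCat.IsFibGrpd 𝒴.p) [𝒴.p.IsFibered] (h𝒵 : FibCat.IsFibGrpd 𝒵.p)
    {u : 𝒵 ⥤ᵇ 𝒴} (hu : AlgSt.LocQ (AlgSp.LocP R) u) (η : 𝒴.obj) (t : ↥(𝒴.p.obj η).left)
    (q : Points 𝒵) (hq : Points.map u q = Points.ofChart (objFun η) t) :
    ∃ (θ : 𝒵.obj) (_ : IsAffine (sch 𝒵 θ)) (h : u.obj θ ⟶ η),
      R (bmap 𝒴 h) ∧ t ∈ Set.range (bmap 𝒴 h) := by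
  obtain ⟨U, V, x₀, y₀, h₀, α₀, hx₀, hxs₀, hy₀, hh₀⟩ := hu
  have hh : R h₀.left := (StAlg16.locP_yon_iff (R := R) h₀).1 hh₀
  obtain ⟨s, rfl⟩ := surjective_ofChart h𝒵 hxs₀ q
  have e : Points.ofChart (objFun η) t = Points.ofChart y₀ (h₀.left s) := by
    rw [← hq, ofChart_eq, ← map_comp_apply, map_eq_map_of_iso α₀, map_comp_apply, map_overMap_chartPt,
      ← ofChart_eq]
  obtain ⟨W, w, b, b₀, m, ⟨jb⟩, ⟨jb₀⟩, hb, hm, hm₀⟩ := exists_chart_meet h𝒴 η hy₀ t (h₀.left s) e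
  haveI := hb
  -- the fibre product of the two charts
  obtain ⟨o, ho₁, ho₂⟩ := Scheme.Pullback.exists_preimage_pullback (f := h₀.left) (g := b₀.left) s m hm₀.symm
  obtain ⟨_, ⟨O₀, hO, rfl⟩, hoO, -⟩ :=
    (pullback h₀.left b₀.left).isBasis_affineOpens.exists_subset_of_mem_open (Set.mem_univ o) isOpen_univ
  let O : (pullback h₀.left b₀.left).Opens := O₀
  let O' : Over S := Over.mk (O.ι ≫ pullback.fst h₀.left b₀.left ≫ U.hom)
  let p₁ : O' ⟶ U := Over.homMk (O.ι ≫ pullback.fst h₀.left b₀.left) (Category.assoc _ _ _)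
  let p₂ : O' ⟶ W := Over.homMk (O.ι ≫ pullback.snd h₀.left b₀.left) (by
    show (O.ι ≫ pullback.snd h₀.left b₀.left) ≫ W.hom = O.ι ≫ pullback.fst h₀.left b₀.left ≫ U.hom
    rw [← Over.w b₀, ← Over.w h₀, Category.assoc, ← Category.assoc (pullback.snd _ _), ← pullback.condition,
      Category.assoc])
  have hcomm : p₁ ≫ h₀ = p₂ ≫ b₀ := Over.OverMorphism.ext (by
    show (O.ι ≫ pullback.fst h₀.left b₀.left) ≫ h₀.left = (O.ι ≫ pullback.snd h₀.left b₀.left) ≫ b₀.left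
    rw [Category.assoc, Category.assoc, pullback.condition])
  let a : (FibCat.overCat U).obj := Over.mk p₁
  let c : (FibCat.overCat W).obj := Over.mk p₂
  let ρ := w.obj c
  let a₀ : (FibCat.overCat V).obj := (AlgSt.overMap h₀).obj a
  let c₀ : (FibCat.overCat V).obj := (AlgSt.overMap b₀).obj c
  have hac : a₀ = c₀ := by
    show Over.mk (p₁ ≫ h₀) = Over.mk (p₂ ≫ b₀)
    rw [hcomm]
  let a' : Over (𝒴.p.obj η) := (AlgSt.overMap b).obj c
  haveI : 𝒴.p.IsHomLift (𝟙 O') (appIso α₀ a).hom := isHomLift_appIso_hom α₀ a rfl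
  haveI : (FibCat.overCat V).p.IsHomLift (𝟙 O') (eqToHom hac) :=
    IsHomLift.of_fac' _ _ _ rfl rfl ((eqToHom_map _ hac).trans (by simp))
  haveI : (FibCat.overCat V).p.IsHomLift (𝟙 O') (appIso jb₀.symm c).hom := isHomLift_appIso_hom jb₀.symm c rfl
  haveI : (FibCat.overCat (𝒴.p.obj η)).p.IsHomLift (𝟙 O') (appIso jb c).hom := isHomLift_appIso_hom jb c rfl
  haveI h1 : 𝒴.p.IsHomLift (𝟙 O') (y₀.map (eqToHom hac)) := BasedFunctor.preserves_isHomLift y₀ _ _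
  haveI h2 : 𝒴.p.IsHomLift (𝟙 O') (y₀.map (appIso jb₀.symm c).hom) := BasedFunctor.preserves_isHomLift y₀ _ _
  haveI h3 : 𝒴.p.IsHomLift (𝟙 O') ((objFun η).map (appIso jb c).hom) := BasedFunctor.preserves_isHomLift _ _ _
  haveI h4 : 𝒴.p.IsHomLift (𝟙 O') ρ.obj.iso.hom := iso_lift ρ (w.w_obj c)
  haveI h5 : 𝒴.p.IsHomLift (p₂ ≫ b) (objPb η a') :=
    (IsPreFibered.pullbackMap.IsCartesian (rfl : 𝒴.p.obj η = 𝒴.p.obj η) a'.hom).toIsHomLift
  let g : u.obj (x₀.obj a) ⟶ η := (appIso α₀ a).hom ≫ y₀.map (eqToHom hac) ≫ y₀.map (appIso jb₀.symm c).hom ≫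
    ρ.obj.iso.inv ≫ (objFun η).map (appIso jb c).hom ≫ objPb η a'
  haveI hg : 𝒴.p.IsHomLift (p₂ ≫ b) g := inferInstance
  refine ⟨x₀.obj a, ?_, g, ?_, ?_⟩
  · haveI : IsAffine O.toScheme := hO
    exact IsAffine.of_isIso (X := sch 𝒵 (x₀.obj a)) (Y := O.toScheme) (eqToHom (sch_obj_eq x₀ a))
  · rw [bmap_of_lift (p₂ ≫ b) g]
    have hp₂ : R p₂.left :=
      R.comp_mem O.ι (pullback.snd h₀.left b₀.left)
        (AlgSpace.EtaleLocal.etale_le _ _ _ (inferInstanceAs (Etale O.ι))) (R.pullback_snd _ _ hh)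
    rw [Over.comp_left]
    exact (R.cancel_left_of_respectsIso _ _).2 ((R.cancel_right_of_respectsIso _ _).2
      (R.comp_mem _ _ hp₂ (hRs _ hb)))
  · rw [bmap_of_lift (p₂ ≫ b) g]
    let o' : ↥O'.left := ⟨o, hoO⟩
    obtain ⟨z, hz⟩ := (eqToHom (congrArg Comma.left (IsHomLift.domain_eq 𝒴.p (p₂ ≫ b) g))).surjective o'
    refine ⟨z, ?_⟩
    simp only [Scheme.Hom.comp_apply, Over.comp_left]
    erw [hz]
    exact (congrArg b.left ho₂).trans hm

/-- A flat morphism hitting a point of an affine object has an affine flat object over it there. -/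
theorem exists_flat_object (h𝒴 : FibCat.IsFibGrpd 𝒴.p) [𝒴.p.IsFibered] (h𝒵 : FibCat.IsFibGrpd 𝒵.p)
    {u : 𝒵 ⥤ᵇ 𝒴} (hu : AlgSt.LocQ (AlgSp.LocP @Flat) u) (η : 𝒴.obj) (t : ↥(𝒴.p.obj η).left)
    (q : Points 𝒵) (hq : Points.map u q = Points.ofChart (objFun η) t) :
    ∃ (θ : 𝒵.obj) (_ : IsAffine (sch 𝒵 θ)) (h : u.obj θ ⟶ η),
      Flat (bmap 𝒴 h) ∧ t ∈ Set.range (bmap 𝒴 h) :=
  exists_object_of (R := @Flat) (fun g hg => by haveI := hg; infer_instance) h𝒴 h𝒵 hu η t q hq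

end Groth.Agent.StQC14
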