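import Groth.Agent.Lib.StQC14.BC
import Groth.Agent.Lib.StQC14.FibPres
import Groth.Agent.Lib.StQC14.FlatObj

/-!
# Relative generation descends along flat covers
-/

universe u

open CategoryTheory CategoryTheory.Functor CategoryTheory.Limits AlgebraicGeometry Opposite

set_option linter.style.haveILetI false
set_option linter.unusedSectionVars false
set_option backward.isDefEq.respectTransparency false
set_option backward.isDefEq.respectTransparency.types false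

namespace Groth.Agent.StQC14

open StMod Groth.Agent.FC16 Groth.Agent.StAlg Groth.Agent.StAlg16 AlgSt

variable {S : Scheme.{u}} {𝒳 𝒴 𝒵 : AlgSt.Cat S} (f : 𝒳 ⥤ᵇ 𝒴) (u : 𝒵 ⥤ᵇ 𝒴) {η : 𝒴.obj} {θ : 𝒵.obj}
  (h : u.obj θ ⟶ η)

/-- From the base change over an object to the category over its image. -/
noncomputable def fibT : (fibCat (FibCat.fpSnd f u) θ).obj ⥤ (fibCat f η).obj where
  obj d := CostructuredArrow.mk (S := f.toFunctor) (d.left.obj.iso.hom ≫ u.map d.hom ≫ h)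
  map {d d'} φ := CostructuredArrow.homMk φ.left.hom.fst (by
    show f.map φ.left.hom.fst ≫ d'.left.obj.iso.hom ≫ u.map d'.hom ≫ h =
      d.left.obj.iso.hom ≫ u.map d.hom ≫ h
    have e : φ.left.hom.snd ≫ d'.hom = d.hom := CostructuredArrow.w φ
    rw [← Category.assoc, fp_w φ.left, Category.assoc, ← e, u.toFunctor.map_comp, Category.assoc])
  map_id _ := CostructuredArrow.hom_ext _ _ rfl
  map_comp _ _ := CostructuredArrow.hom_ext _ _ rfl

/-- The morphism of schemes under `h`. -/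
noncomputable def fibRho : sch 𝒵 θ ⟶ sch 𝒴 η := eqToHom (sch_obj_eq u θ).symm ≫ bmap 𝒴 h

theorem fibT_comm (d : (fibCat (FibCat.fpSnd f u) θ).obj) :
    str (FibCat.fpSnd f u) θ d ≫ fibRho u h = str f η ((fibT f u h).obj d) := by
  haveI := iso_lift d.left (U := 𝒳.p.obj d.left.obj.fst) rfl
  rw [str_eq, str_eq, fibRho]
  show _ = eqToHom _ ≫ bmap 𝒴 (d.left.obj.iso.hom ≫ u.map d.hom ≫ h)
  rw [bmap_comp, bmap_comp, bmap_of_lift (𝟙 (𝒳.p.obj d.left.obj.fst)) d.left.obj.iso.hom, bmap_map u d.hom]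
  simp [Over.id_left]

theorem fibT_isFibGrpd (h𝒳 : FibCat.IsFibGrpd 𝒳.p) (h𝒵 : FibCat.IsFibGrpd 𝒵.p) (h𝒴 : FibCat.IsFibGrpd 𝒴.p) :
    FibCat.IsFibGrpd (resCat (𝒳 := fibCat f η) (fibT f u h)).p :=
  fibCat_isFibGrpd (fp_isFibGrpd h𝒳 h𝒵 h𝒴 f u) (FibCat.fpSnd f u) θ

/-- An object of the category over `η` whose structure morphism factors through `h` comes from the base change. -/
theorem fib_exists_mk (h𝒵 : FibCat.IsFibGrpd 𝒵.p) (h𝒴 : FibCat.IsFibGrpd 𝒴.p) (x : (fibCat f η).obj)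
    (k : sch (fibCat f η) x ⟶ sch 𝒵 θ) (hk : k ≫ fibRho u h = str f η x) :
    ∃ (d : (fibCat (FibCat.fpSnd f u) θ).obj) (e : (fibT f u h).obj d ⟶ x),
      IsIso (bmap (fibCat f η) e) ∧ bmap (fibCat f η) e ≫ k = str (FibCat.fpSnd f u) θ d := by
  let ρo : 𝒵.p.obj θ ⟶ 𝒴.p.obj η := eqToHom (u.w_obj θ).symm ≫ 𝒴.p.map h
  let b : 𝒳.p.obj x.left ⟶ 𝒴.p.obj η := baseOver f x.left x.hom
  have hρ : ρo.left = fibRho u h := by
    show (eqToHom (u.w_obj θ).symm ≫ 𝒴.p.map h).left = _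
    rw [Over.comp_left, Over.eqToHom_left]
    rfl
  let ko : 𝒳.p.obj x.left ⟶ 𝒵.p.obj θ := Over.homMk k (by
    have e := Over.w b
    rw [show b.left = k ≫ ρo.left by rw [hρ]; exact hk.symm, Category.assoc, Over.w ρo] at e
    exact e)
  have hb : b = ko ≫ ρo := Over.OverMorphism.ext (by
    show str f η x = k ≫ ρo.left
    rw [hρ, hk])
  obtain ⟨y', φ, hφ⟩ := h𝒵.exists_lift ko
  haveI := hφ
  haveI h1 : 𝒴.p.IsHomLift ko (u.map φ) := BasedFunctor.preserves_isHomLift u _ _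
  haveI h2 : 𝒴.p.IsHomLift (ko ≫ ρo) (u.map φ ≫ h) :=
    IsHomLift.of_fac' 𝒴.p _ _ ((u.w_obj y').trans (IsHomLift.domain_eq 𝒵.p ko φ)) rfl (by
      rw [Functor.map_comp, IsHomLift.fac' 𝒴.p ko (u.map φ)]
      simp [ρo])
  haveI hx : 𝒴.p.IsHomLift (ko ≫ ρo) x.hom := by
    rw [← hb]
    refine IsHomLift.of_fac' 𝒴.p _ _ (f.w_obj x.left) rfl ?_
    show 𝒴.p.map x.hom = eqToHom _ ≫ (eqToHom _ ≫ 𝒴.p.map x.hom) ≫ eqToHom _
    simp
  haveI := FC16.isStronglyCartesian h𝒴 (ko ≫ ρo) (u.map φ ≫ h)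
  let m := IsStronglyCartesian.map 𝒴.p (ko ≫ ρo) (u.map φ ≫ h) (g := 𝟙 (𝒳.p.obj x.left)) (f' := ko ≫ ρo)
    (Category.id_comp _).symm x.hom
  have hm : m ≫ u.map φ ≫ h = x.hom := IsStronglyCartesian.fac _ _ _ _ _
  haveI : IsIso m := FC16.isIso_of_isHomLift h𝒴 (𝟙 (𝒳.p.obj x.left)) m
  let z : (FibCat.fp f u).obj := fpObj x.left y' (asIso m) (U := 𝒳.p.obj x.left) rfl
    (inferInstanceAs (𝒴.p.IsHomLift (𝟙 (𝒳.p.obj x.left)) m))
  let d : (fibCat (FibCat.fpSnd f u) θ).obj := CostructuredArrow.mk (S := (FibCat.fpSnd f u).toFunctor) (Y := z) φ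
  refine ⟨d, CostructuredArrow.homMk (𝟙 x.left) ?_, ?_, ?_⟩
  · show f.map (𝟙 x.left) ≫ x.hom = m ≫ u.map φ ≫ h
    rw [f.toFunctor.map_id, Category.id_comp, hm]
  · show IsIso (bmap 𝒳 (𝟙 x.left))
    rw [bmap_id]
    infer_instance
  · show bmap 𝒳 (𝟙 x.left) ≫ k = str (FibCat.fpSnd f u) θ d
    rw [str_eq, bmap_id, Category.id_comp]
    show k = eqToHom _ ≫ bmap 𝒵 φ
    rw [bmap_of_lift ko φ]
    simp [ko]

/-- Morphisms compatible with the structure morphisms come from the base change. -/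
theorem fib_exists_map (h𝒵 : FibCat.IsFibGrpd 𝒵.p) (h𝒴 : FibCat.IsFibGrpd 𝒴.p)
    (d d' : (fibCat (FibCat.fpSnd f u) θ).obj) (m : (fibT f u h).obj d ⟶ (fibT f u h).obj d')
    (hm : bmap (fibCat f η) m ≫ str (FibCat.fpSnd f u) θ d' = str (FibCat.fpSnd f u) θ d) :
    ∃ k : d ⟶ d', (fibT f u h).map k = m := by
  let g : sch 𝒵 d.left.obj.snd ⟶ sch 𝒵 d'.left.obj.snd :=
    eqToHom (congrArg Comma.left (snd_p d.left)) ≫ bmap 𝒳 m.left ≫
      eqToHom (congrArg Comma.left (snd_p d'.left)).symm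
  have hg : g ≫ bmap 𝒵 d'.hom = bmap 𝒵 d.hom := by
    have e : bmap 𝒳 m.left ≫ str (FibCat.fpSnd f u) θ d' = str (FibCat.fpSnd f u) θ d := hm
    rw [str_eq, str_eq] at e
    have e' := congrArg (eqToHom (congrArg Comma.left (snd_p d.left)) ≫ ·) e
    simp only [eqToHom_trans_assoc] at e'
    rw [show g ≫ bmap 𝒵 d'.hom = eqToHom (congrArg Comma.left (snd_p d.left)) ≫ bmap 𝒳 m.left ≫
      eqToHom (congrArg Comma.left (snd_p d'.left)).symm ≫ bmap 𝒵 d'.hom by simp [g]]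
    refine e'.trans ?_
    simp
  obtain ⟨χ, hχ, hχb⟩ := exists_factor h𝒵 d'.hom d.hom g hg
  haveI := iso_lift d.left (U := 𝒳.p.obj d.left.obj.fst) rfl
  haveI := iso_lift d'.left (U := 𝒳.p.obj d'.left.obj.fst) rfl
  have w : f.map m.left ≫ d'.left.obj.iso.hom = d.left.obj.iso.hom ≫ u.map χ := by
    refine factor_unique h𝒴 (u.map d'.hom ≫ h) ?_ ?_
    · rw [Category.assoc, Category.assoc, ← Category.assoc (u.map χ), ← u.toFunctor.map_comp, hχ]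
      exact CostructuredArrow.w m
    · rw [bmap_comp, bmap_comp, bmap_map f m.left, bmap_map u χ, hχb,
        bmap_of_lift (𝟙 (𝒳.p.obj d.left.obj.fst)) d.left.obj.iso.hom,
        bmap_of_lift (𝟙 (𝒳.p.obj d'.left.obj.fst)) d'.left.obj.iso.hom]
      simp [g]
  exact ⟨CostructuredArrow.homMk (fpHom m.left χ w) hχ, CostructuredArrow.hom_ext _ _ rfl⟩

/-- The base change datum of an affine object flat over `η`. -/
noncomputable def fibBC (h𝒳 : FibCat.IsFibGrpd 𝒳.p) (h𝒵 : FibCat.IsFibGrpd 𝒵.p) (h𝒴 : FibCat.IsFibGrpd 𝒴.p)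
    (hθ : IsAffine (sch 𝒵 θ)) (hh : Flat (bmap 𝒴 h)) : BCData (fibCat f η) (str f η) where
  Y' := sch 𝒵 θ
  affine := hθ
  ρ := fibRho u h
  flat := by haveI := hh; unfold fibRho; infer_instance
  D := (fibCat (FibCat.fpSnd f u) θ).obj
  T := fibT f u h
  fib := fibT_isFibGrpd f u h h𝒳 h𝒵 h𝒴
  strD := str (FibCat.fpSnd f u) θ
  natD k := bmap_str (FibCat.fpSnd f u) θ k
  comm := fibT_comm f u h
  exists_mk := fib_exists_mk f u h h𝒵 h𝒴
  exists_map := fib_exists_map f u h h𝒵 h𝒴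

/-- Relative generation is local for flat covers of the target. -/
theorem isRelGenFam_of_flat_cover (h𝒳 : AlgSt.IsAlgStack Scheme.fppfPrecoverage 𝒳)
    (h𝒴 : AlgSt.IsAlgStack Scheme.fppfPrecoverage 𝒴)
    (hfqc : AlgSt.IsQuasiCompactMor Scheme.fppfPrecoverage f) (hfqs : AlgSt.IsQuasiSeparatedMor f)
    {ι : Type*} (E : ι → StMod.QCoh 𝒳) (hE : ∀ i, (E i).obj.IsFinPres)
    {A : Type*} (𝒴' : A → AlgSt.Cat S) (h𝒴' : ∀ a, FibCat.IsFibGrpd (𝒴' a).p)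
    (v : ∀ a, 𝒴' a ⥤ᵇ 𝒴) (hfl : ∀ a, AlgSt.LocQ (AlgSp.LocP @Flat) (v a))
    (hsurj : ∀ p : AlgSt.Points 𝒴, ∃ (a : A) (q : AlgSt.Points (𝒴' a)), AlgSt.Points.map (v a) q = p)
    (hgen : ∀ a, StMod.IsRelGenFam (FibCat.fpSnd f (v a))
      (fun i => (StMod.comapQ (FibCat.fpFst f (v a))).obj (E i))) :
    StMod.IsRelGenFam f E := by
  haveI := FC16.isFibered h𝒴.isStack.1
  intro η hη
  haveI := hη
  have hp : ∀ t : ↥(𝒴.p.obj η).left, ∃ (a : A) (θ : (𝒴' a).obj) (_ : IsAffine (sch (𝒴' a) θ))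
      (h : (v a).obj θ ⟶ η), Flat (bmap 𝒴 h) ∧ t ∈ Set.range (bmap 𝒴 h) := fun t => by
    obtain ⟨a, q, hq⟩ := hsurj (Points.ofChart (objFun η) t)
    exact ⟨a, exists_flat_object h𝒴.isStack.1 (h𝒴' a) (hfl a) η t q hq⟩
  choose a θ hθ h hflat ht using hp
  obtain ⟨P⟩ := exists_pres_fib f η h𝒳 h𝒴 hfqc hfqs
  refine (isGenFam_iff _).2 fun M N w hw => ?_
  refine eq_zero_of_bcData (fibCat_isFibGrpd h𝒳.isStack.1 f η) P (fun φ => bmap_str f η φ)
    (fun t => fibBC f (v (a t)) (h t) h𝒳.isStack.1 (h𝒴' _) h𝒴.isStack.1 (hθ t) (hflat t)) ?_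
    (fun i => (comapQ (fibFst f η)).obj (E i)) (fun i ξ => hE i ξ.left) ?_ w hw
  · intro t
    obtain ⟨z, hz⟩ := ht t
    refine ⟨t, (eqToHom (sch_obj_eq (v (a t)) (θ t))).base z, ?_⟩
    show (eqToHom (sch_obj_eq (v (a t)) (θ t)).symm ≫ bmap 𝒴 (h t)).base _ = t
    simpa [← Scheme.Hom.comp_apply] using hz
  · intro t
    exact hgen (a t) (θ t) (hθ t)

end Groth.Agent.StQC14
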