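import Groth.Agent.Lib.StQC14.AffFib
import Groth.Agent.Lib.StQC14.RelGen
import Groth.Agent.Lib.StAlg16.LocQApps

/-!
# Generation over an affine scheme is relative generation
-/

universe u

open CategoryTheory CategoryTheory.Functor CategoryTheory.Limits AlgebraicGeometry Opposite

set_option linter.style.haveILetI false
set_option linter.unusedSectionVars false
set_option backward.isDefEq.respectTransparency false
set_option backward.isDefEq.respectTransparency.types false

namespace Groth.Agent.StQC14

open StMod Groth.Agent.FC16 Groth.Agent.StAlg Groth.Agent.StAlg16 AlgSt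

variable {S : Scheme.{u}} {𝒳 : AlgSt.Cat S} {T : Over S}

/-- Generation over an affine scheme is relative generation. -/
theorem isRelGenFam_of_isGenFam_affine (h𝒳 : FibCat.IsFibGrpd 𝒳.p) (F : 𝒳 ⥤ᵇ FibCat.overCat T) [IsAffine T.left]
    {ι : Type*} {E : ι → StMod.QCoh 𝒳} (hE : StMod.IsGenFam E) : StMod.IsRelGenFam F E := by
  intro θ hθ
  let tt : ∀ z : (FibCat.overCat T).obj, z ⟶ (Over.mk (𝟙 T) : (FibCat.overCat T).obj) := fun z =>
    Over.homMk z.hom (Category.comp_id _)
  have hτ : ∀ {z : (FibCat.overCat T).obj} (a b : z ⟶ (Over.mk (𝟙 T) : (FibCat.overCat T).obj)), a = b :=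
    fun {z} a b => Over.OverMorphism.ext (by
      have ha := Over.w a
      have hb := Over.w b
      simp only [Over.mk_hom, Category.comp_id] at ha hb
      exact ha.trans hb.symm)
  haveI : IsAffine (sch (FibCat.overCat T) θ) := hθ
  haveI : IsAffine (sch (FibCat.overCat T) (Over.mk (𝟙 T) : (FibCat.overCat T).obj)) := ‹IsAffine T.left›
  have haff : IsAffineHom (bmap (FibCat.overCat T) (tt θ)) := inferInstance
  exact (fibLift F θ tt h𝒳 (overCat_isFibGrpd T) hτ haff).isGenFam
    (fibLiftSec F θ tt h𝒳 (overCat_isFibGrpd T) hτ haff) (fibCat_isFibGrpd h𝒳 F θ) hE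

end Groth.Agent.StQC14
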