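import Mathlib.RingTheory.Flat.FaithfullyFlat.Algebra
import Mathlib.Algebra.Module.FinitePresentation
import Mathlib.Algebra.Category.Ring.Constructions
import Mathlib.LinearAlgebra.TensorProduct.RightExactness
import Mathlib.RingTheory.Spectrum.Prime.Basic
import Mathlib.RingTheory.RingHom.Flat
import Mathlib.Algebra.Module.Torsion.Basic
import Groth.Agent.Lib.QcohEt15.Amitsur

/-!
# Base changes of modules along a ring map, in semilinear form
-/

universe u

open TensorProduct CategoryTheory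

set_option linter.style.haveILetI false
set_option linter.unusedSectionVars false

namespace Groth.Agent.StQC14

section Basic

variable {A B : Type u} [CommRing A] [CommRing B] {σ : A →+* B}
  {M N : Type u} [AddCommGroup M] [Module A M] [AddCommGroup N] [Module B N]

/-- A semilinear map presenting its target as the base change of its source. -/
def IsBC (f : M →ₛₗ[σ] N) : Prop :=
  letI := σ.toAlgebra
  letI := Module.compHom N σ
  haveI : IsScalarTower A B N := IsScalarTower.of_algebraMap_smul fun _ _ => rfl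
  IsBaseChange B
    ({ toFun := fun x => f x
       map_add' := fun x y => f.map_add x y
       map_smul' := fun a x => f.map_smulₛₗ a x } : M →ₗ[A] N)

variable {f : M →ₛₗ[σ] N}

theorem IsBC.span (hf : IsBC f) (y : N) : y ∈ Submodule.span B (Set.range f) := by
  letI := σ.toAlgebra
  letI := Module.compHom N σ
  haveI : IsScalarTower A B N := IsScalarTower.of_algebraMap_smul fun _ _ => rfl
  induction y using IsBaseChange.inductionOn hf with
  | zero => exact zero_mem _
  | tmul x => exact Submodule.subset_span ⟨x, rfl⟩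
  | smul s y hy => exact Submodule.smul_mem _ _ hy
  | add a b ha hb => exact add_mem ha hb

theorem IsBC.ext (hf : IsBC f) {Q : Type u} [AddCommGroup Q] [Module B Q] (g g' : N →ₗ[B] Q)
    (h : ∀ x, g (f x) = g' (f x)) : g = g' := by
  refine LinearMap.ext fun y => ?_
  induction hf.span y using Submodule.span_induction with
  | mem y hy => obtain ⟨x, rfl⟩ := hy; exact h x
  | zero => rw [map_zero, map_zero]
  | add a b _ _ ha hb => rw [map_add, map_add, ha, hb]
  | smul c a _ ha => rw [map_smul, map_smul, ha]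

theorem IsBC.exists_lift (hf : IsBC f) {Q : Type u} [AddCommGroup Q] [Module B Q] (g : M →ₛₗ[σ] Q) :
    ∃ g' : N →ₗ[B] Q, ∀ x, g' (f x) = g x := by
  letI := σ.toAlgebra
  letI := Module.compHom N σ
  letI := Module.compHom Q σ
  haveI : IsScalarTower A B N := IsScalarTower.of_algebraMap_smul fun _ _ => rfl
  haveI : IsScalarTower A B Q := IsScalarTower.of_algebraMap_smul fun _ _ => rfl
  let g₀ : M →ₗ[A] Q :=
    { toFun := fun x => g x, map_add' := fun x y => g.map_add x y, map_smul' := fun a x => g.map_smulₛₗ a x }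
  exact ⟨hf.lift g₀, fun x => IsBaseChange.lift_eq hf g₀ x⟩

/-- An element killed by a jointly surjective family of flat base changes is zero. -/
theorem eq_zero_of_family {κ : Type*} {B : κ → Type u} [∀ k, CommRing (B k)] {σ : ∀ k, A →+* B k}
    (hflat : ∀ k, (σ k).Flat) (hcov : ∀ p : PrimeSpectrum A, ∃ k q, PrimeSpectrum.comap (σ k) q = p)
    {N : κ → Type u} [∀ k, AddCommGroup (N k)] [∀ k, Module (B k) (N k)] {f : ∀ k, M →ₛₗ[σ k] N k}
    (hf : ∀ k, IsBC (f k)) (m : M) (hm : ∀ k, f k m = 0) : m = 0 := by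
  let I : Ideal A := Ideal.torsionOf A M m
  suffices hI : I = ⊤ by
    have h1 : (1 : A) ∈ I := hI ▸ Submodule.mem_top
    simpa [I] using h1
  by_contra hI
  obtain ⟨P, hP, hle⟩ := Ideal.exists_le_maximal I hI
  obtain ⟨k, q, hq⟩ := hcov ⟨P, hP.isPrime⟩
  letI := (σ k).toAlgebra
  letI := Module.compHom (N k) (σ k)
  haveI : IsScalarTower A (B k) (N k) := IsScalarTower.of_algebraMap_smul fun _ _ => rfl
  haveI : Module.Flat A (B k) := hflat k
  have h0 : (1 : B k) ⊗ₜ[A] m = 0 := by
    refine (hf k).equiv.injective ?_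
    rw [map_zero, IsBaseChange.equiv_tmul, one_smul]
    exact hm k
  let φ : (A ⧸ I) →ₗ[A] M := Submodule.liftQ I (LinearMap.toSpanSingleton A M m) le_rfl
  have hφ : Function.Injective φ := LinearMap.ker_eq_bot.1 (Submodule.ker_liftQ_eq_bot' _ _ rfl)
  have h1 : (1 : B k) ⊗ₜ[A] (Ideal.Quotient.mk I 1) = 0 := by
    apply Module.Flat.lTensor_preserves_injective_linearMap (M := B k) φ hφ
    rw [map_zero, LinearMap.lTensor_tmul]
    refine Eq.trans (congrArg ((1 : B k) ⊗ₜ[A] ·) ?_) h0
    show (LinearMap.toSpanSingleton A M m) 1 = m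
    simp
  have h2 : I.map (algebraMap A (B k)) = ⊤ := by
    rw [Ideal.eq_top_iff_one, ← Ideal.Quotient.eq_zero_iff_mem]
    have h3 := congrArg (Algebra.TensorProduct.quotIdealMapEquivTensorQuot (B k) I).symm h1
    rw [map_zero, Algebra.TensorProduct.quotIdealMapEquivTensorQuot_symm_tmul] at h3
    simpa using h3
  refine q.isPrime.ne_top (top_le_iff.1 (h2.symm.le.trans (Ideal.map_le_iff_le_comap.2 ?_)))
  exact hle.trans (le_of_eq (congrArg PrimeSpectrum.asIdeal hq).symm)

theorem IsBC.injective (hf : IsBC f) (hflat : σ.Flat) (hs : Function.Surjective (PrimeSpectrum.comap σ)) :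
    Function.Injective f :=
  (injective_iff_map_eq_zero f).2 fun m hm =>
    eq_zero_of_family (κ := Unit) (σ := fun _ => σ) (f := fun _ => f) (fun _ => hflat)
      (fun p => ⟨(), hs p⟩) (fun _ => hf) m fun _ => hm

end Basic

section Descent

variable {A B C : Type u} [CommRing A] [CommRing B] [CommRing C] {σ : A →+* B} {i₁ i₂ : B →+* C} {ρ : A →+* C}
  {M N P : Type u} [AddCommGroup M] [Module A M] [AddCommGroup N] [Module B N] [AddCommGroup P] [Module C P]

/-- Descent of elements along a faithfully flat base change. -/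
theorem IsBC.exists_of_eq {f : M →ₛₗ[σ] N} (hf : IsBC f) (hflat : σ.Flat)
    (hs : Function.Surjective (PrimeSpectrum.comap σ))
    (hpo : IsPushout (CommRingCat.ofHom σ) (CommRingCat.ofHom σ) (CommRingCat.ofHom i₁) (CommRingCat.ofHom i₂))
    {g₁ : N →ₛₗ[i₁] P} {g₂ : N →ₛₗ[i₂] P} (hρ : i₁.comp σ = ρ) {g : M →ₛₗ[ρ] P} (hg : IsBC g)
    (h₁ : ∀ m, g₁ (f m) = g m) (h₂ : ∀ m, g₂ (f m) = g m) {x : N} (hx : g₁ x = g₂ x) :
    ∃ m, f m = x := by
  subst hρ
  letI := σ.toAlgebra
  letI := Module.compHom N σ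
  haveI : IsScalarTower A B N := IsScalarTower.of_algebraMap_smul fun _ _ => rfl
  haveI : Module.Flat A B := hflat
  haveI : Module.FaithfullyFlat A B := Module.FaithfullyFlat.of_comap_surjective hs
  have hc : i₁.comp σ = i₂.comp σ := congrArg CommRingCat.Hom.hom hpo.w
  letI : Algebra A C := (i₁.comp σ).toAlgebra
  let a₁ : B →ₐ[A] C := { i₁ with commutes' := fun a => rfl }
  let a₂ : B →ₐ[A] C := { i₂ with commutes' := fun a => (RingHom.congr_fun hc a).symm }
  let L : B ⊗[A] B →ₐ[A] C := Algebra.TensorProduct.lift a₁ a₂ fun _ _ => Commute.all _ _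
  have hL : Function.Bijective L := by
    have e := CommRingCat.isPushout_tensorProduct A B B
    have he : (e.isoIsPushout _ _ hpo).hom = CommRingCat.ofHom L.toRingHom := by
      apply e.hom_ext
      · rw [IsPushout.inl_isoIsPushout_hom]
        apply CommRingCat.hom_ext
        ext b
        show i₁ b = L (b ⊗ₜ 1)
        simp [L, a₁, a₂]
      · rw [IsPushout.inr_isoIsPushout_hom]
        apply CommRingCat.hom_ext
        ext b
        show i₂ b = L (1 ⊗ₜ b)
        simp [L, a₁, a₂]
    have hb : Function.Bijective (e.isoIsPushout _ _ hpo).hom :=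
      (e.isoIsPushout _ _ hpo).commRingCatIsoToRingEquiv.bijective
    rw [he] at hb
    exact hb
  letI := Module.compHom P (i₁.comp σ)
  haveI : IsScalarTower A C P := IsScalarTower.of_algebraMap_smul fun _ _ => rfl
  let eP : C ⊗[A] M ≃ₗ[C] P := IsBaseChange.equiv hg
  let eL : (B ⊗[A] B) ⊗[A] M ≃ₗ[A] C ⊗[A] M :=
    LinearEquiv.rTensor M (LinearEquiv.ofBijective L.toLinearMap hL)
  let Ψ : B ⊗[A] (B ⊗[A] M) ≃ₗ[A] P :=
    (TensorProduct.assoc A B B M).symm ≪≫ₗ eL ≪≫ₗ eP.restrictScalars A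
  have hΨ : ∀ b c m, Ψ (b ⊗ₜ (c ⊗ₜ m)) = (i₁ b * i₂ c) • g m := fun b c m => by
    show eP ((L (b ⊗ₜ c)) ⊗ₜ m) = _
    rw [IsBaseChange.equiv_tmul]
    simp [L, a₁, a₂]
  let e₁ : B ⊗[A] M ≃ₗ[B] N := IsBaseChange.equiv hf
  have key : ∀ z : B ⊗[A] M, Ψ (QcohEt15.Amitsur.d₀ B M z) = g₁ (e₁ z) - g₂ (e₁ z) := by
    intro z
    induction z using TensorProduct.induction_on with
    | zero => simp
    | tmul b m =>
      rw [QcohEt15.Amitsur.d₀_tmul, map_sub, hΨ, hΨ, map_one, map_one, mul_one, one_mul,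
        IsBaseChange.equiv_tmul]
      show _ = g₁ (b • f m) - g₂ (b • f m)
      rw [g₁.map_smulₛₗ, g₂.map_smulₛₗ, h₁, h₂]
    | add a b ha hb => simp only [map_add, ha, hb]; abel
  have hz : QcohEt15.Amitsur.d₀ (A := A) B M (e₁.symm x) = 0 := by
    refine Ψ.injective ?_
    rw [key, LinearEquiv.apply_symm_apply, hx, sub_self, map_zero]
  obtain ⟨m, hm⟩ := (QcohEt15.Amitsur.exact_d₀ B M _).1 hz
  refine ⟨m, ?_⟩
  have h := congrArg e₁ hm
  rw [LinearEquiv.apply_symm_apply, QcohEt15.Amitsur.ι_apply, IsBaseChange.equiv_tmul, one_smul] at h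
  exact h

end Descent

section Hom

variable {A B : Type u} [CommRing A] [CommRing B] {σ : A →+* B}
  {E M E' M' : Type u} [AddCommGroup E] [Module A E] [AddCommGroup M] [Module A M]
  [AddCommGroup E'] [Module B E'] [AddCommGroup M'] [Module B M']

/-- Homomorphisms out of a finitely presented module commute with flat base change. -/
theorem isBC_hom {fE : E →ₛₗ[σ] E'} {fM : M →ₛₗ[σ] M'} (hE : IsBC fE) (hM : IsBC fM) (hflat : σ.Flat)
    [Module.FinitePresentation A E] (T : (E →ₗ[A] M) →ₛₗ[σ] (E' →ₗ[B] M'))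
    (hT : ∀ h x, T h (fE x) = fM (h x)) : IsBC T := by
  letI := σ.toAlgebra
  letI := Module.compHom E' σ
  letI := Module.compHom M' σ
  haveI : IsScalarTower A B E' := IsScalarTower.of_algebraMap_smul fun _ _ => rfl
  haveI : IsScalarTower A B M' := IsScalarTower.of_algebraMap_smul fun _ _ => rfl
  haveI : Module.Flat A B := hflat
  letI := Module.compHom (E' →ₗ[B] M') σ
  haveI : IsScalarTower A B (E' →ₗ[B] M') := IsScalarTower.of_algebraMap_smul fun _ _ => rfl
  let eE : B ⊗[A] E ≃ₗ[B] E' := IsBaseChange.equiv hE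
  let eM : B ⊗[A] M ≃ₗ[B] M' := IsBaseChange.equiv hM
  refine IsBaseChange.of_equiv
    ((Module.FinitePresentation.isBaseChange_map A E M B).equiv ≪≫ₗ LinearEquiv.arrowCongr eE eM) fun h => ?_
  refine hE.ext _ _ fun x => ?_
  show eM (((Module.FinitePresentation.isBaseChange_map A E M B).equiv (1 ⊗ₜ h)) (eE.symm (fE x))) = T h (fE x)
  rw [IsBaseChange.equiv_tmul, one_smul, hT]
  have hx : eE.symm (fE x) = 1 ⊗ₜ x := IsBaseChange.equiv_symm_apply hE x
  rw [hx]
  show eM ((1 : B) ⊗ₜ h x) = fM (h x)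
  rw [IsBaseChange.equiv_tmul, one_smul]
  rfl

end Hom

section Kernel

variable {A A' B B' C C' : Type u} [CommRing A] [CommRing A'] [CommRing B] [CommRing B'] [CommRing C] [CommRing C']
  {g : A →+* A'} {sB : A →+* B} {sC : A →+* C} {sB' : A' →+* B'} {sC' : A' →+* C'} {κB : B →+* B'}
  {κC : C →+* C'}
  {HB HB' HC HC' : Type u} [AddCommGroup HB] [Module B HB] [AddCommGroup HB'] [Module B' HB']
  [AddCommGroup HC] [Module C HC] [AddCommGroup HC'] [Module C' HC']

theorem isBC_restrict
    (hB : IsPushout (CommRingCat.ofHom sB) (CommRingCat.ofHom g) (CommRingCat.ofHom κB) (CommRingCat.ofHom sB'))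
    {fB : HB →ₛₗ[κB] HB'} (hf : IsBC fB) :
    letI := g.toAlgebra
    letI := Module.compHom HB sB
    letI := Module.compHom HB' sB'
    ∃ e : A' ⊗[A] HB ≃+ HB', ∀ a h, e (a ⊗ₜ h) = sB' a • fB h := by
  letI := g.toAlgebra
  letI := sB.toAlgebra
  letI := sB'.toAlgebra
  letI := κB.toAlgebra
  letI : Algebra A B' := (sB'.comp g).toAlgebra
  haveI : IsScalarTower A A' B' := .of_algebraMap_eq' rfl
  haveI : IsScalarTower A B B' :=
    .of_algebraMap_eq' (congrArg CommRingCat.Hom.hom hB.w).symm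
  haveI : Algebra.IsPushout A B A' B' := CommRingCat.isPushout_iff_isPushout.1 hB
  haveI : Algebra.IsPushout A A' B B' := Algebra.IsPushout.symm inferInstance
  letI := Module.compHom HB sB
  haveI : IsScalarTower A B HB := IsScalarTower.of_algebraMap_smul fun _ _ => rfl
  letI := Module.compHom HB' κB
  haveI : IsScalarTower B B' HB' := IsScalarTower.of_algebraMap_smul fun _ _ => rfl
  let e₁ : B' ⊗[B] HB ≃ₗ[B'] HB' := IsBaseChange.equiv hf
  let e₂ : B' ⊗[B] HB ≃ₗ[A'] A' ⊗[A] HB := Algebra.IsPushout.cancelBaseChange A A' B B' HB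
  refine ⟨e₂.symm.toAddEquiv.trans e₁.toAddEquiv, fun a h => ?_⟩
  show e₁ (e₂.symm (a ⊗ₜ h)) = _
  rw [Algebra.IsPushout.cancelBaseChange_symm_tmul, IsBaseChange.equiv_tmul]
  rfl

/-- The kernel of a base-changed map is spanned by the kernel, for a flat base change. -/
theorem mem_span_ker (hg : g.Flat)
    (hB : IsPushout (CommRingCat.ofHom sB) (CommRingCat.ofHom g) (CommRingCat.ofHom κB) (CommRingCat.ofHom sB'))
    (hC : IsPushout (CommRingCat.ofHom sC) (CommRingCat.ofHom g) (CommRingCat.ofHom κC) (CommRingCat.ofHom sC'))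
    {fB : HB →ₛₗ[κB] HB'} (hfB : IsBC fB) {fC : HC →ₛₗ[κC] HC'} (hfC : IsBC fC)
    (D : HB →+ HC) (hD : ∀ a h, D (sB a • h) = sC a • D h)
    (D' : HB' →+ HC') (hD' : ∀ a h, D' (sB' a • h) = sC' a • D' h)
    (hcomm : ∀ h, D' (fB h) = fC (D h)) {x : HB'} (hx : D' x = 0) :
    x ∈ Submodule.span B' (fB '' {h | D h = 0}) := by
  obtain ⟨eB, heB⟩ := isBC_restrict hB hfB
  obtain ⟨eC, heC⟩ := isBC_restrict hC hfC
  letI := g.toAlgebra
  letI := Module.compHom HB sB
  letI := Module.compHom HC sC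
  haveI : Module.Flat A A' := hg
  let Dl : HB →ₗ[A] HC := { toFun := D, map_add' := D.map_add, map_smul' := hD }
  obtain ⟨z, rfl⟩ := eB.surjective x
  have key : ∀ z, D' (eB z) = eC (Dl.lTensor A' z) := by
    intro z
    induction z using TensorProduct.induction_on with
    | zero => simp
    | tmul a h =>
      rw [heB, hD', hcomm, LinearMap.lTensor_tmul, heC]
      rfl
    | add a b ha hb => simp only [map_add, ha, hb]
  have hz : Dl.lTensor A' z = 0 := eC.injective (by rw [← key, hx, map_zero])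
  obtain ⟨w, rfl⟩ := (Module.Flat.lTensor_exact A' (LinearMap.exact_subtype_ker_map Dl) z).1 hz
  clear hz key hx
  induction w using TensorProduct.induction_on with
  | zero => simp
  | tmul a h =>
    rw [LinearMap.lTensor_tmul, heB]
    exact Submodule.smul_mem _ _ (Submodule.subset_span ⟨_, h.2, rfl⟩)
  | add a b ha hb =>
    rw [map_add, map_add]
    exact add_mem ha hb

end Kernel

end Groth.Agent.StQC14
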