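import Groth.Agent.Lib.StQC14.Desc2

/-!
# Affine atlases with affine pieces
-/

universe w v u

open CategoryTheory CategoryTheory.Functor CategoryTheory.Limits AlgebraicGeometry Opposite

set_option linter.style.haveILetI false
set_option linter.unusedSectionVars false
set_option backward.isDefEq.respectTransparency false
set_option backward.isDefEq.respectTransparency.types false

namespace Groth.Agent.StQC14

open StMod

variable {S : Scheme.{u}} (𝒳 : BasedCategory.{v, w} (Over S))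

/-- A faithfully flat affine object with an affine product with every affine object. -/
structure Atlas where
  grpd : FibCat.IsFibGrpd 𝒳.p
  b : 𝒳.obj
  [affine_b : IsAffine (sch 𝒳 b)]
  pr : ∀ (z : 𝒳.obj) [IsAffine (sch 𝒳 z)], 𝒳.obj
  affine_pr : ∀ (z : 𝒳.obj) [IsAffine (sch 𝒳 z)], IsAffine (sch 𝒳 (pr z))
  π : ∀ (z : 𝒳.obj) [IsAffine (sch 𝒳 z)], pr z ⟶ z
  r : ∀ (z : 𝒳.obj) [IsAffine (sch 𝒳 z)], pr z ⟶ b
  ff : ∀ (z : 𝒳.obj) [IsAffine (sch 𝒳 z)], FF (π z)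
  exists_lift : ∀ {w z : 𝒳.obj} [IsAffine (sch 𝒳 w)] [IsAffine (sch 𝒳 z)] (a : w ⟶ z) (s : w ⟶ b),
    ∃ k : w ⟶ pr z, k ≫ π z = a ∧ k ≫ r z = s
  ext : ∀ {w z : 𝒳.obj} [IsAffine (sch 𝒳 w)] [IsAffine (sch 𝒳 z)] (k k' : w ⟶ pr z),
    k ≫ π z = k' ≫ π z → k ≫ r z = k' ≫ r z → k = k'

attribute [instance] Atlas.affine_b Atlas.affine_pr

namespace Atlas

variable {𝒳} (A : Atlas 𝒳) {z z' z'' w : 𝒳.obj} [IsAffine (sch 𝒳 z)] [IsAffine (sch 𝒳 z')] [IsAffine (sch 𝒳 z'')]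
  [IsAffine (sch 𝒳 w)]

/-- The morphism into a product. -/
noncomputable def lift (a : w ⟶ z) (s : w ⟶ A.b) : w ⟶ A.pr z := (A.exists_lift a s).choose

@[simp]
theorem lift_π (a : w ⟶ z) (s : w ⟶ A.b) : A.lift a s ≫ A.π z = a := (A.exists_lift a s).choose_spec.1

@[simp]
theorem lift_r (a : w ⟶ z) (s : w ⟶ A.b) : A.lift a s ≫ A.r z = s := (A.exists_lift a s).choose_spec.2

/-- Functoriality of the products. -/
noncomputable def prMap (φ : z' ⟶ z) : A.pr z' ⟶ A.pr z := A.lift (A.π z' ≫ φ) (A.r z')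

theorem prMap_π (φ : z' ⟶ z) : A.prMap φ ≫ A.π z = A.π z' ≫ φ := A.lift_π _ _

theorem prMap_r (φ : z' ⟶ z) : A.prMap φ ≫ A.r z = A.r z' := A.lift_r _ _

theorem prMap_id : A.prMap (𝟙 z) = 𝟙 _ :=
  A.ext _ _ (by rw [A.prMap_π, Category.comp_id, Category.id_comp]) (by rw [A.prMap_r, Category.id_comp])

theorem prMap_comp (ψ : z'' ⟶ z') (φ : z' ⟶ z) : A.prMap (ψ ≫ φ) = A.prMap ψ ≫ A.prMap φ :=
  A.ext _ _ (by rw [A.prMap_π, Category.assoc, A.prMap_π, ← Category.assoc (A.prMap ψ), A.prMap_π, Category.assoc])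
    (by rw [A.prMap_r, Category.assoc, A.prMap_r, A.prMap_r])

/-- Products commute with base change. -/
theorem prSq (φ : z' ⟶ z) :
    IsPullback (bmap 𝒳 (A.prMap φ)) (bmap 𝒳 (A.π z')) (bmap 𝒳 (A.π z)) (bmap 𝒳 φ) := by
  obtain ⟨ζ, π₁, π₂, hζ, hc, sq⟩ := exists_pullback A.grpd (A.π z) φ
  obtain ⟨s, hs₁, hs₂⟩ := exists_factor_pullback A.grpd hc sq (A.prMap φ) (A.π z') (A.prMap_π φ)
  let k := A.lift π₂ (π₁ ≫ A.r z)
  have hk₁ : k ≫ A.prMap φ = π₁ :=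
    A.ext _ _ (by rw [Category.assoc, A.prMap_π, ← Category.assoc, A.lift_π, hc])
      (by rw [Category.assoc, A.prMap_r, A.lift_r])
  have h₁ : s ≫ k = 𝟙 _ := A.ext _ _ (by rw [Category.assoc, A.lift_π, hs₂, Category.id_comp])
    (by rw [Category.assoc, A.lift_r, ← Category.assoc, hs₁, A.prMap_r, Category.id_comp])
  have h₂ : k ≫ s = 𝟙 _ := by
    have e₁ : (k ≫ s) ≫ π₁ = π₁ := by rw [Category.assoc, hs₁, hk₁]
    have e₂ : (k ≫ s) ≫ π₂ = π₂ := by rw [Category.assoc, hs₂]; exact A.lift_π _ _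
    refine factor_unique A.grpd π₁ (e₁.trans (Category.id_comp π₁).symm) (sq.hom_ext ?_ ?_)
    · rw [← bmap_comp, e₁, bmap_id, Category.id_comp]
    · rw [← bmap_comp, e₂, bmap_id, Category.id_comp]
  let e : sch 𝒳 ζ ≅ sch 𝒳 (A.pr z') :=
    { hom := bmap 𝒳 k
      inv := bmap 𝒳 s
      hom_inv_id := by rw [← bmap_comp, h₂, bmap_id]
      inv_hom_id := by rw [← bmap_comp, h₁, bmap_id] }
  exact sq.of_iso e (Iso.refl _) (Iso.refl _) (Iso.refl _)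
    (by rw [Iso.refl_hom, Category.comp_id]; show _ = bmap 𝒳 k ≫ _; rw [← bmap_comp, hk₁])
    (by rw [Iso.refl_hom, Category.comp_id]; show _ = bmap 𝒳 k ≫ _; rw [← bmap_comp, A.lift_π])
    (by simp) (by simp)

/-- The inversion of the relations. -/
noncomputable def inv : A.pr A.b ⟶ A.pr A.b := A.lift (A.r A.b) (A.π A.b)

theorem inv_π : A.inv ≫ A.π A.b = A.r A.b := A.lift_π _ _

theorem inv_r : A.inv ≫ A.r A.b = A.π A.b := A.lift_r _ _

theorem inv_inv : A.inv ≫ A.inv = 𝟙 _ :=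
  A.ext _ _ (by rw [Category.assoc, A.inv_π, A.inv_r, Category.id_comp])
    (by rw [Category.assoc, A.inv_r, A.inv_π, Category.id_comp])

theorem ff_r : FF (A.r A.b) := by
  haveI : IsIso A.inv := ⟨A.inv, A.inv_inv, A.inv_inv⟩
  rw [← A.inv_π]
  exact FF.comp (FF.of_isIso A.inv) (A.ff A.b)

/-- The presentation. -/
noncomputable def fpres : FPres 𝒳 where
  b := A.b
  c := A.pr A.b
  p := A.π A.b
  q := A.r A.b
  cover ξ _ := ⟨A.pr ξ, inferInstance, A.π ξ, A.ff ξ, ⟨A.r ξ⟩⟩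
  pairs {ξ} _ r s := ⟨ξ, inferInstance, 𝟙 ξ, A.lift r s, FF.id ξ, by simp, by simp⟩
  grpd := A.grpd
  flat_p := (A.ff A.b).1
  flat_q := A.ff_r.1
  uniq {z} _ t t' h₁ h₂ x := by
    refine ⟨z, inferInstance, 𝟙 z, (FF.id z).1, ⟨x, ?_⟩, A.pr A.b, inferInstance, t, 𝟙 _, 𝟙 _,
      (FF.id _).1, (FF.id _).1, rfl, rfl, by simp, ?_⟩
    · rw [bmap_id]
      rfl
    · rw [Category.comp_id, Category.id_comp]
      exact A.ext t t' h₁ h₂

end Atlas

end Groth.Agent.StQC14
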