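import Groth.Agent.Lib.StQC14.Alg
import Mathlib.RingTheory.Localization.BaseChange
import Mathlib.RingTheory.Localization.Away.Basic

/-!
# Glueing elements along basic localisations, in semilinear form
-/

universe u

open TensorProduct CategoryTheory

set_option linter.style.haveILetI false
set_option linter.unusedSectionVars false

namespace Groth.Agent.StQC14

section One

variable {A B : Type u} [CommRing A] [CommRing B] {σ : A →+* B}
  {M N : Type u} [AddCommGroup M] [Module A M] [AddCommGroup N] [Module B N] {f : M →ₛₗ[σ] N}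

theorem IsBC.loc_surj (hf : IsBC f) {g : A} (hg : letI := σ.toAlgebra; IsLocalization.Away g B) (s : N) :
    ∃ (n : ℕ) (m : M), f m = σ g ^ n • s := by
  letI := σ.toAlgebra
  letI := Module.compHom N σ
  haveI : IsScalarTower A B N := IsScalarTower.of_algebraMap_smul fun _ _ => rfl
  haveI : IsLocalization (Submonoid.powers g) B := hg
  haveI := (isLocalizedModule_iff_isBaseChange (Submonoid.powers g) B
    ({ toFun := fun x => f x
       map_add' := fun x y => f.map_add x y
       map_smul' := fun a x => f.map_smulₛₗ a x } : M →ₗ[A] N)).2 hf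
  obtain ⟨⟨m, ⟨_, n, rfl⟩⟩, h⟩ := IsLocalizedModule.surj (Submonoid.powers g)
    ({ toFun := fun x => f x
       map_add' := fun x y => f.map_add x y
       map_smul' := fun a x => f.map_smulₛₗ a x } : M →ₗ[A] N) s
  refine ⟨n, m, ?_⟩
  rw [← map_pow]
  exact h.symm

theorem IsBC.loc_inj (hf : IsBC f) {g : A} (hg : letI := σ.toAlgebra; IsLocalization.Away g B) (m : M)
    (hm : f m = 0) : ∃ k : ℕ, g ^ k • m = 0 := by
  letI := σ.toAlgebra
  letI := Module.compHom N σ
  haveI : IsScalarTower A B N := IsScalarTower.of_algebraMap_smul fun _ _ => rfl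
  haveI : IsLocalization (Submonoid.powers g) B := hg
  haveI := (isLocalizedModule_iff_isBaseChange (Submonoid.powers g) B
    ({ toFun := fun x => f x
       map_add' := fun x y => f.map_add x y
       map_smul' := fun a x => f.map_smulₛₗ a x } : M →ₗ[A] N)).2 hf
  obtain ⟨⟨_, k, rfl⟩, h⟩ := (IsLocalizedModule.eq_zero_iff (Submonoid.powers g)
    ({ toFun := fun x => f x
       map_add' := fun x y => f.map_add x y
       map_smul' := fun a x => f.map_smulₛₗ a x } : M →ₗ[A] N)).1 hm
  exact ⟨k, h⟩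

theorem isUnit_away {g : A} (hg : letI := σ.toAlgebra; IsLocalization.Away g B) : IsUnit (σ g) := by
  letI := σ.toAlgebra
  haveI : IsLocalization.Away g B := hg
  exact IsLocalization.Away.algebraMap_isUnit g

end One

/-- Elements glue along a finite cover by basic localisations. -/
theorem exists_glue_localization {A : Type u} [CommRing A] {M : Type u} [AddCommGroup M] [Module A M]
    {ι : Type*} [Finite ι] (g : ι → A) (hcov : Ideal.span (Set.range g) = ⊤)
    {B : ι → Type u} [∀ i, CommRing (B i)] {σ : ∀ i, A →+* B i}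
    (hσ : ∀ i, letI := (σ i).toAlgebra; IsLocalization.Away (g i) (B i))
    {N : ι → Type u} [∀ i, AddCommGroup (N i)] [∀ i, Module (B i) (N i)] {f : ∀ i, M →ₛₗ[σ i] N i}
    (hf : ∀ i, IsBC (f i))
    {C : ι → ι → Type u} [∀ i j, CommRing (C i j)] {τ : ∀ i j, A →+* C i j}
    (hτ : ∀ i j, letI := (τ i j).toAlgebra; IsLocalization.Away (g i * g j) (C i j))
    {P : ι → ι → Type u} [∀ i j, AddCommGroup (P i j)] [∀ i j, Module (C i j) (P i j)]
    {h : ∀ i j, M →ₛₗ[τ i j] P i j} (hh : ∀ i j, IsBC (h i j))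
    (ρ₁ : ∀ i j, B i →+* C i j) (ρ₂ : ∀ i j, B j →+* C i j)
    (hρ₁ : ∀ i j a, ρ₁ i j (σ i a) = τ i j a) (hρ₂ : ∀ i j a, ρ₂ i j (σ j a) = τ i j a)
    (r₁ : ∀ i j, N i →ₛₗ[ρ₁ i j] P i j) (r₂ : ∀ i j, N j →ₛₗ[ρ₂ i j] P i j)
    (h₁ : ∀ i j m, r₁ i j (f i m) = h i j m) (h₂ : ∀ i j m, r₂ i j (f j m) = h i j m)
    (s : ∀ i, N i) (hs : ∀ i j, r₁ i j (s i) = r₂ i j (s j)) : ∃ m : M, ∀ i, f i m = s i := by
  haveI := Fintype.ofFinite ι
  choose n₀ m₀ hm₀ using fun i => (hf i).loc_surj (hσ i) (s i)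
  let n := Finset.univ.sup n₀
  let m : ι → M := fun i => g i ^ (n - n₀ i) • m₀ i
  have hm : ∀ i, f i (m i) = σ i (g i) ^ n • s i := fun i => by
    rw [(f i).map_smulₛₗ, hm₀, map_pow, smul_smul, ← pow_add,
      Nat.sub_add_cancel (Finset.le_sup (Finset.mem_univ i))]
  clear_value m
  have hd : ∀ i j, h i j (g j ^ n • m i - g i ^ n • m j) = 0 := fun i j => by
    rw [_root_.map_sub, (h i j).map_smulₛₗ, (h i j).map_smulₛₗ, ← h₁ i j (m i), ← h₂ i j (m j), hm i, hm j,
      (r₁ i j).map_smulₛₗ, (r₂ i j).map_smulₛₗ, map_pow, map_pow, map_pow, map_pow, hρ₁, hρ₂, smul_smul, smul_smul,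
      hs i j, mul_comm, sub_self]
  choose k₀ hk₀ using fun p : ι × ι => (hh p.1 p.2).loc_inj (hτ p.1 p.2) _ (hd p.1 p.2)
  let k := Finset.univ.sup k₀
  have hk : ∀ i j, (g i * g j) ^ k • (g j ^ n • m i - g i ^ n • m j) = 0 := fun i j => by
    have e : k₀ (i, j) ≤ k := Finset.le_sup (Finset.mem_univ (i, j))
    rw [show (g i * g j) ^ k = (g i * g j) ^ (k - k₀ (i, j)) * (g i * g j) ^ k₀ (i, j) by
      rw [← pow_add, Nat.sub_add_cancel e], mul_smul, hk₀ (i, j), smul_zero]
  let m' : ι → M := fun i => g i ^ k • m i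
  have hm' : ∀ i j, g j ^ (n + k) • m' i = g i ^ (n + k) • m' j := fun i j => by
    have e := hk i j
    rw [smul_sub, sub_eq_zero, smul_smul, smul_smul] at e
    simp only [m', smul_smul]
    rw [show g j ^ (n + k) * g i ^ k = (g i * g j) ^ k * g j ^ n by ring,
      show g i ^ (n + k) * g j ^ k = (g i * g j) ^ k * g i ^ n by ring]
    exact e
  have h1 : (1 : A) ∈ Ideal.span (Set.range fun i => g i ^ (n + k)) := by
    have e := Ideal.span_pow_eq_top (Set.range g) hcov (n + k)
    rw [← Set.range_comp] at e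
    exact e ▸ Submodule.mem_top
  obtain ⟨c, hc⟩ := Ideal.mem_span_range_iff_exists_fun.1 h1
  refine ⟨∑ i, c i • m' i, fun j => ?_⟩
  have hu : IsUnit (σ j (g j) ^ (n + k)) := (isUnit_away (hσ j)).pow _
  refine (IsUnit.smul_left_cancel hu).1 ?_
  rw [← map_pow, ← (f j).map_smulₛₗ, Finset.smul_sum]
  have e : ∀ i, g j ^ (n + k) • c i • m' i = (c i * g i ^ (n + k)) • m' j := fun i => by
    rw [smul_comm, hm', smul_smul]
  rw [Finset.sum_congr rfl fun i _ => e i, ← Finset.sum_smul, hc, one_smul]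
  show f j (g j ^ k • m j) = _
  rw [(f j).map_smulₛₗ, hm j, smul_smul, map_pow, map_pow, ← pow_add, add_comm]

end Groth.Agent.StQC14
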