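import Groth.Agent.Lib.StQC14.Descent
import Groth.Agent.Lib.StQC14.Glue
import Groth.Agent.Lib.ModDesc12.Main

/-!
# Flat presentations and modules on affine objects with flat base change
-/

universe w v u

open CategoryTheory CategoryTheory.Functor CategoryTheory.Limits AlgebraicGeometry Opposite TensorProduct

set_option linter.style.haveILetI false
set_option linter.unusedSectionVars false
set_option backward.isDefEq.respectTransparency false
set_option backward.isDefEq.respectTransparency.types false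

namespace Groth.Agent.StQC14

open StMod

section PullT

variable {A B : Type u} [CommRing A] [CommRing B] (σ : A →+* B) (M : Type u) [AddCommGroup M] [Module A M]

/-- Extension of scalars along a ring map. -/
abbrev PullT : Type u := ((ModuleCat.extendScalars σ).obj (ModuleCat.of A M) : ModuleCat.{u} B)

/-- The unit of extension of scalars. -/
noncomputable def pullUnit : M →ₛₗ[σ] PullT σ M where
  toFun m := ModDesc12.one σ (ModuleCat.of A M) m
  map_add' m n := ModDesc12.one_add σ (ModuleCat.of A M) m n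
  map_smul' a m := ModDesc12.one_smul' σ (ModuleCat.of A M) a m

theorem isBC_pullUnit : IsBC (pullUnit σ M) := by
  letI := σ.toAlgebra
  letI := Module.compHom (PullT σ M) σ
  haveI : IsScalarTower A B (PullT σ M) := IsScalarTower.of_algebraMap_smul fun _ _ => rfl
  let e : B ⊗[A] M ≃ₗ[B] PullT σ M :=
    { toFun := fun x => x, invFun := fun x => x, map_add' := fun _ _ => rfl,
      map_smul' := fun _ _ => rfl, left_inv := fun _ => rfl, right_inv := fun _ => rfl }
  exact IsBaseChange.of_equiv e fun m => rfl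

end PullT

section Comp

variable {A B C : Type u} [CommRing A] [CommRing B] [CommRing C] {σ : A →+* B} {τ : B →+* C} {ρ : A →+* C}
  {M N P : Type u} [AddCommGroup M] [Module A M] [AddCommGroup N] [Module B N] [AddCommGroup P] [Module C P]
  {f : M →ₛₗ[σ] N} {g : N →ₛₗ[τ] P} {hc : M →ₛₗ[ρ] P}

/-- Base changes compose. -/
theorem IsBC.comp (hρ : τ.comp σ = ρ) (hf : IsBC f) (hg : IsBC g) (e : ∀ x, g (f x) = hc x) : IsBC hc := by
  subst hρ
  letI := σ.toAlgebra
  letI := τ.toAlgebra
  letI : Algebra A C := (τ.comp σ).toAlgebra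
  haveI : IsScalarTower A B C := IsScalarTower.of_algebraMap_eq' rfl
  letI := Module.compHom N σ
  haveI : IsScalarTower A B N := IsScalarTower.of_algebraMap_smul fun _ _ => rfl
  letI := Module.compHom P τ
  haveI : IsScalarTower B C P := IsScalarTower.of_algebraMap_smul fun _ _ => rfl
  letI := Module.compHom P (τ.comp σ)
  haveI : IsScalarTower A C P := IsScalarTower.of_algebraMap_smul fun _ _ => rfl
  haveI : IsScalarTower A B P := IsScalarTower.of_algebraMap_smul fun _ _ => rfl
  have h₁ : IsBaseChange C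
      ((({ toFun := fun x => g x, map_add' := fun x y => g.map_add x y,
           map_smul' := fun a x => g.map_smulₛₗ a x } : N →ₗ[B] P).restrictScalars A).comp
        ({ toFun := fun x => f x, map_add' := fun x y => f.map_add x y,
           map_smul' := fun a x => f.map_smulₛₗ a x } : M →ₗ[A] N)) := IsBaseChange.comp hf hg
  have e' : ({ toFun := fun x => hc x, map_add' := fun x y => hc.map_add x y,
                map_smul' := fun a x => hc.map_smulₛₗ a x } : M →ₗ[A] P) =
      ((({ toFun := fun x => g x, map_add' := fun x y => g.map_add x y,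
           map_smul' := fun a x => g.map_smulₛₗ a x } : N →ₗ[B] P).restrictScalars A).comp
        ({ toFun := fun x => f x, map_add' := fun x y => f.map_add x y,
           map_smul' := fun a x => f.map_smulₛₗ a x } : M →ₗ[A] N)) := LinearMap.ext fun x => (e x).symm
  unfold IsBC
  exact e' ▸ h₁

/-- Cancelling a base change on the left. -/
theorem IsBC.of_comp (hρ : τ.comp σ = ρ) (hf : IsBC f) (hh : IsBC hc) (e : ∀ x, g (f x) = hc x) : IsBC g := by
  subst hρ
  letI := σ.toAlgebra
  letI := τ.toAlgebra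
  letI : Algebra A C := (τ.comp σ).toAlgebra
  haveI : IsScalarTower A B C := IsScalarTower.of_algebraMap_eq' rfl
  letI := Module.compHom N σ
  haveI : IsScalarTower A B N := IsScalarTower.of_algebraMap_smul fun _ _ => rfl
  letI := Module.compHom P τ
  haveI : IsScalarTower B C P := IsScalarTower.of_algebraMap_smul fun _ _ => rfl
  letI := Module.compHom P (τ.comp σ)
  haveI : IsScalarTower A C P := IsScalarTower.of_algebraMap_smul fun _ _ => rfl
  haveI : IsScalarTower A B P := IsScalarTower.of_algebraMap_smul fun _ _ => rfl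
  have e' : ({ toFun := fun x => hc x, map_add' := fun x y => hc.map_add x y,
                map_smul' := fun a x => hc.map_smulₛₗ a x } : M →ₗ[A] P) =
      ((({ toFun := fun x => g x, map_add' := fun x y => g.map_add x y,
           map_smul' := fun a x => g.map_smulₛₗ a x } : N →ₗ[B] P).restrictScalars A).comp
        ({ toFun := fun x => f x, map_add' := fun x y => f.map_add x y,
           map_smul' := fun a x => f.map_smulₛₗ a x } : M →ₗ[A] N)) := LinearMap.ext fun x => (e x).symm
  unfold IsBC at hh ⊢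
  exact IsBaseChange.of_comp hf (e' ▸ hh)

end Comp

variable {S : Scheme.{u}} {𝒳 : BasedCategory.{v, w} (Over S)}

/-- Rings of functions along composites. -/
theorem appTop_bmap_comp {a b c : 𝒳.obj} (k : a ⟶ b) (φ : b ⟶ c) :
    (bmap 𝒳 k).appTop.hom.comp (bmap 𝒳 φ).appTop.hom = (bmap 𝒳 (k ≫ φ)).appTop.hom :=
  congrArg CommRingCat.Hom.hom
    (((bmap 𝒳 k).comp_appTop (bmap 𝒳 φ)).symm.trans (congrArg Scheme.Hom.appTop (bmap_comp k φ).symm))

variable (𝒳) in
/-- A presentation with flat relations which also presents the relations. -/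
structure FPres extends Pres 𝒳 where
  grpd : FibCat.IsFibGrpd 𝒳.p
  flat_p : Flat (bmap 𝒳 p)
  flat_q : Flat (bmap 𝒳 q)
  uniq : ∀ {z : 𝒳.obj} [IsAffine (sch 𝒳 z)] (t t' : z ⟶ c), t ≫ p = t' ≫ p → t ≫ q = t' ≫ q →
    ∀ x : ↥(sch 𝒳 z), ∃ (z' : 𝒳.obj) (_ : IsAffine (sch 𝒳 z')) (π : z' ⟶ z), Flat (bmap 𝒳 π) ∧
      x ∈ Set.range (bmap 𝒳 π) ∧ ∃ (ζ : 𝒳.obj) (_ : IsAffine (sch 𝒳 ζ)) (s : z' ⟶ ζ) (t₁ t₂ : ζ ⟶ c),
        Flat (bmap 𝒳 t₁) ∧ Flat (bmap 𝒳 t₂) ∧ t₁ ≫ p = t₂ ≫ p ∧ t₁ ≫ q = t₂ ≫ q ∧
          s ≫ t₁ = π ≫ t ∧ s ≫ t₂ = π ≫ t'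

variable (𝒳) in
/-- Modules on affine objects, compatible with flat base change. -/
structure FlatFun where
  G : ∀ (z : 𝒳.obj) [IsAffine (sch 𝒳 z)], ModuleCat.{u} Γ(sch 𝒳 z, ⊤)
  res : ∀ {z' z : 𝒳.obj} [IsAffine (sch 𝒳 z')] [IsAffine (sch 𝒳 z)] (φ : z' ⟶ z),
    G z →ₛₗ[(bmap 𝒳 φ).appTop.hom] G z'
  res_id : ∀ (z : 𝒳.obj) [IsAffine (sch 𝒳 z)] (x : G z), res (𝟙 z) x = x
  res_comp : ∀ {z'' z' z : 𝒳.obj} [IsAffine (sch 𝒳 z'')] [IsAffine (sch 𝒳 z')] [IsAffine (sch 𝒳 z)]
    (ψ : z'' ⟶ z') (φ : z' ⟶ z) (x : G z), res (ψ ≫ φ) x = res ψ (res φ x)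
  isBC : ∀ {z' z : 𝒳.obj} [IsAffine (sch 𝒳 z')] [IsAffine (sch 𝒳 z)] (φ : z' ⟶ z),
    Flat (bmap 𝒳 φ) → IsBC (res φ)

end Groth.Agent.StQC14
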