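import Groth.Agent.Lib.StQC14.FlatObj
import Groth.Agent.Lib.StQC14.FlatFun

/-!
# Presentations with flat relations which also present the relations
-/

universe w' v' w v u

open CategoryTheory CategoryTheory.Functor CategoryTheory.Limits AlgebraicGeometry Opposite

set_option linter.style.haveILetI false
set_option linter.unusedSectionVars false
set_option backward.isDefEq.respectTransparency false
set_option backward.isDefEq.respectTransparency.types false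

namespace Groth.Agent.StQC14

open StMod Groth.Agent.FC16 Groth.Agent.StAlg Groth.Agent.StAlg16 AlgSt

variable {S : Scheme.{u}}

section Transport

variable {𝒳 : BasedCategory.{v, w} (Over S)} {ℬ : BasedCategory.{v', w'} (Over S)} (Φ : 𝒳 ⥤ᵇ ℬ)

theorem flat_map {ξ' ξ : 𝒳.obj} {φ : ξ' ⟶ ξ} (h : Flat (bmap 𝒳 φ)) : Flat (bmap ℬ (Φ.map φ)) := by
  rw [bmap_mapB]
  infer_instance

theorem flat_of_isIso_bmap {ξ' ξ : 𝒳.obj} (φ : ξ' ⟶ ξ) [IsIso φ] : Flat (bmap 𝒳 φ) := (FF.of_isIso φ).1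

/-- Presentations with flat relations are transported along equivalences. -/
theorem FPres.map (P : FPres 𝒳) (hℬ : FibCat.IsFibGrpd ℬ.p) [Φ.toFunctor.Full] [Φ.toFunctor.Faithful]
    [Φ.toFunctor.EssSurj] : Nonempty (FPres ℬ) := by
  haveI := isAffine_map Φ P.b
  haveI := isAffine_map Φ P.c
  refine ⟨{ b := Φ.obj P.b, c := Φ.obj P.c, p := Φ.map P.p, q := Φ.map P.q, cover := ?_, pairs := ?_,
            grpd := hℬ, flat_p := flat_map Φ P.flat_p, flat_q := flat_map Φ P.flat_q, uniq := ?_ }⟩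
  · intro η _
    let e := Φ.toFunctor.objObjPreimageIso η
    haveI := bmap_isAffine_of_iso e
    haveI : IsAffine (sch 𝒳 (Φ.toFunctor.objPreimage η)) := isAffine_of_map Φ _
    obtain ⟨ξ', _, π, hπ, ⟨r⟩⟩ := P.cover (Φ.toFunctor.objPreimage η)
    exact ⟨Φ.obj ξ', isAffine_map Φ ξ', Φ.map π ≫ e.hom, FF.comp (hπ.map Φ) (FF.of_isIso e.hom), ⟨Φ.map r⟩⟩
  · intro η _ r s
    let e := Φ.toFunctor.objObjPreimageIso η
    haveI := bmap_isAffine_of_iso e
    haveI : IsAffine (sch 𝒳 (Φ.toFunctor.objPreimage η)) := isAffine_of_map Φ _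
    obtain ⟨r', hr⟩ := Φ.toFunctor.map_surjective (e.hom ≫ r)
    obtain ⟨s', hs⟩ := Φ.toFunctor.map_surjective (e.hom ≫ s)
    obtain ⟨ξ', _, π, t, hπ, h₁, h₂⟩ := P.pairs r' s'
    refine ⟨Φ.obj ξ', isAffine_map Φ ξ', Φ.map π ≫ e.hom, Φ.map t, FF.comp (hπ.map Φ) (FF.of_isIso e.hom), ?_, ?_⟩
    · rw [Category.assoc, ← hr]
      exact (Φ.toFunctor.map_comp _ _).symm.trans ((congrArg Φ.toFunctor.map h₁).trans (Φ.toFunctor.map_comp _ _))
    · rw [Category.assoc, ← hs]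
      exact (Φ.toFunctor.map_comp _ _).symm.trans ((congrArg Φ.toFunctor.map h₂).trans (Φ.toFunctor.map_comp _ _))
  · intro η _ t t' h₁ h₂ x
    let e := Φ.toFunctor.objObjPreimageIso η
    haveI := bmap_isAffine_of_iso e
    haveI : IsAffine (sch 𝒳 (Φ.toFunctor.objPreimage η)) := isAffine_of_map Φ _
    obtain ⟨t₀, ht₀⟩ := Φ.toFunctor.map_surjective (e.hom ≫ t)
    obtain ⟨t₀', ht₀'⟩ := Φ.toFunctor.map_surjective (e.hom ≫ t')
    have hp : t₀ ≫ P.p = t₀' ≫ P.p := Φ.toFunctor.map_injective (by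
      rw [Φ.toFunctor.map_comp, Φ.toFunctor.map_comp, ht₀, ht₀', Category.assoc, Category.assoc, h₁])
    have hq : t₀ ≫ P.q = t₀' ≫ P.q := Φ.toFunctor.map_injective (by
      rw [Φ.toFunctor.map_comp, Φ.toFunctor.map_comp, ht₀, ht₀', Category.assoc, Category.assoc, h₂])
    haveI : IsIso (bmap ℬ e.hom) := ⟨bmap ℬ e.inv, by rw [← bmap_comp, Iso.hom_inv_id, bmap_id],
      by rw [← bmap_comp, Iso.inv_hom_id, bmap_id]⟩
    let E : sch 𝒳 (Φ.toFunctor.objPreimage η) ⟶ sch ℬ η := eqToHom (sch_obj_eq Φ _).symm ≫ bmap ℬ e.hom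
    haveI : IsIso E := inferInstanceAs (IsIso (eqToHom _ ≫ bmap ℬ e.hom))
    obtain ⟨x₀, rfl⟩ := E.surjective x
    obtain ⟨z', _, π, hπ, ⟨y, rfl⟩, ζ, _, s, t₁, t₂, hf₁, hf₂, e₁, e₂, g₁, g₂⟩ := P.uniq t₀ t₀' hp hq x₀
    refine ⟨Φ.obj z', isAffine_map Φ z', Φ.map π ≫ e.hom, ?_, ?_, Φ.obj ζ, isAffine_map Φ ζ, Φ.map s, Φ.map t₁,
      Φ.map t₂, flat_map Φ hf₁, flat_map Φ hf₂, ?_, ?_, ?_, ?_⟩
    · haveI := flat_map Φ hπ
      haveI := flat_of_isIso_bmap (𝒳 := ℬ) e.hom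
      rw [bmap_comp]
      infer_instance
    · refine ⟨eqToHom (sch_obj_eq Φ z').symm y, ?_⟩
      have key : eqToHom (sch_obj_eq Φ z').symm ≫ bmap ℬ (Φ.map π ≫ e.hom) = bmap 𝒳 π ≫ E := by
        rw [bmap_comp, bmap_mapB Φ π]
        simp [E]
      exact congr(($key).base y)
    · exact (Φ.toFunctor.map_comp _ _).symm.trans ((congrArg Φ.toFunctor.map e₁).trans (Φ.toFunctor.map_comp _ _))
    · exact (Φ.toFunctor.map_comp _ _).symm.trans ((congrArg Φ.toFunctor.map e₂).trans (Φ.toFunctor.map_comp _ _))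
    · rw [Category.assoc, ← ht₀]
      exact (Φ.toFunctor.map_comp _ _).symm.trans ((congrArg Φ.toFunctor.map g₁).trans (Φ.toFunctor.map_comp _ _))
    · rw [Category.assoc, ← ht₀']
      exact (Φ.toFunctor.map_comp _ _).symm.trans ((congrArg Φ.toFunctor.map g₂).trans (Φ.toFunctor.map_comp _ _))

end Transport

section OfCharts

variable {𝒜 : AlgSt.Cat S}

/-- Morphisms to the tautological object of a chart come from the chart. -/
theorem exists_chart_obj (h₀ : FibCat.IsFibGrpd 𝒜.p) {U : Over S} (x : FibCat.overCat U ⥤ᵇ 𝒜) {z : 𝒜.obj}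
    (r : z ⟶ x.obj (Over.mk (𝟙 U))) :
    ∃ (a : Over U) (e : x.obj a ≅ z), a.left = 𝒜.p.obj z ∧ e.hom ≫ r = x.map (FC16.toTerm a) ∧
      𝒜.p.IsHomLift (𝟙 (𝒜.p.obj z)) e.hom := by
  let a : Over U := Over.mk (𝒜.p.map r ≫ eqToHom (x.w_obj (Over.mk (𝟙 U))))
  have hg : eqToHom (sch_obj_eq x a) ≫ bmap 𝒜 r = bmap 𝒜 (x.map (FC16.toTerm a)) := by
    rw [bmap_chart]
    simp [a, FC16.toTerm]
  obtain ⟨k, hk, hb⟩ := exists_factor h₀ r (x.map (FC16.toTerm a)) (eqToHom (sch_obj_eq x a)) hg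
  haveI hlift : 𝒜.p.IsHomLift (𝟙 (𝒜.p.obj z)) k := by
    refine IsHomLift.of_fac' 𝒜.p _ _ (x.w_obj a) rfl ?_
    apply Over.OverMorphism.ext
    simp only [Over.comp_left, Over.eqToHom_left, Over.id_left]
    refine hb.trans ?_
    simp
  haveI : IsIso k := FC16.isIso_of_isHomLift h₀ (𝟙 (𝒜.p.obj z)) k
  exact ⟨a, asIso k, rfl, hk, hlift⟩

/-- A morphism over the tautological object comes from the chart. -/
theorem exists_map_eq (h₀ : FibCat.IsFibGrpd 𝒜.p) {U : Over S} (x : FibCat.overCat U ⥤ᵇ 𝒜) {a b : Over U}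
    (k : x.obj a ⟶ x.obj b) (e : k ≫ x.map (FC16.toTerm b) = x.map (FC16.toTerm a)) :
    ∃ g : a ⟶ b, x.map g = k := by
  let gl : a.left.left ⟶ b.left.left :=
    eqToHom (sch_obj_eq x a).symm ≫ bmap 𝒜 k ≫ eqToHom (sch_obj_eq x b)
  have e' := congrArg (bmap 𝒜) e
  rw [bmap_comp, bmap_chart, bmap_chart] at e'
  have hgl : gl ≫ b.hom.left = a.hom.left := by
    have := congrArg (fun m => eqToHom (sch_obj_eq x a).symm ≫ m ≫ eqToHom (sch_obj_eq x (Over.mk (𝟙 U)))) e'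
    simpa [gl, FC16.toTerm] using this
  let g₀ : a.left ⟶ b.left := Over.homMk gl (by rw [← Over.w b.hom, ← Category.assoc, hgl, Over.w a.hom])
  let g : a ⟶ b := Over.homMk g₀ (Over.OverMorphism.ext hgl)
  refine ⟨g, factor_unique h₀ (x.map (FC16.toTerm b)) ?_ ?_⟩
  · rw [e]
    refine (x.toFunctor.map_comp _ _).symm.trans (congrArg _ ?_)
    exact hom_term_ext _ _
  · rw [bmap_chart]
    simp [g, g₀, gl]

theorem flat_chart_map {U : Over S} (x : FibCat.overCat U ⥤ᵇ 𝒜) {a : Over U} (h : Flat a.hom.left) :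
    Flat (bmap 𝒜 (x.map (FC16.toTerm a))) := by
  rw [bmap_chart]
  haveI : Flat (FC16.toTerm a).left.left := by simpa [FC16.toTerm] using h
  infer_instance

theorem smooth_of_overMap {U W : Over S} (b : W ⟶ U) {c : FibCat.overCat W ⥤ᵇ FibCat.overCat U}
    (i : c ≅ AlgSt.overMap b) (hc : AlgSt.RepByAlgSpWith (AlgSp.LocP @Smooth) c) :
    Smooth (c.obj (Over.mk (𝟙 W))).hom.left := by
  haveI : Smooth b.left := of_with_locP_overMap b (with_of_iso i hc)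
  let e := appIso i (Over.mk (𝟙 W))
  have he : e.hom.left ≫ ((AlgSt.overMap b).obj (Over.mk (𝟙 W))).hom = (c.obj (Over.mk (𝟙 W))).hom :=
    Over.w e.hom
  haveI : IsIso e.hom.left := inferInstanceAs (IsIso ((Over.forget U).map e.hom))
  haveI : IsIso e.hom.left.left := inferInstanceAs (IsIso ((Over.forget S).map e.hom.left))
  rw [← he]
  show Smooth (e.hom.left ≫ (𝟙 W ≫ b)).left
  simp only [Over.comp_left, Over.id_left]
  erw [Category.id_comp]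
  infer_instance

/-- A presentation with flat relations from a chart and a chart of its relations. -/
theorem exists_fpres_of_charts (h₀ : FibCat.IsFibGrpd 𝒜.p) {U W : Over S} [IsAffine U.left] [IsAffine W.left]
    {x : FibCat.overCat U ⥤ᵇ 𝒜}
    (hsm : AlgSt.RepByAlgSpWith (AlgSp.LocP @Smooth) x) (hsu : AlgSt.RepByAlgSpWith AlgSp.IsSurjectiveMor x)
    {w : FibCat.overCat W ⥤ᵇ FibCat.fp x x}
    (hwm : AlgSt.RepByAlgSpWith (AlgSp.LocP @Smooth) w) (hwu : AlgSt.RepByAlgSpWith AlgSp.IsSurjectiveMor w) :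
    Nonempty (FPres 𝒜) := by
  let b : 𝒜.obj := x.obj (Over.mk (𝟙 U))
  let ρc := w.obj (Over.mk (𝟙 W))
  let c : 𝒜.obj := x.obj ρc.obj.fst
  haveI : IsAffine (sch (FibCat.overCat U) (Over.mk (𝟙 U))) := ‹IsAffine U.left›
  haveI : IsAffine (sch (FibCat.overCat W) (Over.mk (𝟙 W))) := ‹IsAffine W.left›
  haveI : IsAffine (sch 𝒜 b) := isAffine_map x _
  haveI hρ : IsAffine (sch (FibCat.fp x x) ρc) := isAffine_map w _
  haveI : IsAffine (sch (FibCat.overCat U) ρc.obj.fst) := hρ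
  haveI : IsAffine (sch 𝒜 c) := isAffine_map x _
  have hR : FibCat.IsFibGrpd (FibCat.fp x x).p :=
    fp_isFibGrpd (overCat_isFibGrpd U) (overCat_isFibGrpd U) h₀ x x
  -- the flatness of the relations
  obtain ⟨c₁, ⟨i₁⟩⟩ := StAlg16.exists_overMap_iso (BasedFunctor.comp w (FibCat.fpFst x x))
  obtain ⟨c₂, ⟨i₂⟩⟩ := StAlg16.exists_overMap_iso (BasedFunctor.comp w (FibCat.fpSnd x x))
  haveI : Smooth ρc.obj.fst.hom.left := smooth_of_overMap c₁ i₁
    (with_comp goodP_locP (overCat_isFibGrpd W) hR hwm (with_fpFst _ hsm))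
  haveI : Smooth ρc.obj.snd.hom.left := smooth_of_overMap c₂ i₂
    (with_comp goodP_locP (overCat_isFibGrpd W) hR hwm (with_fpSnd _ hsm))
  -- the chart of the pairs of relations
  obtain ⟨W₂, w₂, hw₂, hw₂u⟩ := StAlg16.exists_fp_chart hR w (repByAlgSp1_of_with hwm)
  have hR₂ : FibCat.IsFibGrpd (FibCat.fp w w).p :=
    fp_isFibGrpd (overCat_isFibGrpd W) (overCat_isFibGrpd W) hR w w
  let ρ₂ := w₂.obj (Over.mk (𝟙 W₂))
  obtain ⟨d₁, ⟨j₁⟩⟩ := StAlg16.exists_overMap_iso (BasedFunctor.comp w₂ (FibCat.fpFst w w))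
  obtain ⟨d₂, ⟨j₂⟩⟩ := StAlg16.exists_overMap_iso (BasedFunctor.comp w₂ (FibCat.fpSnd w w))
  haveI : Smooth ρ₂.obj.fst.hom.left := smooth_of_overMap d₁ j₁
    (with_comp goodP_locP (overCat_isFibGrpd W₂) hR₂ (hw₂ @Smooth) (with_fpFst _ hwm))
  haveI : Smooth ρ₂.obj.snd.hom.left := smooth_of_overMap d₂ j₂
    (with_comp goodP_locP (overCat_isFibGrpd W₂) hR₂ (hw₂ @Smooth) (with_fpSnd _ hwm))
  have hfp : Flat (bmap 𝒜 (x.map (FC16.toTerm ρc.obj.fst))) := flat_chart_map x inferInstance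
  refine ⟨{ b := b, c := c, p := x.map (FC16.toTerm ρc.obj.fst),
            q := ρc.obj.iso.hom ≫ x.map (FC16.toTerm ρc.obj.snd), cover := ?_, pairs := ?_,
            grpd := h₀, flat_p := hfp, flat_q := ?_, uniq := ?_ }⟩
  · intro ξ _
    exact exists_cover_to_chart h₀ hsm hsu ξ
  · intro z _ r s
    obtain ⟨a₁, e₁, ha₁, he₁, hl₁⟩ := exists_chart_obj h₀ x r
    obtain ⟨a₂, e₂, ha₂, he₂, hl₂⟩ := exists_chart_obj h₀ x s
    haveI := hl₁; haveI := hl₂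
    have hp₁ : (FibCat.overCat U).p.obj a₁ = 𝒜.p.obj z := ha₁
    have hl : 𝒜.p.IsHomLift (𝟙 (𝒜.p.obj z)) (e₁ ≪≫ e₂.symm).hom := by
      show 𝒜.p.IsHomLift (𝟙 (𝒜.p.obj z)) (e₁.hom ≫ e₂.inv)
      infer_instance
    let ρz : (FibCat.fp x x).obj := fpObj a₁ a₂ (e₁ ≪≫ e₂.symm) hp₁ hl
    haveI : IsAffine (𝒜.p.obj z).left := ‹IsAffine (sch 𝒜 z)›
    haveI : IsAffine (sch (FibCat.fp x x) ρz) := IsAffine.of_isIso (eqToHom (congrArg Comma.left ha₁))
    obtain ⟨ρ', hρ', π, hπ, ⟨k⟩⟩ := exists_cover_to_chart hR hwm hwu ρz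
    haveI : IsAffine (sch (FibCat.overCat U) ρ'.obj.fst) := hρ'
    have hπ' : FF (𝒳 := FibCat.overCat U) π.hom.fst := hπ
    refine ⟨x.obj ρ'.obj.fst, isAffine_map x _, x.map π.hom.fst ≫ e₁.hom, x.map k.hom.fst,
      FF.comp (hπ'.map x) (FF.of_isIso e₁.hom), ?_, ?_⟩
    · rw [Category.assoc, he₁]
      refine (x.toFunctor.map_comp _ _).symm.trans (Eq.trans ?_ (x.toFunctor.map_comp _ _))
      congr 1
      exact hom_term_ext _ _
    · have h₂ : e₂.inv ≫ x.map (FC16.toTerm a₂) = s := by rw [← he₂, Iso.inv_hom_id_assoc]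
      have h₃ : x.map π.hom.fst ≫ e₁.hom ≫ e₂.inv = ρ'.obj.iso.hom ≫ x.map π.hom.snd := π.hom.w
      have h₄ : x.map k.hom.fst ≫ ρc.obj.iso.hom = ρ'.obj.iso.hom ≫ x.map k.hom.snd := k.hom.w
      rw [← Category.assoc, h₄, Category.assoc, ← h₂, Category.assoc, ← Category.assoc e₁.hom,
        ← Category.assoc (x.map π.hom.fst), h₃, Category.assoc]
      congr 1
      refine (x.toFunctor.map_comp _ _).symm.trans (Eq.trans ?_ (x.toFunctor.map_comp _ _))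
      congr 1
      exact hom_term_ext _ _
  · haveI := flat_of_isIso_bmap (𝒳 := 𝒜) ρc.obj.iso.hom
    haveI := flat_chart_map x (a := ρc.obj.snd) inferInstance
    rw [bmap_comp]
    infer_instance
  intro z hz t t' htp htq pt
  haveI := hz
  obtain ⟨a₁, e₁, ha₁, he₁, hl₁⟩ := exists_chart_obj h₀ x (t ≫ x.map (FC16.toTerm ρc.obj.fst))
  obtain ⟨a₂, e₂, ha₂, he₂, hl₂⟩ :=
    exists_chart_obj h₀ x (t ≫ ρc.obj.iso.hom ≫ x.map (FC16.toTerm ρc.obj.snd))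
  haveI := hl₁; haveI := hl₂
  have hl : 𝒜.p.IsHomLift (𝟙 (𝒜.p.obj z)) (e₁ ≪≫ e₂.symm).hom := by
    show 𝒜.p.IsHomLift (𝟙 (𝒜.p.obj z)) (e₁.hom ≫ e₂.inv)
    infer_instance
  let ρz : (FibCat.fp x x).obj := fpObj a₁ a₂ (e₁ ≪≫ e₂.symm) (ha₁ : (FibCat.overCat U).p.obj a₁ = 𝒜.p.obj z) hl
  have hiso : ρz.obj.iso = e₁ ≪≫ e₂.symm := rfl
  -- the morphisms of the pairs attached to the two morphisms
  have mor : ∀ τ : z ⟶ x.obj ρc.obj.fst, τ ≫ x.map (FC16.toTerm ρc.obj.fst) = t ≫ x.map (FC16.toTerm ρc.obj.fst) →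
      τ ≫ ρc.obj.iso.hom ≫ x.map (FC16.toTerm ρc.obj.snd) = t ≫ ρc.obj.iso.hom ≫ x.map (FC16.toTerm ρc.obj.snd) →
      ∃ m : ρz ⟶ ρc, x.map m.hom.fst = e₁.hom ≫ τ := by
    intro τ h₁ h₂
    obtain ⟨mf, hmf⟩ := exists_map_eq h₀ x (e₁.hom ≫ τ) (by rw [Category.assoc, h₁, he₁])
    obtain ⟨ms, hms⟩ := exists_map_eq h₀ x (a := a₂) (b := ρc.obj.snd)
      ((e₂.hom ≫ e₁.inv) ≫ x.map mf ≫ ρc.obj.iso.hom) (by
        rw [hmf]
        simp only [Category.assoc, Iso.inv_hom_id_assoc]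
        rw [h₂, he₂])
    refine ⟨FC16.fpHom mf ms ?_, hmf⟩
    show x.map mf ≫ ρc.obj.iso.hom = (e₁ ≪≫ e₂.symm).hom ≫ x.map ms
    rw [hms]
    simp
  obtain ⟨m, hm⟩ := mor t rfl rfl
  obtain ⟨m', hm'⟩ := mor t' htp.symm htq.symm
  -- the object of pairs of relations
  obtain ⟨a, k₁, ha, hk₁, hlk₁⟩ := exists_chart_obj hR w m
  obtain ⟨a', k₂, ha', hk₂, hlk₂⟩ := exists_chart_obj hR w m'
  haveI := hlk₁; haveI := hlk₂
  have hlk : (FibCat.fp x x).p.IsHomLift (𝟙 ((FibCat.fp x x).p.obj ρz)) (k₁ ≪≫ k₂.symm).hom := by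
    show (FibCat.fp x x).p.IsHomLift (𝟙 ((FibCat.fp x x).p.obj ρz)) (k₁.hom ≫ k₂.inv)
    infer_instance
  let σ : (FibCat.fp w w).obj := fpObj a a' (k₁ ≪≫ k₂.symm) (ha : (FibCat.overCat W).p.obj a = _) hlk
  let G : FibCat.fp w w ⥤ᵇ 𝒜 :=
    BasedFunctor.comp (FibCat.fpFst w w) (BasedFunctor.comp w (BasedFunctor.comp (FibCat.fpFst x x) x))
  let E : sch (FibCat.fp w w) σ ⟶ sch 𝒜 z :=
    eqToHom (sch_obj_eq G σ).symm ≫ bmap 𝒜 (x.map k₁.hom.hom.fst ≫ e₁.hom)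
  haveI : IsIso (x.map k₁.hom.hom.fst ≫ e₁.hom) := by
    haveI : IsIso ((BasedFunctor.comp (FibCat.fpFst x x) x).map k₁.hom) := inferInstance
    exact inferInstanceAs (IsIso ((BasedFunctor.comp (FibCat.fpFst x x) x).map k₁.hom ≫ e₁.hom))
  haveI : IsIso (bmap 𝒜 (x.map k₁.hom.hom.fst ≫ e₁.hom)) :=
    ⟨bmap 𝒜 (inv (x.map k₁.hom.hom.fst ≫ e₁.hom)), by rw [← bmap_comp, IsIso.hom_inv_id, bmap_id],
      by rw [← bmap_comp, IsIso.inv_hom_id, bmap_id]⟩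
  haveI : IsIso E :=
    inferInstanceAs (IsIso (eqToHom _ ≫ bmap 𝒜 (x.map k₁.hom.hom.fst ≫ e₁.hom)))
  haveI : IsAffine (sch (FibCat.fp w w) σ) := IsAffine.of_isIso E
  obtain ⟨p₀, rfl⟩ := E.surjective pt
  obtain ⟨σ', hσ', π, hπ, ⟨k⟩⟩ := exists_cover_to_chart hR₂ (hw₂ @Smooth) hw₂u σ
  haveI := hσ'; haveI := hπ.1; haveI := hπ.2
  obtain ⟨y, rfl⟩ := (bmap (FibCat.fp w w) π).surjective p₀
  obtain ⟨_, ⟨V, hV, rfl⟩, hyV, -⟩ := (sch (FibCat.fp w w) ρ₂).isBasis_affineOpens.exists_subset_of_mem_open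
    (Set.mem_univ (bmap (FibCat.fp w w) k y)) isOpen_univ
  obtain ⟨_, ⟨V', hV', rfl⟩, hyV', hV'V⟩ := (sch (FibCat.fp w w) σ').isBasis_affineOpens.exists_subset_of_mem_open
    (show y ∈ ((bmap (FibCat.fp w w) k ⁻¹ᵁ V : (sch (FibCat.fp w w) σ').Opens) : Set _) from hyV)
    (bmap (FibCat.fp w w) k ⁻¹ᵁ V).isOpen
  obtain ⟨θ, ν, hθ, hνi, hνr⟩ := exists_piece hR₂ ρ₂ hV
  obtain ⟨σ'', μ, hσ'', hμi, hμr⟩ := exists_piece hR₂ σ' hV'
  obtain ⟨l, hl⟩ := exists_piece_factor hR₂ (ψ := μ ≫ k) (φ' := ν) (by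
    rintro _ ⟨q, rfl⟩
    rw [← Scheme.Hom.coe_opensRange, hνr, bmap_comp]
    refine hV'V ?_
    rw [← hμr]
    exact ⟨q, rfl⟩)
  have hθ₁ : Flat θ.obj.fst.hom.left := by
    rw [← Over.w ν.hom.fst]
    haveI : Flat ν.hom.fst.left.left := inferInstanceAs (Flat (bmap (FibCat.fp w w) ν))
    show Flat (ν.hom.fst.left.left ≫ ρ₂.obj.fst.hom.left)
    infer_instance
  have hθ₂ : Flat θ.obj.snd.hom.left := by
    rw [← Over.w ν.hom.snd]
    haveI : Flat ν.hom.snd.left.left := by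
      have := flat_map (FibCat.fpSnd w w) (φ := ν) inferInstance
      exact this
    show Flat (ν.hom.snd.left.left ≫ ρ₂.obj.snd.hom.left)
    infer_instance
  have mapc : ∀ {p q r : Over W} (g : p ⟶ q) (g' : q ⟶ r),
      x.map (w.map (g ≫ g')).hom.fst = x.map (w.map g).hom.fst ≫ x.map (w.map g').hom.fst := fun g g' =>
    (BasedFunctor.comp w (BasedFunctor.comp (FibCat.fpFst x x) x)).toFunctor.map_comp g g'
  have hmk₁ : x.map (w.map (FC16.toTerm σ.obj.fst)).hom.fst = (x.map k₁.hom.hom.fst ≫ e₁.hom) ≫ t :=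
    (congrArg (fun n : w.obj a ⟶ ρc => x.map n.hom.fst) hk₁.symm).trans
      ((x.toFunctor.map_comp k₁.hom.hom.fst m.hom.fst).trans
        ((congrArg (x.map k₁.hom.hom.fst ≫ ·) hm).trans (Category.assoc _ _ _).symm))
  have hmk₂ : x.map (k₁.hom ≫ k₂.inv ≫ w.map (FC16.toTerm σ.obj.snd)).hom.fst =
      (x.map k₁.hom.hom.fst ≫ e₁.hom) ≫ t' := by
    have e : k₂.inv ≫ w.map (FC16.toTerm σ.obj.snd) = m' := (Iso.inv_comp_eq k₂).2 hk₂.symm
    exact (congrArg (fun n : ρz ⟶ ρc => x.map (k₁.hom ≫ n).hom.fst) e).trans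
      ((x.toFunctor.map_comp k₁.hom.hom.fst m'.hom.fst).trans
        ((congrArg (x.map k₁.hom.hom.fst ≫ ·) hm').trans (Category.assoc _ _ _).symm))
  let g := μ ≫ π
  refine ⟨G.obj σ'', isAffine_map G σ'', G.map g ≫ x.map k₁.hom.hom.fst ≫ e₁.hom, ?_, ?_, G.obj θ,
    isAffine_map G θ, G.map l, x.map (w.map (FC16.toTerm θ.obj.fst)).hom.fst,
    x.map (θ.obj.iso.hom ≫ w.map (FC16.toTerm θ.obj.snd)).hom.fst, ?_, ?_, ?_, ?_, ?_, ?_⟩
  · haveI := flat_map G (φ := g) (by rw [bmap_comp]; infer_instance)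
    rw [bmap_comp]
    infer_instance
  · have hy : y ∈ Set.range (bmap (FibCat.fp w w) μ) := by
      rw [← Scheme.Hom.coe_opensRange, hμr]; exact hyV'
    obtain ⟨y', rfl⟩ := hy
    refine ⟨eqToHom (sch_obj_eq G σ'').symm y', ?_⟩
    have key : eqToHom (sch_obj_eq G σ'').symm ≫ bmap 𝒜 (G.map g ≫ x.map k₁.hom.hom.fst ≫ e₁.hom) =
        bmap _ μ ≫ bmap _ π ≫ E := by
      rw [bmap_comp (G.map g), bmap_mapB G g, show bmap (FibCat.fp w w) g = _ from bmap_comp μ π]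
      simp [E]
    exact congr(($key).base y')
  · exact flat_map (BasedFunctor.comp w (BasedFunctor.comp (FibCat.fpFst x x) x)) (φ := FC16.toTerm θ.obj.fst)
      (by
        show Flat (FC16.toTerm θ.obj.fst).left.left
        simpa [FC16.toTerm] using hθ₁)
  · show Flat (bmap 𝒜 ((BasedFunctor.comp (FibCat.fpFst x x) x).map
      (θ.obj.iso.hom ≫ w.map (FC16.toTerm θ.obj.snd))))
    refine flat_map (BasedFunctor.comp (FibCat.fpFst x x) x) ?_
    haveI := flat_of_isIso_bmap (𝒳 := FibCat.fp x x) θ.obj.iso.hom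
    haveI := flat_map w (φ := FC16.toTerm θ.obj.snd) (by
      show Flat (FC16.toTerm θ.obj.snd).left.left
      simpa [FC16.toTerm] using hθ₂)
    rw [bmap_comp]
    infer_instance
  · refine (x.toFunctor.map_comp _ _).symm.trans (Eq.trans ?_ (x.toFunctor.map_comp _ _))
    congr 1
    exact hom_term_ext _ _
  · have h : ∀ n : w.obj θ.obj.fst ⟶ ρc, x.map n.hom.fst ≫ ρc.obj.iso.hom ≫ x.map (FC16.toTerm ρc.obj.snd) =
        (w.obj θ.obj.fst).obj.iso.hom ≫ x.map (FC16.toTerm (w.obj θ.obj.fst).obj.snd) := fun n => by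
      have hn : x.map n.hom.fst ≫ ρc.obj.iso.hom = (w.obj θ.obj.fst).obj.iso.hom ≫ x.map n.hom.snd := n.hom.w
      rw [← Category.assoc, hn, Category.assoc]
      congr 1
      exact (x.toFunctor.map_comp _ _).symm.trans (congrArg _ (hom_term_ext _ _))
    rw [h, h]
  · rw [Category.assoc, ← hmk₁]
    refine Eq.trans (mapc _ _).symm (Eq.trans ?_ (mapc _ _))
    congr 3
    exact congrArg w.toFunctor.map (hom_term_ext _ _)
  · rw [Category.assoc, ← hmk₂]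
    have hg : w.map g.hom.fst ≫ (k₁ ≪≫ k₂.symm).hom = σ''.obj.iso.hom ≫ w.map g.hom.snd := g.hom.w
    have hlw : w.map l.hom.fst ≫ θ.obj.iso.hom = σ''.obj.iso.hom ≫ w.map l.hom.snd := l.hom.w
    have e : w.map l.hom.fst ≫ θ.obj.iso.hom ≫ w.map (FC16.toTerm θ.obj.snd) =
        w.map g.hom.fst ≫ k₁.hom ≫ k₂.inv ≫ w.map (FC16.toTerm σ.obj.snd) := by
      rw [← Category.assoc, hlw, ← Category.assoc k₁.hom, ← Category.assoc (w.map g.hom.fst),
        show k₁.hom ≫ k₂.inv = (k₁ ≪≫ k₂.symm).hom from rfl, hg, Category.assoc, Category.assoc]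
      congr 1
      refine (w.toFunctor.map_comp _ _).symm.trans (Eq.trans ?_ (w.toFunctor.map_comp _ _))
      congr 1
      exact hom_term_ext _ _
    exact ((BasedFunctor.comp (FibCat.fpFst x x) x).toFunctor.map_comp _ _).symm.trans
      ((congrArg (fun n : w.obj σ''.obj.fst ⟶ ρc => x.map n.hom.fst) e).trans
        ((BasedFunctor.comp (FibCat.fpFst x x) x).toFunctor.map_comp _ _))

end OfCharts

section Fibre

variable {𝒳 𝒴 : AlgSt.Cat S} (f : 𝒳 ⥤ᵇ 𝒴) (η : 𝒴.obj) [𝒴.p.IsFibered]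

theorem toFib_faithful : (toFib f η).toFunctor.Faithful := by
  refine ⟨fun {z z'} a b h => ?_⟩
  have hs : a.hom.snd = b.hom.snd := congrArg CommaMorphism.left h
  have key : ∀ c : z ⟶ z', c.hom.fst.left = eqToHom (snd_p z).symm ≫ 𝒳.p.map c.hom.snd ≫ eqToHom (snd_p z') := by
    intro c
    have e := IsHomLift.fac' 𝒳.p ((FibCat.fp (objFun η) f).p.map c) c.hom.snd
    rw [e]
    simp
    rfl
  apply ObjectProperty.hom_ext
  apply CategoricalPullback.hom_ext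
  · exact Over.OverMorphism.ext ((key a).trans ((by rw [hs] :
      eqToHom (snd_p z).symm ≫ 𝒳.p.map a.hom.snd ≫ eqToHom (snd_p z') = _).trans (key b).symm))
  · exact hs

omit [𝒴.p.IsFibered] in
/-- The category of a quasi-compact quasi-separated morphism over an affine object has a presentation with flat
relations. -/
theorem exists_fpres_fib (h𝒳 : AlgSt.IsAlgStack Scheme.fppfPrecoverage 𝒳)
    (h𝒴 : AlgSt.IsAlgStack Scheme.fppfPrecoverage 𝒴)
    (hfqc : AlgSt.IsQuasiCompactMor Scheme.fppfPrecoverage f) (hfqs : AlgSt.IsQuasiSeparatedMor f)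
    [IsAffine (sch 𝒴 η)] : Nonempty (FPres (fibCat f η)) := by
  haveI := FC16.isFibered h𝒴.isStack.1
  haveI : IsAffine (𝒴.p.obj η).left := ‹IsAffine (sch 𝒴 η)›
  let g := objFun η
  have hT := isAlgStack_overCat (𝒴.p.obj η)
  have hℱ := isAlgStack_fp' hT h𝒳 h𝒴 g f
  obtain ⟨U, x, hU, hxm, hxu⟩ := hfqc _ hT (isQuasiCompact_overCat _) g
  haveI := hU
  obtain ⟨h, ⟨ih⟩⟩ := StAlg16.exists_overMap_iso (BasedFunctor.comp x (FibCat.fpFst g f))
  have hqs : AlgSt.RepByAlgSpWith AlgSp.IsQuasiCompactMor (FibCat.diag f) :=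
    repByAlgSpWith_mono (fun _ _ _ _ ha => ha.1) hfqs
  have hx : AlgSt.IsQuasiCompactMor Scheme.fppfPrecoverage x :=
    isQuasiCompactMor_of_comp (isAlgStack_overCat U) hℱ hT
      (isQuasiCompactMor_of_iso (isAlgStack_overCat U) hT ih.symm (isQuasiCompactMor_overMap h))
      (with_diag_fpFst f g hqs)
  obtain ⟨W, w, hW, hwm, hwu⟩ := hx _ (isAlgStack_overCat U) (isQuasiCompact_overCat U) x
  haveI := hW
  obtain ⟨P⟩ := exists_fpres_of_charts hℱ.isStack.1 hxm hxu hwm hwu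
  haveI := toFib_full f η h𝒳.isStack.1 h𝒴.isStack.1
  haveI := toFib_essSurj f η h𝒳.isStack.1 h𝒴.isStack.1
  haveI := toFib_faithful f η
  exact P.map (toFib f η) (fibCat_isFibGrpd h𝒳.isStack.1 f η)

end Fibre

end Groth.Agent.StQC14
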