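import Groth.Agent.Lib.StQC14.Atlas
import Groth.Agent.Lib.StQC14.FibFPres
import Groth.Agent.Lib.StAlg16.AtlasEt
import Groth.Agent.Lib.StAlg.Props
import Groth.Agent.Lib.StAlg16.LocPInst
import Groth.Agent.Lib.AlgSpace.DVRSeparated

/-!
# Atlases from affine, flat and surjective charts
-/

universe u

open CategoryTheory CategoryTheory.Functor CategoryTheory.Limits AlgebraicGeometry Opposite

set_option linter.style.haveILetI false
set_option linter.unusedSectionVars false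
set_option backward.isDefEq.respectTransparency false
set_option backward.isDefEq.respectTransparency.types false

namespace Groth.Agent.StQC14

open StMod Groth.Agent.FC16 Groth.Agent.StAlg Groth.Agent.StAlg16 AlgSt

variable {S : Scheme.{u}} {𝒳 : AlgSt.Cat S} {V : Over S}

/-- The fibre product with an affine chart is an affine scheme. -/
theorem exists_affine_fibre (h₀ : FibCat.IsFibGrpd 𝒳.p) {x : FibCat.overCat V ⥤ᵇ 𝒳}
    (hxa : AlgSt.RepByAlgSpWith AlgSp.IsAffineMor x) (hxf : AlgSt.RepByAlgSpWith (AlgSp.LocP @Flat) x)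
    (hxs : AlgSt.RepByAlgSpWith AlgSp.IsSurjectiveMor x) (T : Over S) [IsAffine T.left]
    (y : FibCat.overCat T ⥤ᵇ 𝒳) :
    ∃ (W : Over S) (k : W ⟶ T) (E : FibCat.overCat W ⥤ᵇ FibCat.fp y x),
      IsAffine W.left ∧ Flat k.left ∧ Surjective k.left ∧ FibCat.IsEquivOver E ∧
        Nonempty (BasedFunctor.comp E (FibCat.fpFst y x) ≅ AlgSt.overMap k) := by
  obtain ⟨G, a, e, he, ⟨i₀⟩, hra, hr⟩ := StAlg.exists_rep_over (overCat_isFibGrpd V) h₀ (repByAlgSp1_of_with hxa)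
    (BasedFunctor.comp (AlgSt.toOverCat T) y)
  obtain ⟨hG, hGA⟩ := AlgSpace.isAlgSpaceP_of_repBySp a hra (AlgSpace.isAlgSpaceP_pyon T)
  let A : (⟨G, hG⟩ : AlgSp.Sp S) ⟶ (AlgSp.yon S).obj T := ObjectProperty.homMk a
  have hid : IsPullback (𝟙 G) a a (𝟙 (((AlgSp.yon S).obj T).obj)) := IsPullback.of_horiz_isIso ⟨by simp⟩
  have hA₀ : AlgSp.IsAffineMor A := (hr _ goodP_isAffineMor.preIso hxa _ _ _ hid).2.2
  have hA₁ : AlgSp.LocP @Flat A := (hr _ (preIso_of_pullback pbP_locP) hxf _ _ _ hid).2.2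
  have hA₃ : AlgSp.IsSurjectiveMor A := (hr _ goodP_surjective.preIso hxs _ _ _ hid).2.2
  obtain ⟨W, k, p, hp, hW⟩ := hA₀ (Z := T) ‹IsAffine T.left› (𝟙 _)
  haveI : IsIso p := hp.isIso_fst_of_isIso
  have hk : (AlgSp.yon S).map k = p ≫ A := (Category.comp_id _).symm.trans hp.w.symm
  haveI : IsIso p.hom := inferInstanceAs (IsIso ((sheafToPresheaf _ _).map p))
  have hW' := AlgSp.IsAlgSpace.yon_obj W
  let P' := BasedFunctor.comp (AlgSt.ofOverCat W) (Stk.ofPshMap (P := ((AlgSp.yon S).obj W).obj) p.hom)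
  let E₀ := BasedFunctor.comp P' e
  let M : FibCat.fp (BasedFunctor.comp (AlgSt.toOverCat T) y) x ⥤ᵇ FibCat.fp y x :=
    fpMap (F := BasedFunctor.comp (AlgSt.toOverCat T) y) (G := x) (F' := y) (G' := x) (a := AlgSt.toOverCat T)
      (b := BasedFunctor.id _) (s := BasedFunctor.id _) (Iso.refl _) (Iso.refl _)
  haveI := idFun_full (𝒳 := 𝒳)
  haveI := idFun_faithful (𝒳 := 𝒳)
  have hM : FibCat.IsEquivOver M := fpMap_isEquivOver _ _ (toOverCat_isEquivOver T) isEquivOver_id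
  refine ⟨W, k, BasedFunctor.comp E₀ M, hW, ?_, surjective_left_of_isSurjectiveMor k fun z => ?_,
    isEquivOver_comp (isEquivOver_comp (isEquivOver_comp (ofOverCat_isEquivOver W) (ofPshMap_isEquivOver p.hom)) he) hM,
    ?_⟩
  · refine (StAlg16.locP_yon_iff (R := @Flat) k).1 ?_
    rw [hk]
    exact AlgSpace.locP_comp hW' hGA (AlgSp.IsAlgSpace.yon_obj T) (AlgSpace.locP_of_repWith hGA
      (AlgSpace.repWith_of_isIso @Flat p)) hA₁
  · obtain ⟨g, rfl⟩ := hA₃ z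
    refine ⟨AlgSp.Points.map (inv p) g, ?_⟩
    rw [hk, AlgSp.Points.map_comp, ← AlgSp.Points.map_comp (inv p) p, IsIso.inv_hom_id, AlgSp.Points.map_id]
  · have hk' : mapOf (BasedFunctor.comp (Stk.ofPshMap (P := ((AlgSp.yon S).obj W).obj) p.hom) (Stk.ofPshMap a)) =
        ((AlgSp.yon S).map k).hom := by
      rw [mapOf_comp, mapOf_ofPshMap, mapOf_ofPshMap, hk]; rfl
    let j : BasedFunctor.comp (BasedFunctor.comp P' (Stk.ofPshMap a)) (AlgSt.toOverCat T) ≅ AlgSt.overMap k :=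
      wlIso (AlgSt.ofOverCat W) (wrIso (isoMapOf _ ≪≫ eqToIso (congrArg Stk.ofPshMap hk')) (AlgSt.toOverCat T) ≪≫
        overMapIso k) ≪≫ wrIso (eqToIso (ofOver_toOver W)) (AlgSt.overMap k)
    exact ⟨wrIso (wlIso P' i₀) (AlgSt.toOverCat T) ≪≫ j⟩

variable {x : FibCat.overCat V ⥤ᵇ 𝒳}

/-- The data of a product with the chart. -/
theorem exists_product (h₀ : FibCat.IsFibGrpd 𝒳.p) (hxa : AlgSt.RepByAlgSpWith AlgSp.IsAffineMor x)
    (hxf : AlgSt.RepByAlgSpWith (AlgSp.LocP @Flat) x) (hxs : AlgSt.RepByAlgSpWith AlgSp.IsSurjectiveMor x)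
    (z : 𝒳.obj) [IsAffine (sch 𝒳 z)] :
    ∃ (P : 𝒳.obj) (π : P ⟶ z) (r : P ⟶ x.obj (Over.mk (𝟙 V))), IsAffine (sch 𝒳 P) ∧ FF π ∧
      (∀ {w : 𝒳.obj} [IsAffine (sch 𝒳 w)] (α : w ⟶ z) (s : w ⟶ x.obj (Over.mk (𝟙 V))),
        ∃ k : w ⟶ P, k ≫ π = α ∧ k ≫ r = s) ∧
      (∀ {w : 𝒳.obj} [IsAffine (sch 𝒳 w)] (k k' : w ⟶ P), k ≫ π = k' ≫ π → k ≫ r = k' ≫ r → k = k') := by
  haveI := FC16.isFibered h₀
  haveI : IsAffine (𝒳.p.obj z).left := ‹IsAffine (sch 𝒳 z)›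
  let T := 𝒳.p.obj z
  let y : FibCat.overCat T ⥤ᵇ 𝒳 := FC16.ofObj (rfl : 𝒳.p.obj z = 𝒳.p.obj z)
  let φ₀ : y.obj (Over.mk (𝟙 T)) ⟶ z := IsPreFibered.pullbackMap (rfl : 𝒳.p.obj z = 𝒳.p.obj z) (𝟙 T)
  haveI : 𝒳.p.IsHomLift (𝟙 T) φ₀ :=
    (IsPreFibered.pullbackMap.IsCartesian (rfl : 𝒳.p.obj z = 𝒳.p.obj z) (𝟙 T)).toIsHomLift
  haveI : IsIso φ₀ := FC16.isIso_of_isHomLift h₀ (𝟙 (𝒳.p.obj z)) φ₀
  obtain ⟨W, k, E, hW, hkf, hks, hE, ⟨i⟩⟩ := exists_affine_fibre h₀ hxa hxf hxs T y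
  haveI := hW; haveI := hkf; haveI := hks
  haveI := isEquivalence_of_isEquivOver hE
  let ρ := E.obj (Over.mk (𝟙 W))
  have hterm : IsTerminal ρ := IsTerminal.isTerminalObj E.toFunctor _ Over.mkIdTerminal
  haveI : IsAffine (sch (FibCat.overCat W) (Over.mk (𝟙 W))) := hW
  haveI hρa : IsAffine (sch (FibCat.fp y x) ρ) := isAffine_map E _
  have hsnd : (FibCat.overCat V).p.obj ρ.obj.snd = (FibCat.overCat T).p.obj ρ.obj.fst := FC16.snd_p ρ
  haveI : IsAffine ((FibCat.overCat T).p.obj ρ.obj.fst).left := hρa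
  haveI : IsAffine (sch (FibCat.overCat V) ρ.obj.snd) := IsAffine.of_isIso (eqToHom (congrArg Comma.left hsnd))
  haveI : IsAffine (sch 𝒳 (x.obj ρ.obj.snd)) := isAffine_map x _
  let π : x.obj ρ.obj.snd ⟶ z := ρ.obj.iso.inv ≫ y.map (FC16.toTerm ρ.obj.fst) ≫ φ₀
  let r : x.obj ρ.obj.snd ⟶ x.obj (Over.mk (𝟙 V)) := x.map (FC16.toTerm ρ.obj.snd)
  refine ⟨x.obj ρ.obj.snd, π, r, inferInstance, ?_, ?_, ?_⟩
  · have hfst : (k.left : W.left ⟶ T.left) = eqToHom (congrArg Comma.left ((BasedFunctor.comp E (FibCat.fpFst y x)).w_obj (Over.mk (𝟙 W)))).symm ≫ ρ.obj.fst.hom.left := by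
      have h := isHomLift_appIso_hom i (Over.mk (𝟙 W)) (U := W) rfl
      haveI := h
      have h₁ := IsHomLift.fac' (FibCat.overCat T).p (𝟙 W) (appIso i (Over.mk (𝟙 W))).hom
      have h₂ : (appIso i (Over.mk (𝟙 W))).hom.left ≫ 𝟙 W ≫ k = ρ.obj.fst.hom :=
        Over.w (appIso i (Over.mk (𝟙 W))).hom
      have h₁' : (appIso i (Over.mk (𝟙 W))).hom.left = _ := h₁
      rw [← h₂, h₁']
      simp
      exact (Category.id_comp _).symm
    have hff : FF (𝒳 := FibCat.overCat T) (FC16.toTerm ρ.obj.fst) := by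
      have e : bmap (FibCat.overCat T) (FC16.toTerm ρ.obj.fst) =
          eqToHom (congrArg Comma.left ((BasedFunctor.comp E (FibCat.fpFst y x)).w_obj (Over.mk (𝟙 W)))) ≫ k.left := by
        rw [hfst]
        simp [FC16.toTerm, bmap]
        rfl
      unfold FF
      rw [e]
      exact ⟨inferInstance, inferInstance⟩
    exact FF.comp (FF.of_isIso ρ.obj.iso.inv) (FF.comp (hff.map y) (FF.of_isIso φ₀))
  · intro w _ α s
    obtain ⟨a, e₁, ha, he₁, hl₁⟩ := exists_chart_obj h₀ y (α ≫ inv φ₀)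
    obtain ⟨a', e₂, ha', he₂, hl₂⟩ := exists_chart_obj h₀ x s
    haveI := hl₁; haveI := hl₂
    have hl : 𝒳.p.IsHomLift (𝟙 (𝒳.p.obj w)) (e₁ ≪≫ e₂.symm).hom :=
      inferInstanceAs (𝒳.p.IsHomLift (𝟙 (𝒳.p.obj w)) (e₁.hom ≫ e₂.inv))
    let ξ : (FibCat.fp y x).obj := fpObj a a' (e₁ ≪≫ e₂.symm) (ha : (FibCat.overCat T).p.obj a = _) hl
    let m : ξ ⟶ ρ := hterm.from ξ
    have hw : y.map m.hom.fst ≫ ρ.obj.iso.hom = (e₁.hom ≫ e₂.inv) ≫ x.map m.hom.snd := m.hom.w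
    refine ⟨e₂.inv ≫ x.map m.hom.snd, ?_, ?_⟩
    · have h2 : e₂.inv ≫ x.map m.hom.snd ≫ ρ.obj.iso.inv = e₁.inv ≫ y.map m.hom.fst := by
        rw [Iso.eq_inv_comp, ← Category.assoc e₂.inv, ← Category.assoc, ← Category.assoc e₁.hom, ← hw]
        simp
      show (e₂.inv ≫ x.map m.hom.snd) ≫ ρ.obj.iso.inv ≫ y.map (FC16.toTerm ρ.obj.fst) ≫ φ₀ = α
      rw [Category.assoc, ← Category.assoc (x.map _), ← Category.assoc, h2, Category.assoc,
        ← Category.assoc (y.map m.hom.fst)]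
      have h3 : y.map m.hom.fst ≫ y.map (FC16.toTerm ρ.obj.fst) = y.map (FC16.toTerm a) :=
        (y.toFunctor.map_comp _ _).symm.trans (congrArg _ (hom_term_ext _ _))
      rw [h3, ← he₁]
      simp
    · have h3 : x.map m.hom.snd ≫ r = x.map (FC16.toTerm a') :=
        (x.toFunctor.map_comp _ _).symm.trans (congrArg _ (hom_term_ext _ _))
      rw [Category.assoc, h3, ← he₂, Iso.inv_hom_id_assoc]
  · intro w _ l l' hπ hr
    obtain ⟨a, e₁, ha, he₁, hl₁⟩ := exists_chart_obj h₀ y (l ≫ π ≫ inv φ₀)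
    obtain ⟨a', e₂, ha', he₂, hl₂⟩ := exists_chart_obj h₀ x (l ≫ r)
    haveI := hl₁; haveI := hl₂
    have hl : 𝒳.p.IsHomLift (𝟙 (𝒳.p.obj w)) (e₁ ≪≫ e₂.symm).hom :=
      inferInstanceAs (𝒳.p.IsHomLift (𝟙 (𝒳.p.obj w)) (e₁.hom ≫ e₂.inv))
    let ξ : (FibCat.fp y x).obj := fpObj a a' (e₁ ≪≫ e₂.symm) (ha : (FibCat.overCat T).p.obj a = _) hl
    have mor : ∀ n : w ⟶ x.obj ρ.obj.snd, n ≫ π = l ≫ π → n ≫ r = l ≫ r →
        ∃ m : ξ ⟶ ρ, x.map m.hom.snd = e₂.hom ≫ n := by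
      intro n h₁ h₂
      obtain ⟨mf, hmf⟩ := exists_map_eq h₀ y (a := a) (b := ρ.obj.fst) (e₁.hom ≫ n ≫ ρ.obj.iso.inv) (by
        have h1 : n ≫ ρ.obj.iso.inv ≫ y.map (FC16.toTerm ρ.obj.fst) = l ≫ π ≫ inv φ₀ := by
          rw [← reassoc_of% h₁]
          simp [π]
        rw [Category.assoc, Category.assoc, h1, he₁])
      obtain ⟨ms, hms⟩ := exists_map_eq h₀ x (a := a') (b := ρ.obj.snd) (e₂.hom ≫ n) (by
        rw [Category.assoc]
        exact (congrArg (e₂.hom ≫ ·) h₂).trans he₂)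
      refine ⟨FC16.fpHom mf ms ?_, hms⟩
      show y.map mf ≫ ρ.obj.iso.hom = (e₁ ≪≫ e₂.symm).hom ≫ x.map ms
      rw [hmf, hms]
      simp
    obtain ⟨m₁, hm₁⟩ := mor l rfl rfl
    obtain ⟨m₂, hm₂⟩ := mor l' hπ.symm hr.symm
    rw [hterm.hom_ext m₁ m₂, hm₂] at hm₁
    exact ((cancel_epi e₂.hom).1 hm₁).symm

/-- An atlas from an affine, flat and surjective chart. -/
theorem exists_atlas (h₀ : FibCat.IsFibGrpd 𝒳.p) [IsAffine V.left]
    (hxa : AlgSt.RepByAlgSpWith AlgSp.IsAffineMor x)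
    (hxf : AlgSt.RepByAlgSpWith (AlgSp.LocP @Flat) x) (hxs : AlgSt.RepByAlgSpWith AlgSp.IsSurjectiveMor x) :
    ∃ A : Atlas 𝒳, A.b = x.obj (Over.mk (𝟙 V)) := by
  haveI : IsAffine (sch (FibCat.overCat V) (Over.mk (𝟙 V))) := ‹IsAffine V.left›
  haveI : IsAffine (sch 𝒳 (x.obj (Over.mk (𝟙 V)))) := isAffine_map x _
  choose P π r hPa hff hl he using fun (z : 𝒳.obj) (hz : IsAffine (sch 𝒳 z)) => exists_product h₀ hxa hxf hxs z
  exact ⟨{ grpd := h₀, b := x.obj (Over.mk (𝟙 V)), pr := fun z hz => P z hz, affine_pr := fun z hz => hPa z hz,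
           π := fun z hz => π z hz, r := fun z hz => r z hz, ff := fun z hz => hff z hz,
           exists_lift := fun {w z} _ hz a s => hl z hz a s, ext := fun {w z} _ hz k k' h h' => he z hz k k' h h' }, rfl⟩

end Groth.Agent.StQC14
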