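import Groth.Agent.Lib.StQC14.Flat
import Mathlib.AlgebraicGeometry.PullbackCarrier

/-!
# Generating families and flat base change over an affine base
-/

universe w' v' t w v u

open CategoryTheory CategoryTheory.Functor CategoryTheory.Limits AlgebraicGeometry Opposite

set_option linter.style.haveILetI false
set_option linter.unusedSectionVars false
set_option backward.isDefEq.respectTransparency false
set_option backward.isDefEq.respectTransparency.types false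

namespace Groth.Agent.StQC14

open StMod

variable {S : Scheme.{u}}

/-- A category over `𝒳` which is its base change along a morphism of base schemes. -/
structure BCData (𝒳 : BasedCategory.{v, w} (Over S)) {Y : Scheme.{u}} (strA : ∀ x : 𝒳.obj, sch 𝒳 x ⟶ Y) where
  Y' : Scheme.{u}
  [affine : IsAffine Y']
  ρ : Y' ⟶ Y
  [flat : Flat ρ]
  D : Type w'
  [cat : Category.{v'} D]
  T : D ⥤ 𝒳.obj
  fib : FibCat.IsFibGrpd (resCat T).p
  strD : ∀ d : D, sch 𝒳 (T.obj d) ⟶ Y'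
  natD : ∀ {d' d : D} (k : d' ⟶ d), bmap 𝒳 (T.map k) ≫ strD d = strD d'
  comm : ∀ d : D, strD d ≫ ρ = strA (T.obj d)
  exists_mk : ∀ (x : 𝒳.obj) (k : sch 𝒳 x ⟶ Y'), k ≫ ρ = strA x →
    ∃ (d : D) (e : T.obj d ⟶ x), IsIso (bmap 𝒳 e) ∧ bmap 𝒳 e ≫ k = strD d
  exists_map : ∀ (d d' : D) (m : T.obj d ⟶ T.obj d'), bmap 𝒳 m ≫ strD d' = strD d → ∃ k : d ⟶ d', T.map k = m

attribute [instance] BCData.affine BCData.flat BCData.cat

variable {𝒳 : BasedCategory.{v, w} (Over S)} {Y : Scheme.{u}} {strA : ∀ x : 𝒳.obj, sch 𝒳 x ⟶ Y}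

theorem BCData.exists_piece (B : BCData.{w', v'} 𝒳 strA) (h₀ : FibCat.IsFibGrpd 𝒳.p) [IsAffine Y]
    (natA : ∀ {x' x : 𝒳.obj} (φ : x' ⟶ x), bmap 𝒳 φ ≫ strA x = strA x')
    (x : 𝒳.obj) [IsAffine (sch 𝒳 x)] :
    ∃ (d : B.D) (κ : B.T.obj d ⟶ x), IsAffine (sch 𝒳 (B.T.obj d)) ∧
      IsPullback (bmap 𝒳 κ) (B.strD d) (strA x) B.ρ := by
  obtain ⟨x', φ, e, he⟩ := exists_lift_to h₀ x (pullback.fst (strA x) B.ρ)
  obtain ⟨d, e₀, h₁, h₂⟩ := B.exists_mk x' (e.hom ≫ pullback.snd (strA x) B.ρ) (by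
    rw [← natA φ, he, Category.assoc, Category.assoc, pullback.condition])
  haveI := h₁
  refine ⟨d, e₀ ≫ φ, IsAffine.of_isIso (bmap 𝒳 e₀ ≫ e.hom), ?_⟩
  exact (IsPullback.of_hasPullback (strA x) B.ρ).of_iso (asIso (bmap 𝒳 e₀ ≫ e.hom)).symm (Iso.refl _)
    (Iso.refl _) (Iso.refl _) (by simp [he]) (by simp [← h₂]) (by simp) (by simp)

theorem BCData.exists_factor (B : BCData.{w', v'} 𝒳 strA) (h₀ : FibCat.IsFibGrpd 𝒳.p)
    (natA : ∀ {x' x : 𝒳.obj} (φ : x' ⟶ x), bmap 𝒳 φ ≫ strA x = strA x')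
    {x : 𝒳.obj} {d d₀ : B.D} (κ : B.T.obj d₀ ⟶ x) (hκ : IsPullback (bmap 𝒳 κ) (B.strD d₀) (strA x) B.ρ)
    (ψ : B.T.obj d ⟶ x) : ∃ k : d ⟶ d₀, B.T.map k ≫ κ = ψ := by
  have hw : bmap 𝒳 ψ ≫ strA x = B.strD d ≫ B.ρ := (natA ψ).trans (B.comm d).symm
  obtain ⟨m, hm, hb⟩ := StQC14.exists_factor h₀ κ ψ (hκ.lift _ _ hw) (hκ.lift_fst _ _ hw)
  obtain ⟨k, hk⟩ := B.exists_map d d₀ m (by rw [hb, hκ.lift_snd])
  exact ⟨k, by rw [hk, hm]⟩

variable {ι : Type t}

/-- Vanishing on the base change of a morphism killing all morphisms from the family. -/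
theorem BCData.app_eq_zero (B : BCData.{w', v'} 𝒳 strA) (h₀ : FibCat.IsFibGrpd 𝒳.p) (P : Pres 𝒳) [IsAffine Y]
    (natA : ∀ {x' x : 𝒳.obj} (φ : x' ⟶ x), bmap 𝒳 φ ≫ strA x = strA x')
    (E : ι → QCoh 𝒳) (hE : ∀ i, (E i).obj.IsFinPres)
    (hgen : IsGenFam (fun i => (comapQ (resIncl B.T)).obj (E i))) {M N : QCoh 𝒳} (u : M ⟶ N)
    (hu : ∀ (i : ι) (φ : (E i).obj ⟶ M.obj), φ ≫ u.hom = 0) (d : B.D) (x : Γ(M.obj.obj (B.T.obj d), ⊤)) :
    (u.hom.app (B.T.obj d)).app ⊤ x = 0 := by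
  obtain ⟨b', κb, hb', sqb⟩ := B.exists_piece h₀ natA P.b
  obtain ⟨c', κc, hc', sqc⟩ := B.exists_piece h₀ natA P.c
  haveI := hb'; haveI := hc'
  obtain ⟨p', hp'⟩ := B.exists_factor h₀ natA κb sqb (κc ≫ P.p)
  obtain ⟨q', hq'⟩ := B.exists_factor h₀ natA κb sqb (κc ≫ P.q)
  haveI : Flat (bmap 𝒳 κb) := MorphismProperty.of_isPullback sqb.flip inferInstance
  haveI : Flat (bmap 𝒳 κc) := MorphismProperty.of_isPullback sqc.flip inferInstance
  have comp : ∀ {X X' Z : Scheme.{u}} (a : X ⟶ X') (b : X' ⟶ Z) (c : X ⟶ Z), a ≫ b = c →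
      a.appTop.hom.comp b.appTop.hom = c.appTop.hom := by
    rintro X X' Z a b c rfl
    rfl
  have hfp : ∀ (i : ι) (y : 𝒳.obj) [IsAffine (sch 𝒳 y)],
      Module.FinitePresentation Γ(sch 𝒳 y, ⊤) Γ((E i).obj.obj y, ⊤) := fun i y _ =>
    M1.finitePresentation_sections (hE i y) (isAffineOpen_top _)
  -- the composites vanish on the base change of the chart
  have key : ∀ (i : ι) (ψ : Mod.comap (resIncl B.T) (E i).obj ⟶ Mod.comap (resIncl B.T) M.obj) (z),
      (u.hom.app (B.T.obj b')).app ⊤ ((ψ.app b').app ⊤ z) = 0 := fun i ψ z => by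
    haveI := hfp i P.b; haveI := hfp i P.c
    exact comp_eq_zero_of_flat h₀ P B.T b' c' κb κc p' q' hp' hq' (flat_appTop B.ρ) (flat_appTop _)
      (flat_appTop _) (sB := (strA P.b).appTop.hom) (sC := (strA P.c).appTop.hom)
      (sB' := (B.strD b').appTop.hom) (sC' := (B.strD c').appTop.hom) (comp _ _ _ (natA P.p))
      (comp _ _ _ (natA P.q)) (comp _ _ _ (B.natD p')) (comp _ _ _ (B.natD q'))
      (isPushout_appTop_of_isPullback sqb) (isPushout_appTop_of_isPullback sqc) (E i).property M.property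
      u.hom (hu i) ψ z
  have hz : (comapQ (resIncl B.T)).map u = 0 := by
    refine (isGenFam_iff _).1 hgen _ fun i ψ => ?_
    refine hom_ext_affine (𝒳 := resCat B.T) B.fib (isQCoh_comap (E i).property) (isQCoh_comap N.property)
      fun d hd z => ?_
    haveI : IsAffine (sch 𝒳 (B.T.obj d)) := hd
    rw [Mod.zero_app]
    show (u.hom.app (B.T.obj d)).app ⊤ ((ψ.app d).app ⊤ z) = 0
    obtain ⟨x', hx', π, hπ, ⟨r⟩⟩ := P.cover (B.T.obj d)
    haveI := hπ.1
    haveI := hπ.2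
    obtain ⟨d', e, he, hk⟩ := B.exists_mk x' (bmap 𝒳 π ≫ B.strD d) (by rw [Category.assoc, B.comm, natA])
    haveI := he
    haveI : IsAffine (sch 𝒳 (B.T.obj d')) := IsAffine.of_isIso (bmap 𝒳 e)
    obtain ⟨k₁, hk₁⟩ := B.exists_map d' d (e ≫ π) (by rw [bmap_comp, Category.assoc, hk])
    obtain ⟨k₂, -⟩ := B.exists_factor h₀ natA κb sqb (e ≫ r)
    haveI : Flat (bmap 𝒳 (B.T.map k₁)) := by rw [hk₁, bmap_comp]; infer_instance
    haveI : Surjective (bmap 𝒳 (B.T.map k₁)) := by rw [hk₁, bmap_comp]; infer_instance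
    refine (isBC_secL (B.T.map k₁) N.property).injective (flat_appTop _) (surjective_comap_appTop _) ?_
    rw [secL_apply, secL_apply, Mod.mapTop_app, ← comap_mapTop B.T M.obj k₁]
    erw [Mod.mapTop_app (𝒳 := resCat B.T) ψ k₁ z]
    rw [N.obj.mapTop_zero]
    suffices h : ∀ y, (u.hom.app (B.T.obj d')).app ⊤ ((ψ.app d').app ⊤ y) = 0 from h _
    intro y
    induction (isBC_secL (B.T.map k₂) (E i).property).span y using Submodule.span_induction with
    | mem y hy =>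
      obtain ⟨w, rfl⟩ := hy
      have h2 : M.obj.mapTop (B.T.map k₂) ((ψ.app b').app ⊤ w) =
          (ψ.app d').app ⊤ ((E i).obj.mapTop (B.T.map k₂) w) :=
        ((comap_mapTop B.T M.obj k₂ _).symm.trans (Mod.mapTop_app (𝒳 := resCat B.T) ψ k₂ w)).trans
          (congrArg _ (comap_mapTop B.T (E i).obj k₂ w))
      show (u.hom.app (B.T.obj d')).app ⊤ ((ψ.app d').app ⊤ ((E i).obj.mapTop (B.T.map k₂) w)) = 0
      rw [← h2, ← Mod.mapTop_app]
      exact (congrArg (N.obj.mapTop (B.T.map k₂)) (key i ψ w)).trans (N.obj.mapTop_zero _)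
    | zero =>
      erw [_root_.map_zero, _root_.map_zero]
    | add a b _ _ ha hb =>
      erw [_root_.map_add, _root_.map_add]
      rw [ha, hb, add_zero]
    | smul c a _ ha =>
      erw [Scheme.Modules.Hom.app_smul]
      rw [Scheme.Modules.Hom.app_smul, ha, smul_zero]
  have h := congrArg (fun v : (comapQ (resIncl B.T)).obj M ⟶ (comapQ (resIncl B.T)).obj N =>
    (v.hom.app d).app ⊤ x) hz
  exact h

/-- A morphism killing all morphisms from the family vanishes, given flat base changes covering the base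
on which the family generates. -/
theorem eq_zero_of_bcData (h₀ : FibCat.IsFibGrpd 𝒳.p) (P : Pres 𝒳) [IsAffine Y]
    (natA : ∀ {x' x : 𝒳.obj} (φ : x' ⟶ x), bmap 𝒳 φ ≫ strA x = strA x')
    {κ : Type*} (B : κ → BCData.{w', v'} 𝒳 strA) (hcov : ∀ y : Y, ∃ (k : κ) (y' : (B k).Y'), (B k).ρ y' = y)
    (E : ι → QCoh 𝒳) (hE : ∀ i, (E i).obj.IsFinPres)
    (hgen : ∀ k, IsGenFam (fun i => (comapQ (resIncl (B k).T)).obj (E i))) {M N : QCoh 𝒳} (u : M ⟶ N)
    (hu : ∀ (i : ι) (φ : (E i).obj ⟶ M.obj), φ ≫ u.hom = 0) : u = 0 := by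
  refine InducedCategory.hom_ext (hom_ext_affine h₀ M.property N.property fun x hx m => ?_)
  show (u.hom.app x).app ⊤ m = ((0 : M.obj ⟶ N.obj).app x).app ⊤ m
  rw [Mod.zero_app]
  show (u.hom.app x).app ⊤ m = 0
  have hp := fun k => (B k).exists_piece h₀ natA x
  choose d κ hd hsq using hp
  haveI := hd
  refine eq_zero_of_family (σ := fun k => (bmap 𝒳 (κ k)).appTop.hom) (fun k => ?_) ?_
    (f := fun k => secL N.obj (κ k)) (fun k => isBC_secL (κ k) N.property) _ fun k => ?_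
  · haveI : Flat (bmap 𝒳 (κ k)) := MorphismProperty.of_isPullback (hsq k).flip inferInstance
    exact flat_appTop _
  · intro p
    obtain ⟨z, rfl⟩ := (sch 𝒳 x).isoSpec.hom.surjective p
    obtain ⟨k, y', hy'⟩ := hcov (strA x z)
    obtain ⟨s, hs, -⟩ := Scheme.exists_preimage_of_isPullback (hsq k) z y' hy'.symm
    refine ⟨k, (sch 𝒳 _).isoSpec.hom s, ?_⟩
    rw [← hs]
    exact congr($(Scheme.isoSpec_hom_naturality (bmap 𝒳 (κ k))) s)
  · rw [secL_apply, Mod.mapTop_app]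
    exact (B k).app_eq_zero h₀ P natA E hE (hgen k) u hu (d k) _

end Groth.Agent.StQC14
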