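import Groth.Agent.Lib.StQC14.CompFib
import Groth.Agent.Lib.StAlg16.QCMor
import Groth.Agent.Lib.StAlg16.DiagIff
import Groth.Agent.Lib.StAlg.DiagApps
import Groth.Agent.Lib.FC16.Fiber

/-!
# Relative generation and the diagonal
-/

universe t u

open CategoryTheory CategoryTheory.Functor CategoryTheory.Limits AlgebraicGeometry Opposite

set_option linter.style.haveILetI false
set_option linter.unusedSectionVars false
set_option backward.isDefEq.respectTransparency false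
set_option backward.isDefEq.respectTransparency.types false

namespace Groth.Agent.StQC14

open StMod AlgSt Groth.Agent.FC16 Groth.Agent.StAlg

variable {S : Scheme.{u}} {𝒳 𝒴 𝒵 : AlgSt.Cat S} (f : 𝒳 ⥤ᵇ 𝒴) (g : 𝒴 ⥤ᵇ 𝒵) (η : 𝒴.obj)

/-- From the category over an object to the category over its image. -/
def fibC : fibCat f η ⥤ᵇ fibCat (BasedFunctor.comp f g) (g.obj η) where
  toFunctor :=
    { obj := fun a => CostructuredArrow.mk (S := (BasedFunctor.comp f g).toFunctor) (Y := a.left) (g.map a.hom)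
      map := fun {a b} φ => CostructuredArrow.homMk φ.left (by
        show g.map (f.map φ.left) ≫ g.map b.hom = g.map a.hom
        rw [← g.toFunctor.map_comp]
        exact congrArg (fun k => g.map k) (CostructuredArrow.w φ))
      map_id := fun _ => CostructuredArrow.hom_ext _ _ rfl
      map_comp := fun _ _ => CostructuredArrow.hom_ext _ _ rfl }
  w := rfl

theorem fibC_w {x : (fibCat (BasedFunctor.comp f g) (g.obj η)).obj}
    (a : (fibCat (fibC f g η) x).obj) : g.map (f.map a.hom.left) ≫ x.hom = g.map a.left.hom :=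
  CostructuredArrow.w a.hom

theorem bmap_eq_of_map_eq {a b c : 𝒴.obj} {p : a ⟶ b} {q : a ⟶ c} {γ : g.obj b ⟶ g.obj c}
    (hb : sch 𝒴 b = sch 𝒴 c)
    (hγ : bmap 𝒵 γ = eqToHom (sch_obj_eq g b) ≫ eqToHom hb ≫ eqToHom (sch_obj_eq g c).symm)
    (e : g.map p ≫ γ = g.map q) : bmap 𝒴 q = bmap 𝒴 p ≫ eqToHom hb := by
  have e' := congrArg (bmap 𝒵) e
  rw [bmap_comp, bmap_map g p, bmap_map g q, hγ] at e'
  have := congrArg (fun m => eqToHom (sch_obj_eq g a).symm ≫ m ≫ eqToHom (sch_obj_eq g c)) e'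
  simpa using this.symm

theorem map_eq_of_bmap_eq (h𝒵 : FibCat.IsFibGrpd 𝒵.p) {a b c d : 𝒴.obj} {p : a ⟶ b} {q : a ⟶ c}
    {γ : g.obj b ⟶ g.obj c} {k : c ⟶ d} {β : g.obj b ⟶ g.obj d} (hb : sch 𝒴 b = sch 𝒴 c)
    (hγ : bmap 𝒵 γ = eqToHom (sch_obj_eq g b) ≫ eqToHom hb ≫ eqToHom (sch_obj_eq g c).symm)
    (hk : γ ≫ g.map k = β) (e : bmap 𝒴 q = bmap 𝒴 p ≫ eqToHom hb) (ek : g.map p ≫ β = g.map (q ≫ k)) :
    g.map p ≫ γ = g.map q := by
  refine factor_unique h𝒵 (g.map k) ?_ ?_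
  · rw [Category.assoc, hk, ek]
    exact g.toFunctor.map_comp q k
  · rw [bmap_comp, bmap_map g p, bmap_map g q, hγ, e]
    simp

variable (y : (fibCat (BasedFunctor.comp f g) (g.obj η)).obj) {η' : 𝒴.obj} (k : η' ⟶ η)
  (γ : g.obj (f.obj y.left) ≅ g.obj η') (hs : sch 𝒴 (f.obj y.left) = sch 𝒴 η')
  (hl : 𝒵.p.IsHomLift (𝟙 (𝒴.p.obj (f.obj y.left))) γ.hom)
  (hγb : bmap 𝒵 γ.hom = eqToHom (sch_obj_eq g (f.obj y.left)) ≫ eqToHom hs ≫ eqToHom (sch_obj_eq g η').symm)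
  (hγk : γ.hom ≫ g.map k = y.hom)

/-- The object of the pair. -/
def cPair : (FibCat.fp g g).obj := fpObj (f.obj y.left) η' γ (U := 𝒴.p.obj (f.obj y.left)) rfl hl

variable (h𝒳 : FibCat.IsFibGrpd 𝒳.p) (h𝒴 : FibCat.IsFibGrpd 𝒴.p) (h𝒵 : FibCat.IsFibGrpd 𝒵.p)

include hγb hγk h𝒴 h𝒵 in
theorem exists_snd (a : (fibCat (fibC f g η) y).obj) :
    ∃ m : f.obj a.left.left ⟶ η', m ≫ k = a.left.hom ∧ bmap 𝒴 m = bmap 𝒴 (f.map a.hom.left) ≫ eqToHom hs ∧
      g.map (f.map a.hom.left) ≫ γ.hom = g.map m := by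
  have e := congrArg (bmap 𝒵) (fibC_w f g η a)
  rw [← hγk, bmap_comp, bmap_comp, bmap_map g (f.map a.hom.left), bmap_map g a.left.hom, bmap_map g k, hγb] at e
  have e' := congrArg (fun m => eqToHom (sch_obj_eq g (f.obj a.left.left)).symm ≫ m ≫ eqToHom (sch_obj_eq g η)) e
  obtain ⟨m, hm, hb⟩ := exists_factor h𝒴 k a.left.hom (bmap 𝒴 (f.map a.hom.left) ≫ eqToHom hs) (by simpa using e')
  refine ⟨m, hm, hb, map_eq_of_bmap_eq g h𝒵 hs hγb hγk hb ?_⟩
  rw [hm]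
  exact fibC_w f g η a

/-- The second component. -/
noncomputable def sndC (a : (fibCat (fibC f g η) y).obj) : f.obj a.left.left ⟶ η' :=
  (exists_snd f g η y k γ hs hγb hγk h𝒴 h𝒵 a).choose

theorem sndC_spec (a : (fibCat (fibC f g η) y).obj) :
    sndC f g η y k γ hs hγb hγk h𝒴 h𝒵 a ≫ k = a.left.hom ∧
      bmap 𝒴 (sndC f g η y k γ hs hγb hγk h𝒴 h𝒵 a) = bmap 𝒴 (f.map a.hom.left) ≫ eqToHom hs ∧
      g.map (f.map a.hom.left) ≫ γ.hom = g.map (sndC f g η y k γ hs hγb hγk h𝒴 h𝒵 a) :=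
  (exists_snd f g η y k γ hs hγb hγk h𝒴 h𝒵 a).choose_spec

/-- From the fibre of the map to the category of the diagonal over the pair. -/
noncomputable def toDiag : fibCat (fibC f g η) y ⥤ᵇ fibCat (FibCat.diag g) (cPair f g η y γ hl) where
  toFunctor :=
    { obj := fun a => CostructuredArrow.mk (S := (FibCat.diag g).toFunctor) (Y := f.obj a.left.left)
        (fpHom (f.map a.hom.left) (sndC f g η y k γ hs hγb hγk h𝒴 h𝒵 a)
          ((sndC_spec f g η y k γ hs hγb hγk h𝒴 h𝒵 a).2.2.trans (Category.id_comp _).symm))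
      map := fun {a b} φ => CostructuredArrow.homMk (f.map φ.left.left) (by
        have e₁ : f.map φ.left.left ≫ f.map b.hom.left = f.map a.hom.left :=
          (f.toFunctor.map_comp _ _).symm.trans
            (congrArg (fun n => f.map n) (congrArg CommaMorphism.left (CostructuredArrow.w φ)))
        apply ObjectProperty.hom_ext
        apply CategoricalPullback.hom_ext
        · exact e₁
        · show f.map φ.left.left ≫ sndC f g η y k γ hs hγb hγk h𝒴 h𝒵 b = sndC f g η y k γ hs hγb hγk h𝒴 h𝒵 a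
          refine factor_unique h𝒴 k ?_ ?_
          · rw [Category.assoc, (sndC_spec f g η y k γ hs hγb hγk h𝒴 h𝒵 b).1,
              (sndC_spec f g η y k γ hs hγb hγk h𝒴 h𝒵 a).1]
            exact CostructuredArrow.w φ.left
          · rw [bmap_comp, (sndC_spec f g η y k γ hs hγb hγk h𝒴 h𝒵 b).2.1,
              (sndC_spec f g η y k γ hs hγb hγk h𝒴 h𝒵 a).2.1, ← Category.assoc, ← bmap_comp, e₁])
      map_id := fun a => CostructuredArrow.hom_ext _ _ (f.toFunctor.map_id _)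
      map_comp := fun φ ψ => CostructuredArrow.hom_ext _ _ (f.toFunctor.map_comp _ _) }
  w := by
    show ((CostructuredArrow.proj (fibC f g η).toFunctor y ⋙ CostructuredArrow.proj f.toFunctor η) ⋙ f.toFunctor) ⋙
      𝒴.p = (CostructuredArrow.proj (fibC f g η).toFunctor y ⋙ CostructuredArrow.proj f.toFunctor η) ⋙ 𝒳.p
    rw [Functor.assoc, f.w]

include h𝒳 in
theorem toDiag_faithful : (toDiag f g η y k γ hs hl hγb hγk h𝒴 h𝒵).toFunctor.Faithful := by
  refine ⟨fun {a b} φ ψ h => ?_⟩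
  have e : f.map φ.left.left = f.map ψ.left.left := congrArg CommaMorphism.left h
  refine CostructuredArrow.hom_ext _ _ (CostructuredArrow.hom_ext _ _ (factor_unique h𝒳 b.hom.left ?_ ?_))
  · exact (congrArg CommaMorphism.left (CostructuredArrow.w φ)).trans
      (congrArg CommaMorphism.left (CostructuredArrow.w ψ)).symm
  · have e' := congrArg (bmap 𝒴) e
    rw [bmap_map f, bmap_map f] at e'
    simpa using congrArg (fun m => eqToHom (sch_obj_eq f a.left.left).symm ≫ m ≫ eqToHom (sch_obj_eq f b.left.left)) e'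

include h𝒳 in
theorem toDiag_full : (toDiag f g η y k γ hs hl hγb hγk h𝒴 h𝒵).toFunctor.Full := by
  refine ⟨fun {a b} n => ?_⟩
  have hn := CostructuredArrow.w n
  have e₁ : n.left ≫ f.map b.hom.left = f.map a.hom.left :=
    congrArg (fun m => CategoricalPullback.Hom.fst (InducedCategory.Hom.hom m)) hn
  have e₂ : n.left ≫ sndC f g η y k γ hs hγb hγk h𝒴 h𝒵 b = sndC f g η y k γ hs hγb hγk h𝒴 h𝒵 a :=
    congrArg (fun m => CategoricalPullback.Hom.snd (InducedCategory.Hom.hom m)) hn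
  have e₁' := congrArg (bmap 𝒴) e₁
  rw [bmap_comp, bmap_map f, bmap_map f] at e₁'
  obtain ⟨ψ, hψ, hb⟩ := exists_factor h𝒳 b.hom.left a.hom.left
    (eqToHom (sch_obj_eq f a.left.left).symm ≫ bmap 𝒴 n.left ≫ eqToHom (sch_obj_eq f b.left.left)) (by
      simpa using congrArg (fun m => eqToHom (sch_obj_eq f a.left.left).symm ≫ m ≫ eqToHom (sch_obj_eq f y.left)) e₁')
  have hf : f.map ψ = n.left := by
    refine factor_unique h𝒴 (f.map b.hom.left) ?_ ?_
    · rw [e₁, ← hψ]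
      exact (f.toFunctor.map_comp _ _).symm
    · rw [bmap_map f, hb]
      simp
  have hα : f.map ψ ≫ b.left.hom = a.left.hom := by
    rw [← (sndC_spec f g η y k γ hs hγb hγk h𝒴 h𝒵 b).1, ← (sndC_spec f g η y k γ hs hγb hγk h𝒴 h𝒵 a).1,
      ← Category.assoc, hf, e₂]
  exact ⟨CostructuredArrow.homMk (CostructuredArrow.homMk ψ hα) (CostructuredArrow.hom_ext _ _ hψ),
    CostructuredArrow.hom_ext _ _ hf⟩

include h𝒳 in
theorem toDiag_essSurj : (toDiag f g η y k γ hs hl hγb hγk h𝒴 h𝒵).toFunctor.EssSurj := by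
  refine ⟨fun ξ => ?_⟩
  let m₁ : ξ.left ⟶ f.obj y.left := ξ.hom.hom.fst
  let m₂ : ξ.left ⟶ η' := ξ.hom.hom.snd
  have hm : g.map m₁ ≫ γ.hom = g.map m₂ := ξ.hom.hom.w.trans (Category.id_comp _)
  have hb₂ : bmap 𝒴 m₂ = bmap 𝒴 m₁ ≫ eqToHom hs := bmap_eq_of_map_eq g hs hγb hm
  let b₀ : 𝒴.p.obj ξ.left ⟶ 𝒳.p.obj y.left := 𝒴.p.map m₁ ≫ eqToHom (f.w_obj y.left)
  obtain ⟨x', κ, hκ⟩ := h𝒳.exists_lift b₀
  haveI := hκ
  have hx' : 𝒳.p.obj x' = 𝒴.p.obj ξ.left := IsHomLift.domain_eq 𝒳.p b₀ κ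
  have hs' : sch 𝒴 (f.obj x') = sch 𝒴 ξ.left := (sch_obj_eq f x').trans (congrArg Comma.left hx')
  have hκb : bmap 𝒳 κ = eqToHom (congrArg Comma.left hx') ≫ bmap 𝒴 m₁ ≫ eqToHom (sch_obj_eq f y.left) := by
    rw [bmap_of_lift b₀ κ]
    simp [b₀]
  obtain ⟨ι, hι, hιb⟩ := exists_factor h𝒴 m₁ (f.map κ) (eqToHom hs') (by rw [bmap_map f, hκb]; simp)
  haveI : 𝒴.p.IsHomLift (𝟙 (𝒴.p.obj ξ.left)) ι := by
    refine IsHomLift.of_fac' 𝒴.p _ _ ((f.w_obj x').trans hx') rfl ?_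
    apply Over.OverMorphism.ext
    simp only [Over.comp_left, Over.eqToHom_left, Over.id_left]
    refine hιb.trans ?_
    simp
  haveI : IsIso ι := FC16.isIso_of_isHomLift h𝒴 (𝟙 (𝒴.p.obj ξ.left)) ι
  have hw : g.map (f.map κ) ≫ y.hom = g.map (ι ≫ m₂ ≫ k) := by
    rw [← hι, ← hγk, g.toFunctor.map_comp, g.toFunctor.map_comp, g.toFunctor.map_comp, Category.assoc,
      ← Category.assoc (g.map m₁), hm]
  let a : (fibCat (fibC f g η) y).obj := CostructuredArrow.mk (S := (fibC f g η).toFunctor)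
    (Y := CostructuredArrow.mk (S := f.toFunctor) (ι ≫ m₂ ≫ k)) (CostructuredArrow.homMk κ hw)
  refine ⟨a, ⟨CostructuredArrow.isoMk (asIso ι) ?_⟩⟩
  apply ObjectProperty.hom_ext
  apply CategoricalPullback.hom_ext
  · exact hι
  · show ι ≫ m₂ = sndC f g η y k γ hs hγb hγk h𝒴 h𝒵 a
    refine factor_unique h𝒴 k ?_ ?_
    · rw [(sndC_spec f g η y k γ hs hγb hγk h𝒴 h𝒵 a).1, Category.assoc]
      rfl
    · rw [(sndC_spec f g η y k γ hs hγb hγk h𝒴 h𝒵 a).2.1, bmap_comp, hb₂, ← Category.assoc, ← bmap_comp]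
      exact congrArg (fun n => bmap 𝒴 n ≫ eqToHom hs) hι

omit hl hγb hγk in
include h𝒳 h𝒴 h𝒵 in
/-- The fibres of the map are categories of the diagonal. -/
theorem exists_diag_equiv (hy : IsAffine (sch (fibCat (BasedFunctor.comp f g) (g.obj η)) y)) :
    ∃ (ζ : (FibCat.fp g g).obj) (_ : IsAffine (sch (FibCat.fp g g) ζ))
      (G : fibCat (FibCat.diag g) ζ ⥤ᵇ fibCat (fibC f g η) y), G.toFunctor.Full ∧ G.toFunctor.EssSurj := by
  let b : 𝒴.p.obj (f.obj y.left) ⟶ 𝒴.p.obj η :=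
    eqToHom (g.w_obj (f.obj y.left)).symm ≫ 𝒵.p.map y.hom ≫ eqToHom (g.w_obj η)
  obtain ⟨η₁, k₁, hk₁⟩ := h𝒴.exists_lift b
  haveI := hk₁
  have hd : 𝒴.p.obj η₁ = 𝒴.p.obj (f.obj y.left) := IsHomLift.domain_eq 𝒴.p b k₁
  have hs₁ : sch 𝒴 (f.obj y.left) = sch 𝒴 η₁ := (congrArg Comma.left hd).symm
  obtain ⟨γ₀, hγ₀, hγb₀⟩ := exists_factor h𝒵 (g.map k₁) y.hom
    (eqToHom (sch_obj_eq g (f.obj y.left)) ≫ eqToHom hs₁ ≫ eqToHom (sch_obj_eq g η₁).symm) (by
      rw [bmap_map g k₁, bmap_of_lift b k₁]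
      simp [b])
  haveI hl₁ : 𝒵.p.IsHomLift (𝟙 (𝒴.p.obj (f.obj y.left))) γ₀ := by
    refine IsHomLift.of_fac' 𝒵.p _ _ (g.w_obj _) ((g.w_obj η₁).trans hd) ?_
    apply Over.OverMorphism.ext
    simp only [Over.comp_left, Over.eqToHom_left, Over.id_left]
    refine hγb₀.trans ?_
    simp
  haveI : IsIso γ₀ := FC16.isIso_of_isHomLift h𝒵 (𝟙 (𝒴.p.obj (f.obj y.left))) γ₀
  have hb₀ : bmap 𝒵 (asIso γ₀).hom =
      eqToHom (sch_obj_eq g (f.obj y.left)) ≫ eqToHom hs₁ ≫ eqToHom (sch_obj_eq g η₁).symm := hγb₀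
  let E := toDiag f g η y k₁ (asIso γ₀) hs₁ hl₁ hb₀ hγ₀ h𝒴 h𝒵
  haveI := toDiag_full f g η y k₁ (asIso γ₀) hs₁ hl₁ hb₀ hγ₀ h𝒳 h𝒴 h𝒵
  haveI := toDiag_faithful f g η y k₁ (asIso γ₀) hs₁ hl₁ hb₀ hγ₀ h𝒳 h𝒴 h𝒵
  haveI := toDiag_essSurj f g η y k₁ (asIso γ₀) hs₁ hl₁ hb₀ hγ₀ h𝒳 h𝒴 h𝒵
  haveI : (fibCat (fibC f g η) y).p.IsFibered :=
    FC16.isFibered (fibCat_isFibGrpd (fibCat_isFibGrpd h𝒳 f η) _ y)
  haveI : E.toFunctor.IsEquivalence := {}
  obtain ⟨G, hG, -⟩ := FC16.exists_inverse (isEquivOver_of_isEquivalence E)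
  haveI := isEquivalence_of_isEquivOver hG
  refine ⟨cPair f g η y (asIso γ₀) hl₁, ?_, G, inferInstance, inferInstance⟩
  haveI : IsAffine (sch 𝒳 y.left) := hy
  exact isAffine_map f y.left

variable {f g}
variable (hA : AlgSt.IsAlgStack Scheme.fppfPrecoverage 𝒳) (hB : AlgSt.IsAlgStack Scheme.fppfPrecoverage 𝒴)
  (hC : AlgSt.IsAlgStack Scheme.fppfPrecoverage 𝒵)
  (hfqc : AlgSt.IsQuasiCompactMor Scheme.fppfPrecoverage f) (hfqs : AlgSt.IsQuasiSeparatedMor f)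
  (hgqc : AlgSt.IsQuasiCompactMor Scheme.fppfPrecoverage g) (hgqs : AlgSt.IsQuasiSeparatedMor g)

include hA hB hC hgqs in
theorem nonempty_hData_fibC [IsAffine (sch 𝒴 η)] : Nonempty (HData (fibC f g η)) := by
  have hX := fibCat_isFibGrpd hA.isStack.1 f η
  have hY := fibCat_isFibGrpd hA.isStack.1 (BasedFunctor.comp f g) (g.obj η)
  refine ⟨⟨hX, hY, fun z hz => Classical.choice ?_⟩⟩
  obtain ⟨ζ, hζ, G, _, _⟩ := exists_diag_equiv f g η z hA.isStack.1 hB.isStack.1 hC.isStack.1 hz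
  haveI := hζ
  have hfp := StAlg16.isAlgStack_fp' hB hB hC g g
  have hd : AlgSt.RepByAlgSp1 (FibCat.diag g) := StAlg.repByAlgSp1_of_with hgqs
  obtain ⟨Q⟩ := exists_pres_fib (FibCat.diag g) ζ hB hfp
    ((StAlg16.with_qc_iff hB hfp hd).1 (StAlg.repByAlgSpWith_mono (fun _ _ _ _ ha => ha.1) hgqs))
    ((StAlg16.with_qs_iff_isQuasiSeparatedMor hd).1 (StAlg.repByAlgSpWith_mono (fun _ _ _ _ ha => ha.2) hgqs))
  exact Q.map G

include hA hB hC in
theorem isRelGenFam_fibC (hO : IsRelGenFam (FibCat.diag g) (fun _ : PUnit.{u + 1} => OQ 𝒴)) :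
    IsRelGenFam (fibC f g η) (fun _ : PUnit.{u + 1} => OQ (fibCat f η)) := by
  intro z hz
  obtain ⟨ζ, hζ, G, _, _⟩ := exists_diag_equiv f g η z hA.isStack.1 hB.isStack.1 hC.isStack.1 hz
  refine isGenFam_of_equiv G (fibCat_isFibGrpd hB.isStack.1 (FibCat.diag g) ζ)
    (fibCat_isFibGrpd (fibCat_isFibGrpd hA.isStack.1 f η) _ z) _ (isGenFam_of_iso (fun _ => ?_) (hO ζ hζ))
  exact comapOIso (fibFst (FibCat.diag g) ζ) ≪≫ (comapOIso G).symm ≪≫
    ((comapFunctor G).mapIso (comapOIso (fibFst (fibC f g η) z))).symm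

include hA hB hC hfqc hfqs hgqc hgqs in
/-- Generation relative to a composite gives generation relative to the first morphism. -/
theorem isRelGenFam_of_comp {ι : Type t} (E : ι → StMod.QCoh 𝒳)
    (hh : IsRelGenFam (BasedFunctor.comp f g) E)
    (hO : IsRelGenFam (FibCat.diag g) (fun _ : PUnit.{u + 1} => OQ 𝒴)) : IsRelGenFam f E := by
  intro η hη
  haveI := hη
  haveI := isAffine_map g η
  obtain ⟨D⟩ := nonempty_hData_fibC η hA hB hC hgqs (f := f)
  obtain ⟨P⟩ := exists_fpres_fib (BasedFunctor.comp f g) (g.obj η) hA hC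
    (StAlg16.isQuasiCompactMor_comp hA hB hC hfqc hgqc)
    (StAlg.with_diag_comp (goodP_isQuasiCompactMor.inf goodP_isQuasiSeparatedMor) hA.isStack.1 hB.isStack.1
      hfqs hgqs)
  refine isGenFam_of_iso (fun i => ?_) (isGenFam_comapQ_of_push (fibC f g η) D P
    (isRelGenFam_fibC η hA hB hC hO) (fun i => (comapQ (fibFst (BasedFunctor.comp f g) (g.obj η))).obj (E i))
    (hh (g.obj η) inferInstance))
  exact (comapCompIso (fibFst (BasedFunctor.comp f g) (g.obj η)) (fibC f g η) (E i).obj).symm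

section Iso

variable {F F' : 𝒳 ⥤ᵇ 𝒵}

/-- The categories over an object for isomorphic functors. -/
noncomputable def fibIso (e : F ≅ F') (ξ : 𝒵.obj) : fibCat F ξ ⥤ᵇ fibCat F' ξ where
  toFunctor :=
    { obj := fun a => CostructuredArrow.mk (S := F'.toFunctor) (Y := a.left) ((appIso e a.left).inv ≫ a.hom)
      map := fun {a b} φ => CostructuredArrow.homMk φ.left (by
        show F'.map φ.left ≫ (appIso e b.left).inv ≫ b.hom = (appIso e a.left).inv ≫ a.hom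
        rw [← Category.assoc, show F'.map φ.left ≫ (appIso e b.left).inv = (appIso e a.left).inv ≫ F.map φ.left from
          e.inv.toNatTrans.naturality φ.left, Category.assoc, CostructuredArrow.w φ])
      map_id := fun _ => CostructuredArrow.hom_ext _ _ rfl
      map_comp := fun _ _ => CostructuredArrow.hom_ext _ _ rfl }
  w := rfl

theorem fibIso_full (e : F ≅ F') (ξ : 𝒵.obj) : (fibIso e ξ).toFunctor.Full := by
  refine ⟨fun {a b} n => ⟨CostructuredArrow.homMk n.left ?_, CostructuredArrow.hom_ext _ _ rfl⟩⟩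
  have h : F'.map n.left ≫ (appIso e b.left).inv ≫ b.hom = (appIso e a.left).inv ≫ a.hom := CostructuredArrow.w n
  rw [← Category.assoc, show F'.map n.left ≫ (appIso e b.left).inv = (appIso e a.left).inv ≫ F.map n.left from
    e.inv.toNatTrans.naturality n.left, Category.assoc] at h
  exact (cancel_epi (appIso e a.left).inv).1 h

theorem fibIso_essSurj (e : F ≅ F') (ξ : 𝒵.obj) : (fibIso e ξ).toFunctor.EssSurj := by
  refine ⟨fun c => ⟨CostructuredArrow.mk (S := F.toFunctor) (Y := c.left) ((appIso e c.left).hom ≫ c.hom),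
    ⟨CostructuredArrow.isoMk (Iso.refl _) ?_⟩⟩⟩
  show F'.map (𝟙 c.left) ≫ c.hom = (appIso e c.left).inv ≫ (appIso e c.left).hom ≫ c.hom
  rw [Iso.inv_hom_id_assoc, F'.toFunctor.map_id, Category.id_comp]

/-- Relative generation only depends on the functor up to isomorphism. -/
theorem isRelGenFam_of_natIso (e : F ≅ F') (hX : FibCat.IsFibGrpd 𝒳.p) {ι : Type t} (E : ι → StMod.QCoh 𝒳)
    (hE : IsRelGenFam F E) : IsRelGenFam F' E := by
  intro ξ hξ
  haveI := fibIso_full e ξ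
  haveI := fibIso_essSurj e ξ
  exact isGenFam_of_equiv (fibIso e ξ) (fibCat_isFibGrpd hX F ξ) (fibCat_isFibGrpd hX F' ξ) _
    (isGenFam_of_iso (fun i => comapCompIso (fibFst F' ξ) (fibIso e ξ) (E i).obj) (hE ξ hξ))

end Iso

end Groth.Agent.StQC14
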