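import Groth.Agent.Lib.StQC14.Descent
import Groth.Agent.Lib.StAlg16.AtlasEt
import Groth.Agent.Lib.StAlg16.QC
import Mathlib.AlgebraicGeometry.Limits
import Mathlib.AlgebraicGeometry.Morphisms.Smooth

/-!
# Presentations from affine charts
-/

universe w' v' w v u

open CategoryTheory CategoryTheory.Functor CategoryTheory.Limits AlgebraicGeometry Opposite

set_option linter.style.haveILetI false
set_option linter.unusedSectionVars false
set_option backward.isDefEq.respectTransparency false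
set_option backward.isDefEq.respectTransparency.types false

namespace Groth.Agent.StQC14

open StMod Groth.Agent.FC16

variable {S : Scheme.{u}}

/-- A flat, locally finitely presented surjection onto an affine scheme has an affine refinement. -/
theorem exists_affine_refinement {V T : Scheme.{u}} [IsAffine T] (k : V ⟶ T) [Flat k]
    [LocallyOfFinitePresentation k] [Surjective k] :
    ∃ (W : Scheme.{u}) (j : W ⟶ V), IsAffine W ∧ Flat (j ≫ k) ∧ Surjective (j ≫ k) := by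
  classical
  have h : ∀ t : T, ∃ U : V.Opens, IsAffineOpen U ∧ t ∈ k '' (U : Set V) := fun t => by
    obtain ⟨v, rfl⟩ := k.surjective t
    obtain ⟨_, ⟨U, hU, rfl⟩, hv, -⟩ := V.isBasis_affineOpens.exists_subset_of_mem_open (Set.mem_univ v) isOpen_univ
    exact ⟨U, hU, v, hv, rfl⟩
  choose U hU hmem using h
  have hopen : ∀ t, IsOpen (k '' (U t : Set V)) := fun t => k.isOpenMap _ (U t).isOpen
  obtain ⟨s, hs⟩ := isCompact_univ.elim_finite_subcover (fun t => k '' (U t : Set V)) hopen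
    fun t _ => Set.mem_iUnion.2 ⟨t, hmem t⟩
  haveI : ∀ t : s, IsAffine (U t.1).toScheme := fun t => hU t.1
  let j : (∐ fun t : s => (U t.1).toScheme) ⟶ V := Sigma.desc fun t : s => (U t.1).ι
  refine ⟨∐ fun t : s => (U t.1).toScheme, j, inferInstance, ?_, ⟨fun t => ?_⟩⟩
  · refine IsZariskiLocalAtSource.of_openCover (P := @Flat)
      (sigmaOpenCover.{u} fun t : s => (U t.1).toScheme) fun t => ?_
    show Flat (Sigma.ι (fun t : s => (U t.1).toScheme) t ≫ j ≫ k)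
    rw [Sigma.ι_desc_assoc]
    infer_instance
  · obtain ⟨t₀, ht₀, v, hv, rfl⟩ := Set.mem_iUnion₂.1 (hs (Set.mem_univ t))
    refine ⟨Sigma.ι (fun t : s => (U t.1).toScheme) ⟨t₀, ht₀⟩ ⟨v, hv⟩, ?_⟩
    show (Sigma.ι (fun t : s => (U t.1).toScheme) ⟨t₀, ht₀⟩ ≫ j ≫ k) ⟨v, hv⟩ = k v
    rw [Sigma.ι_desc_assoc]
    rfl

variable {𝒳 : BasedCategory.{v, w} (Over S)}

theorem bmap_of_lift {V W : Over S} (f : V ⟶ W) {ξ' ξ : 𝒳.obj} (φ : ξ' ⟶ ξ) [𝒳.p.IsHomLift f φ] :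
    bmap 𝒳 φ = eqToHom (congrArg Comma.left (IsHomLift.domain_eq 𝒳.p f φ)) ≫ f.left ≫
      eqToHom (congrArg Comma.left (IsHomLift.codomain_eq 𝒳.p f φ)).symm := by
  have e := congrArg (fun k => k.left) (IsHomLift.fac' 𝒳.p f φ)
  simpa [bmap] using e

section Cover

variable {𝒜 : AlgSt.Cat S}

/-- Every affine object is covered by an affine object mapping to a smooth surjective chart. -/
theorem exists_cover_to_chart (h₀ : FibCat.IsFibGrpd 𝒜.p) {U : Over S} {x : FibCat.overCat U ⥤ᵇ 𝒜}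
    (hsm : AlgSt.RepByAlgSpWith (AlgSp.LocP @Smooth) x) (hsu : AlgSt.RepByAlgSpWith AlgSp.IsSurjectiveMor x)
    (z : 𝒜.obj) [IsAffine (sch 𝒜 z)] :
    ∃ (z' : 𝒜.obj) (_ : IsAffine (sch 𝒜 z')) (π : z' ⟶ z), FF π ∧ Nonempty (z' ⟶ x.obj (Over.mk (𝟙 U))) := by
  haveI := FC16.isFibered h₀
  let y : FibCat.overCat (𝒜.p.obj z) ⥤ᵇ 𝒜 := FC16.ofObj (rfl : 𝒜.p.obj z = 𝒜.p.obj z)
  obtain ⟨V, k, v, hks, hksu, ⟨i⟩⟩ := StAlg16.exists_smooth_lift h₀ (overCat_isFibGrpd U) hsm hsu _ y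
  let a : Over (𝒜.p.obj z) := (Over.map k).obj (Over.mk (𝟙 V))
  let z₁ : 𝒜.obj := y.obj a
  let φ : z₁ ⟶ z := IsPreFibered.pullbackMap (rfl : 𝒜.p.obj z = 𝒜.p.obj z) a.hom
  haveI hφ : 𝒜.p.IsHomLift a.hom φ := (IsPreFibered.pullbackMap.IsCartesian (rfl : 𝒜.p.obj z = 𝒜.p.obj z) a.hom).toIsHomLift
  have hb : bmap 𝒜 φ = eqToHom (congrArg Comma.left (y.w_obj a)) ≫ k.left := by
    rw [bmap_of_lift a.hom φ]
    show eqToHom _ ≫ (𝟙 V ≫ k).left ≫ eqToHom _ = _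
    simp
  let ψ : z₁ ⟶ x.obj (Over.mk (𝟙 U)) :=
    (FC16.appIso i (Over.mk (𝟙 V))).hom ≫ x.map (FC16.toTerm (v.obj (Over.mk (𝟙 V))))
  haveI : Smooth (bmap 𝒜 φ) := by rw [hb]; infer_instance
  haveI : Surjective (bmap 𝒜 φ) := by rw [hb]; infer_instance
  obtain ⟨W, j, hW, hfl, hsur⟩ := exists_affine_refinement (bmap 𝒜 φ)
  obtain ⟨z', χ, e, he⟩ := exists_lift_to h₀ z₁ j
  haveI := hW; haveI := hfl; haveI := hsur
  refine ⟨z', IsAffine.of_isIso e.hom, χ ≫ φ, ⟨?_, ?_⟩, ⟨χ ≫ ψ⟩⟩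
  · rw [bmap_comp, he, Category.assoc]
    infer_instance
  · rw [bmap_comp, he, Category.assoc]
    infer_instance

end Cover

section Transport

variable {ℬ : BasedCategory.{v', w'} (Over S)} (Φ : 𝒳 ⥤ᵇ ℬ)

theorem bmap_mapB {ξ' ξ : 𝒳.obj} (φ : ξ' ⟶ ξ) :
    bmap ℬ (Φ.map φ) = eqToHom (sch_obj_eq Φ ξ') ≫ bmap 𝒳 φ ≫ eqToHom (sch_obj_eq Φ ξ).symm := by
  have h := bmap_map_comm Φ φ (g := bmap 𝒳 φ) rfl
  rw [← Category.assoc, ← h]
  simp

theorem FF.map {ξ' ξ : 𝒳.obj} {φ : ξ' ⟶ ξ} (h : FF φ) : FF (Φ.map φ) := by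
  haveI := h.1
  haveI := h.2
  unfold FF
  rw [bmap_mapB]
  exact ⟨inferInstance, inferInstance⟩

theorem FF.comp {ξ'' ξ' ξ : 𝒳.obj} {π : ξ'' ⟶ ξ'} {φ : ξ' ⟶ ξ} (h : FF π) (h' : FF φ) : FF (π ≫ φ) := by
  haveI := h.1
  haveI := h.2
  haveI := h'.1
  haveI := h'.2
  unfold FF
  rw [bmap_comp]
  exact ⟨inferInstance, inferInstance⟩

theorem FF.of_isIso {ξ' ξ : 𝒳.obj} (φ : ξ' ⟶ ξ) [IsIso φ] : FF φ := by
  haveI : IsIso (bmap 𝒳 φ) := ⟨bmap 𝒳 (inv φ), by rw [← bmap_comp, IsIso.hom_inv_id, bmap_id],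
    by rw [← bmap_comp, IsIso.inv_hom_id, bmap_id]⟩
  exact ⟨inferInstance, inferInstance⟩

theorem isAffine_map (ξ : 𝒳.obj) [IsAffine (sch 𝒳 ξ)] : IsAffine (sch ℬ (Φ.obj ξ)) :=
  IsAffine.of_isIso (eqToHom (sch_obj_eq Φ ξ))

theorem isAffine_of_map (ξ : 𝒳.obj) [IsAffine (sch ℬ (Φ.obj ξ))] : IsAffine (sch 𝒳 ξ) :=
  IsAffine.of_isIso (eqToHom (sch_obj_eq Φ ξ).symm)

theorem bmap_isAffine_of_iso {ξ' ξ : 𝒳.obj} (e : ξ' ≅ ξ) [IsAffine (sch 𝒳 ξ)] : IsAffine (sch 𝒳 ξ') := by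
  haveI : IsIso (bmap 𝒳 e.hom) := ⟨bmap 𝒳 e.inv, by rw [← bmap_comp, Iso.hom_inv_id, bmap_id],
    by rw [← bmap_comp, Iso.inv_hom_id, bmap_id]⟩
  exact IsAffine.of_isIso (bmap 𝒳 e.hom)

/-- Presentations are transported along full essentially surjective functors. -/
theorem Pres.map (P : Pres 𝒳) [Φ.toFunctor.Full] [Φ.toFunctor.EssSurj] : Nonempty (Pres ℬ) := by
  haveI := isAffine_map Φ P.b
  haveI := isAffine_map Φ P.c
  refine ⟨{ b := Φ.obj P.b, c := Φ.obj P.c, p := Φ.map P.p, q := Φ.map P.q, cover := ?_, pairs := ?_ }⟩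
  · intro η _
    let e := Φ.toFunctor.objObjPreimageIso η
    haveI := bmap_isAffine_of_iso e
    haveI : IsAffine (sch 𝒳 (Φ.toFunctor.objPreimage η)) := isAffine_of_map Φ _
    obtain ⟨ξ', _, π, hπ, ⟨r⟩⟩ := P.cover (Φ.toFunctor.objPreimage η)
    exact ⟨Φ.obj ξ', isAffine_map Φ ξ', Φ.map π ≫ e.hom, (hπ.map Φ).comp (FF.of_isIso e.hom), ⟨Φ.map r⟩⟩
  · intro η _ r s
    let e := Φ.toFunctor.objObjPreimageIso η
    haveI := bmap_isAffine_of_iso e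
    haveI : IsAffine (sch 𝒳 (Φ.toFunctor.objPreimage η)) := isAffine_of_map Φ _
    obtain ⟨r', hr⟩ := Φ.toFunctor.map_surjective (e.hom ≫ r)
    obtain ⟨s', hs⟩ := Φ.toFunctor.map_surjective (e.hom ≫ s)
    obtain ⟨ξ', _, π, t, hπ, h₁, h₂⟩ := P.pairs r' s'
    refine ⟨Φ.obj ξ', isAffine_map Φ ξ', Φ.map π ≫ e.hom, Φ.map t, (hπ.map Φ).comp (FF.of_isIso e.hom), ?_, ?_⟩
    · rw [Category.assoc, ← hr]
      exact (Φ.toFunctor.map_comp _ _).symm.trans ((congrArg Φ.toFunctor.map h₁).trans (Φ.toFunctor.map_comp _ _))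
    · rw [Category.assoc, ← hs]
      exact (Φ.toFunctor.map_comp _ _).symm.trans ((congrArg Φ.toFunctor.map h₂).trans (Φ.toFunctor.map_comp _ _))

end Transport

section OfCharts

variable {𝒜 : AlgSt.Cat S}

theorem bmap_chart {U : Over S} (x : FibCat.overCat U ⥤ᵇ 𝒜) {a' a : Over U} (g : a' ⟶ a) :
    bmap 𝒜 (x.map g) = eqToHom (sch_obj_eq x a') ≫ g.left.left ≫ eqToHom (sch_obj_eq x a).symm :=
  bmap_mapB x g

theorem hom_term_ext {U : Over S} {a : Over U} (f g : a ⟶ Over.mk (𝟙 U)) : f = g := by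
  apply Over.OverMorphism.ext
  have h₁ : f.left ≫ 𝟙 U = a.hom := Over.w f
  have h₂ : g.left ≫ 𝟙 U = a.hom := Over.w g
  simpa using h₁.trans h₂.symm

/-- A presentation from a chart and a chart of its relations. -/
theorem exists_pres_of_charts (h₀ : FibCat.IsFibGrpd 𝒜.p) {U W : Over S} [IsAffine U.left] [IsAffine W.left]
    {x : FibCat.overCat U ⥤ᵇ 𝒜}
    (hsm : AlgSt.RepByAlgSpWith (AlgSp.LocP @Smooth) x) (hsu : AlgSt.RepByAlgSpWith AlgSp.IsSurjectiveMor x)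
    {w : FibCat.overCat W ⥤ᵇ FibCat.fp x x}
    (hwm : AlgSt.RepByAlgSpWith (AlgSp.LocP @Smooth) w) (hwu : AlgSt.RepByAlgSpWith AlgSp.IsSurjectiveMor w) :
    Nonempty (Pres 𝒜) := by
  let b : 𝒜.obj := x.obj (Over.mk (𝟙 U))
  let ρc := w.obj (Over.mk (𝟙 W))
  let c : 𝒜.obj := x.obj ρc.obj.fst
  haveI : IsAffine (sch (FibCat.overCat U) (Over.mk (𝟙 U))) := ‹IsAffine U.left›
  haveI : IsAffine (sch (FibCat.overCat W) (Over.mk (𝟙 W))) := ‹IsAffine W.left›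
  haveI : IsAffine (sch 𝒜 b) := isAffine_map x _
  haveI hρ : IsAffine (sch (FibCat.fp x x) ρc) := isAffine_map w _
  haveI : IsAffine (sch (FibCat.overCat U) ρc.obj.fst) := hρ
  haveI : IsAffine (sch 𝒜 c) := isAffine_map x _
  refine ⟨{ b := b, c := c, p := x.map (FC16.toTerm ρc.obj.fst),
            q := ρc.obj.iso.hom ≫ x.map (FC16.toTerm ρc.obj.snd), cover := ?_, pairs := ?_ }⟩
  · intro ξ _
    exact exists_cover_to_chart h₀ hsm hsu ξ
  · intro z _ r s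
    have obj : ∀ (r : z ⟶ b), ∃ (a : Over U) (e : x.obj a ≅ z), a.left = 𝒜.p.obj z ∧
        e.hom ≫ r = x.map (FC16.toTerm a) ∧ 𝒜.p.IsHomLift (𝟙 (𝒜.p.obj z)) e.hom := by
      intro r
      let a : Over U := Over.mk (𝒜.p.map r ≫ eqToHom (x.w_obj (Over.mk (𝟙 U))))
      have hg : eqToHom (sch_obj_eq x a) ≫ bmap 𝒜 r = bmap 𝒜 (x.map (FC16.toTerm a)) := by
        rw [bmap_chart]
        simp [a, FC16.toTerm]
      obtain ⟨k, hk, hb⟩ := exists_factor h₀ r (x.map (FC16.toTerm a)) (eqToHom (sch_obj_eq x a)) hg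
      haveI hlift : 𝒜.p.IsHomLift (𝟙 (𝒜.p.obj z)) k := by
        refine IsHomLift.of_fac' 𝒜.p _ _ (x.w_obj a) rfl ?_
        apply Over.OverMorphism.ext
        simp only [Over.comp_left, Over.eqToHom_left, Over.id_left]
        refine hb.trans ?_
        simp
      haveI : IsIso k := FC16.isIso_of_isHomLift h₀ (𝟙 (𝒜.p.obj z)) k
      exact ⟨a, asIso k, rfl, hk, hlift⟩
    obtain ⟨a₁, e₁, ha₁, he₁, hl₁⟩ := obj r
    obtain ⟨a₂, e₂, ha₂, he₂, hl₂⟩ := obj s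
    haveI := hl₁; haveI := hl₂
    have hp₁ : (FibCat.overCat U).p.obj a₁ = 𝒜.p.obj z := ha₁
    have hl : 𝒜.p.IsHomLift (𝟙 (𝒜.p.obj z)) (e₁ ≪≫ e₂.symm).hom := by
      show 𝒜.p.IsHomLift (𝟙 (𝒜.p.obj z)) (e₁.hom ≫ e₂.inv)
      infer_instance
    let ρz : (FibCat.fp x x).obj := fpObj a₁ a₂ (e₁ ≪≫ e₂.symm) hp₁ hl
    haveI : IsAffine (𝒜.p.obj z).left := ‹IsAffine (sch 𝒜 z)›
    haveI : IsAffine (sch (FibCat.fp x x) ρz) := IsAffine.of_isIso (eqToHom (congrArg Comma.left ha₁))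
    have hR : FibCat.IsFibGrpd (FibCat.fp x x).p :=
      fp_isFibGrpd (overCat_isFibGrpd U) (overCat_isFibGrpd U) h₀ x x
    obtain ⟨ρ', hρ', π, hπ, ⟨k⟩⟩ := exists_cover_to_chart hR hwm hwu ρz
    haveI : IsAffine (sch (FibCat.overCat U) ρ'.obj.fst) := hρ'
    have hπ' : FF (𝒳 := FibCat.overCat U) π.hom.fst := hπ
    refine ⟨x.obj ρ'.obj.fst, isAffine_map x _, x.map π.hom.fst ≫ e₁.hom, x.map k.hom.fst,
      (hπ'.map x).comp (FF.of_isIso e₁.hom), ?_, ?_⟩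
    · rw [Category.assoc, he₁]
      refine (x.toFunctor.map_comp _ _).symm.trans (Eq.trans ?_ (x.toFunctor.map_comp _ _))
      congr 1
      exact hom_term_ext _ _
    · have h₂ : e₂.inv ≫ x.map (FC16.toTerm a₂) = s := by rw [← he₂, Iso.inv_hom_id_assoc]
      have h₃ : x.map π.hom.fst ≫ e₁.hom ≫ e₂.inv = ρ'.obj.iso.hom ≫ x.map π.hom.snd := π.hom.w
      have h₄ : x.map k.hom.fst ≫ ρc.obj.iso.hom = ρ'.obj.iso.hom ≫ x.map k.hom.snd := k.hom.w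
      rw [← Category.assoc, h₄, Category.assoc, ← h₂, Category.assoc, ← Category.assoc e₁.hom,
        ← Category.assoc (x.map π.hom.fst), h₃, Category.assoc]
      congr 1
      refine (x.toFunctor.map_comp _ _).symm.trans (Eq.trans ?_ (x.toFunctor.map_comp _ _))
      congr 1
      exact hom_term_ext _ _

end OfCharts

end Groth.Agent.StQC14
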