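import Groth.Agent.Lib.StQC14.Descent

/-!
# Morphisms annihilating all global homomorphisms after a flat base change
-/

universe w' v' w v u

open CategoryTheory CategoryTheory.Functor CategoryTheory.Limits AlgebraicGeometry Opposite

set_option linter.style.haveILetI false
set_option linter.unusedSectionVars false
set_option backward.isDefEq.respectTransparency false
set_option backward.isDefEq.respectTransparency.types false

namespace Groth.Agent.StQC14

open StMod

variable {S : Scheme.{u}} {𝒳 : BasedCategory.{v, w} (Over S)}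

/-- The category over `(Sch/S)` of a category mapping to `𝒳`. -/
abbrev resCat {D : Type w'} [Category.{v'} D] (T : D ⥤ 𝒳.obj) : BasedCategory.{v', w'} (Over S) :=
  BasedCategory.ofFunctor (T ⋙ 𝒳.p)

/-- The tautological functor. -/
abbrev resIncl {D : Type w'} [Category.{v'} D] (T : D ⥤ 𝒳.obj) : resCat T ⥤ᵇ 𝒳 := ⟨T, rfl⟩

theorem comap_mapTop {D : Type w'} [Category.{v'} D] (T : D ⥤ 𝒳.obj) (G : Mod 𝒳) {d' d : D} (φ : d' ⟶ d)
    (x : Γ(G.obj (T.obj d), ⊤)) :
    (Mod.comap (resIncl T) G).mapTop (ξ' := d') (ξ := d) φ x = G.mapTop (T.map φ) x := by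
  show ((Mod.comap (resIncl T) G).map φ rfl).app ⊤ x = _
  rw [Mod.comap_map]
  erw [castMap_rfl_self]
  rfl

section Lin

variable {F G : Mod 𝒳}

/-- The map on global sections of a morphism. -/
noncomputable def appL (u : F ⟶ G) (ξ : 𝒳.obj) : Lin F G ξ where
  toFun x := (u.app ξ).app ⊤ x
  map_add' x y := _root_.map_add _ x y
  map_smul' r x := Scheme.Modules.Hom.app_smul _ r x

@[simp] theorem appL_apply (u : F ⟶ G) (ξ : 𝒳.obj) (x : Γ(F.obj ξ, ⊤)) : appL u ξ x = (u.app ξ).app ⊤ x := rfl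

variable (hF : isQCoh 𝒳 F) (hG : isQCoh 𝒳 G) {ξ' ξ : 𝒳.obj} [IsAffine (sch 𝒳 ξ)] [IsAffine (sch 𝒳 ξ')]

theorem push_appL (φ : ξ' ⟶ ξ) (u : F ⟶ G) : push hF φ (appL u ξ) = appL u ξ' :=
  (eq_push hF _ _ _ fun x => (Mod.mapTop_app u φ x).symm).symm

/-- Base change of linear maps, semilinearly. -/
noncomputable def pushL (φ : ξ' ⟶ ξ) : Lin F G ξ →ₛₗ[(bmap 𝒳 φ).appTop.hom] Lin F G ξ' where
  toFun := push hF φ
  map_add' h k := (eq_push hF _ _ _ fun x => by
    rw [LinearMap.add_apply, LinearMap.add_apply, push_spec, push_spec, G.mapTop_add]).symm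
  map_smul' r h := (eq_push hF _ _ _ fun x => by
    rw [LinearMap.smul_apply, LinearMap.smul_apply, push_spec, G.mapTop_smul]).symm

@[simp] theorem pushL_apply (φ : ξ' ⟶ ξ) (h : Lin F G ξ) : pushL hF φ h = push hF φ h := rfl

include hG in
theorem isBC_pushL (φ : ξ' ⟶ ξ) (hfl : (bmap 𝒳 φ).appTop.hom.Flat)
    [Module.FinitePresentation Γ(sch 𝒳 ξ, ⊤) Γ(F.obj ξ, ⊤)] : IsBC (pushL (G := G) hF φ) :=
  isBC_hom (isBC_secL φ hF) (isBC_secL φ hG) hfl _ fun h x => push_spec hF φ h x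

end Lin

section Main

variable {A A' : Type u} [CommRing A] [CommRing A']

/-- If `u` kills every morphism from `E` then, after a flat base change, it kills every morphism
from `E` on the base change of the chart. -/
theorem comp_eq_zero_of_flat (h₀ : FibCat.IsFibGrpd 𝒳.p) (P : Pres 𝒳)
    {D : Type w'} [Category.{v'} D] (T : D ⥤ 𝒳.obj) (b' c' : D)
    [IsAffine (sch 𝒳 (T.obj b'))] [IsAffine (sch 𝒳 (T.obj c'))]
    (κb : T.obj b' ⟶ P.b) (κc : T.obj c' ⟶ P.c) (p' q' : c' ⟶ b')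
    (hp : T.map p' ≫ κb = κc ≫ P.p) (hq : T.map q' ≫ κb = κc ≫ P.q)
    {g : A →+* A'} (hg : g.Flat) (hfl : (bmap 𝒳 κb).appTop.hom.Flat) (hflc : (bmap 𝒳 κc).appTop.hom.Flat)
    {sB : A →+* Γ(sch 𝒳 P.b, ⊤)} {sC : A →+* Γ(sch 𝒳 P.c, ⊤)}
    {sB' : A' →+* Γ(sch 𝒳 (T.obj b'), ⊤)} {sC' : A' →+* Γ(sch 𝒳 (T.obj c'), ⊤)}
    (hsp : (bmap 𝒳 P.p).appTop.hom.comp sB = sC) (hsq : (bmap 𝒳 P.q).appTop.hom.comp sB = sC)
    (hsp' : (bmap 𝒳 (T.map p')).appTop.hom.comp sB' = sC')
    (hsq' : (bmap 𝒳 (T.map q')).appTop.hom.comp sB' = sC')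
    (hB : IsPushout (CommRingCat.ofHom sB) (CommRingCat.ofHom g) (bmap 𝒳 κb).appTop (CommRingCat.ofHom sB'))
    (hC : IsPushout (CommRingCat.ofHom sC) (CommRingCat.ofHom g) (bmap 𝒳 κc).appTop (CommRingCat.ofHom sC'))
    {E M N : Mod 𝒳} (hE : isQCoh 𝒳 E) (hM : isQCoh 𝒳 M)
    [Module.FinitePresentation Γ(sch 𝒳 P.b, ⊤) Γ(E.obj P.b, ⊤)]
    [Module.FinitePresentation Γ(sch 𝒳 P.c, ⊤) Γ(E.obj P.c, ⊤)]
    (u : M ⟶ N) (hu : ∀ φ : E ⟶ M, φ ≫ u = 0)
    (ψ : Mod.comap (resIncl T) E ⟶ Mod.comap (resIncl T) M) (x : Γ(E.obj (T.obj b'), ⊤)) :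
    (u.app (T.obj b')).app ⊤ ((ψ.app b').app ⊤ x) = 0 := by
  let D₀ : Lin E M P.b →+ Lin E M P.c :=
    (pushL hE P.p).toAddMonoidHom - (pushL hE P.q).toAddMonoidHom
  let D₁ : Lin E M (T.obj b') →+ Lin E M (T.obj c') :=
    (pushL hE (T.map p')).toAddMonoidHom - (pushL hE (T.map q')).toAddMonoidHom
  let ψb : Lin E M (T.obj b') :=
    { toFun := fun x => (ψ.app b').app ⊤ x
      map_add' := fun x y => _root_.map_add ((ψ.app b').app ⊤).hom x y
      map_smul' := fun r x => Scheme.Modules.Hom.app_smul (ψ.app b') r x }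
  have hψ : ∀ (π : c' ⟶ b') (z : Γ(E.obj (T.obj b'), ⊤)),
      (ψ.app c').app ⊤ (E.mapTop (T.map π) z) = M.mapTop (T.map π) ((ψ.app b').app ⊤ z) := by
    intro π z
    rw [← comap_mapTop T E π z, ← comap_mapTop T M π _]
    exact (Mod.mapTop_app (𝒳 := resCat T) ψ π z).symm
  let ψc : Lin E M (T.obj c') :=
    { toFun := fun x => (ψ.app c').app ⊤ x
      map_add' := fun x y => _root_.map_add ((ψ.app c').app ⊤).hom x y
      map_smul' := fun r x => Scheme.Modules.Hom.app_smul (ψ.app c') r x }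
  have hx : D₁ ψb = 0 := by
    show push hE (T.map p') ψb - push hE (T.map q') ψb = 0
    rw [sub_eq_zero, ← eq_push hE (T.map p') ψb ψc (hψ p'), ← eq_push hE (T.map q') ψb ψc (hψ q')]
  have hspan := mem_span_ker (κB := (bmap 𝒳 κb).appTop.hom) (κC := (bmap 𝒳 κc).appTop.hom) (fB := pushL hE κb) (fC := pushL hE κc) hg hB hC
    (isBC_pushL hE hM κb hfl) (isBC_pushL hE hM κc hflc) D₀
    (fun a h => by
      show pushL hE P.p (sB a • h) - pushL hE P.q (sB a • h) = sC a • (pushL hE P.p h - pushL hE P.q h)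
      rw [LinearMap.map_smulₛₗ, LinearMap.map_smulₛₗ, ← RingHom.comp_apply, hsp, ← RingHom.comp_apply, hsq,
        smul_sub])
    D₁
    (fun a h => by
      show pushL hE (T.map p') (sB' a • h) - pushL hE (T.map q') (sB' a • h) =
        sC' a • (pushL hE (T.map p') h - pushL hE (T.map q') h)
      rw [LinearMap.map_smulₛₗ, LinearMap.map_smulₛₗ, ← RingHom.comp_apply, hsp', ← RingHom.comp_apply, hsq',
        smul_sub])
    (fun h => by
      show push hE (T.map p') (push hE κb h) - push hE (T.map q') (push hE κb h) =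
        pushL hE κc (push hE P.p h - push hE P.q h)
      rw [_root_.map_sub, pushL_apply, pushL_apply, push_comp, push_comp, push_comp, push_comp, hp, hq])
    hx
  suffices key : ∀ v ∈ Submodule.span Γ(sch 𝒳 (T.obj b'), ⊤) (pushL hE κb '' {h | D₀ h = 0}), ∀ y,
      (u.app (T.obj b')).app ⊤ (v y) = 0 from key ψb hspan x
  intro v hv
  induction hv using Submodule.span_induction with
  | mem y hy =>
    intro x
    obtain ⟨h, hh, rfl⟩ := hy
    obtain ⟨φ, hφ⟩ := P.exists_hom h₀ hE hM h (sub_eq_zero.1 hh)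
    have h0 : ∀ y, (u.app P.b).app ⊤ (h y) = 0 := fun y => by
      have e := congrArg (fun v => (v.app P.b).app ⊤ y) (hu φ)
      simp only [Mod.comp_app, Mod.zero_app, Scheme.Modules.Hom.comp_app] at e
      rw [← hφ]
      exact e
    induction (isBC_secL κb hE).span x using Submodule.span_induction with
    | mem x hx =>
      obtain ⟨z, rfl⟩ := hx
      rw [secL_apply, pushL_apply, push_spec, ← Mod.mapTop_app, h0, N.mapTop_zero]
    | zero => simp
    | add a b _ _ ha hb => rw [_root_.map_add, _root_.map_add, ha, hb, add_zero]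
    | smul r a _ ha => rw [_root_.map_smul, Scheme.Modules.Hom.app_smul, ha, smul_zero]
  | zero => intro x; simp
  | add a b _ _ ha hb => intro x; rw [LinearMap.add_apply, _root_.map_add, ha x, hb x, add_zero]
  | smul r a _ ha => intro x; rw [LinearMap.smul_apply, Scheme.Modules.Hom.app_smul, ha x, smul_zero]

end Main

end Groth.Agent.StQC14
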