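import Groth.Agent.Lib.StQC14.FlatFun
import Groth.Agent.Lib.StQC14.Fib
import Groth.Agent.Lib.StQC14.Flat
import Groth.Agent.Lib.ModM1.Local
import Mathlib.Algebra.Module.Shrink

/-!
# Homomorphisms over the fibres of a functor, as data with flat base change
-/

universe w' v' w v u

open CategoryTheory CategoryTheory.Functor CategoryTheory.Limits AlgebraicGeometry Opposite TensorProduct

set_option linter.style.haveILetI false
set_option linter.unusedSectionVars false
set_option backward.isDefEq.respectTransparency false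
set_option backward.isDefEq.respectTransparency.types false

namespace Groth.Agent.StQC14

open StMod

section Kernel

variable {A A' B B' C C' : Type u} [CommRing A] [CommRing A'] [CommRing B] [CommRing B'] [CommRing C] [CommRing C']
  {g : A →+* A'} {sB : A →+* B} {sC : A →+* C} {sB' : A' →+* B'} {sC' : A' →+* C'} {κB : B →+* B'}
  {κC : C →+* C'}
  {HB HB' HC HC' : Type u} [AddCommGroup HB] [Module B HB] [AddCommGroup HB'] [Module B' HB']
  [AddCommGroup HC] [Module C HC] [AddCommGroup HC'] [Module C' HC']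
  {K K' : Type u} [AddCommGroup K] [Module A K] [AddCommGroup K'] [Module A' K']

/-- Kernels commute with flat base change. -/
theorem isBC_ker (hg : g.Flat)
    (hB : IsPushout (CommRingCat.ofHom sB) (CommRingCat.ofHom g) (CommRingCat.ofHom κB) (CommRingCat.ofHom sB'))
    (hC : IsPushout (CommRingCat.ofHom sC) (CommRingCat.ofHom g) (CommRingCat.ofHom κC) (CommRingCat.ofHom sC'))
    {fB : HB →ₛₗ[κB] HB'} (hfB : IsBC fB) {fC : HC →ₛₗ[κC] HC'} (hfC : IsBC fC)
    (D : HB →+ HC) (hD : ∀ a h, D (sB a • h) = sC a • D h)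
    (D' : HB' →+ HC') (hD' : ∀ a h, D' (sB' a • h) = sC' a • D' h)
    (hcomm : ∀ h, D' (fB h) = fC (D h))
    (ιK : K →ₛₗ[sB] HB) (hιK : Function.Injective ιK) (hrange : ∀ h, D h = 0 ↔ h ∈ Set.range ιK)
    (ιK' : K' →ₛₗ[sB'] HB') (hιK' : Function.Injective ιK') (hker' : ∀ k, D' (ιK' k) = 0)
    {f : K →ₛₗ[g] K'} (hf : ∀ k, ιK' (f k) = fB (ιK k)) : IsBC f := by
  obtain ⟨eB, heB⟩ := isBC_restrict hB hfB
  obtain ⟨eC, heC⟩ := isBC_restrict hC hfC
  letI := g.toAlgebra
  letI := Module.compHom HB sB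
  letI := Module.compHom HC sC
  letI := Module.compHom K' g
  haveI : IsScalarTower A A' K' := IsScalarTower.of_algebraMap_smul fun _ _ => rfl
  haveI : Module.Flat A A' := hg
  let Dl : HB →ₗ[A] HC := { toFun := D, map_add' := D.map_add, map_smul' := hD }
  let il : K →ₗ[A] HB :=
    { toFun := fun x => ιK x, map_add' := fun x y => ιK.map_add x y, map_smul' := fun a x => ιK.map_smulₛₗ a x }
  let fl : K →ₗ[A] K' :=
    { toFun := fun x => f x, map_add' := fun x y => f.map_add x y, map_smul' := fun a x => f.map_smulₛₗ a x }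
  have hex : Function.Exact il Dl := fun h => hrange h
  let L : A' ⊗[A] K →ₗ[A'] K' := TensorProduct.AlgebraTensorModule.lift ((LinearMap.lsmul A' (K →ₗ[A] K')).flip fl)
  have hL : ∀ a k, L (a ⊗ₜ k) = a • f k := fun a k => rfl
  have key : ∀ x, ιK' (L x) = eB (il.lTensor A' x) := by
    intro x
    induction x using TensorProduct.induction_on with
    | zero => simp
    | tmul a k =>
      rw [hL, ιK'.map_smulₛₗ, hf, LinearMap.lTensor_tmul, heB]
      rfl
    | add a b ha hb => simp only [_root_.map_add, ha, hb]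
  have keyD : ∀ z, D' (eB z) = eC (Dl.lTensor A' z) := by
    intro z
    induction z using TensorProduct.induction_on with
    | zero => simp
    | tmul a h =>
      rw [heB, hD', hcomm, LinearMap.lTensor_tmul, heC]
      rfl
    | add a b ha hb => simp only [_root_.map_add, ha, hb]
  refine IsBaseChange.of_equiv (LinearEquiv.ofBijective L ⟨(injective_iff_map_eq_zero L).2 fun x hx => ?_,
    fun y => ?_⟩) fun m => (hL 1 m).trans (one_smul _ _)
  · refine Module.Flat.lTensor_preserves_injective_linearMap il hιK ?_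
    refine eB.injective ?_
    rw [← key, hx, _root_.map_zero, _root_.map_zero, _root_.map_zero]
  · obtain ⟨z, hz⟩ := eB.surjective (ιK' y)
    obtain ⟨x, rfl⟩ := (Module.Flat.lTensor_exact A' hex z).1 (eC.injective (by
      rw [← keyD, hz, hker', _root_.map_zero]))
    exact ⟨x, hιK' ((key x).trans hz)⟩

end Kernel

variable {S : Scheme.{u}} {𝒳 : BasedCategory.{v, w} (Over S)} {𝒴 : BasedCategory.{v', w'} (Over S)}

/-- The morphism of schemes under a morphism to an object of the target. -/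
abbrev st (h : 𝒳 ⥤ᵇ 𝒴) {x : 𝒳.obj} {y : 𝒴.obj} (α : h.obj x ⟶ y) : sch 𝒳 x ⟶ sch 𝒴 y := (baseOver h x α).left

theorem bmap_comp_st (h : 𝒳 ⥤ᵇ 𝒴) {x' x : 𝒳.obj} {y : 𝒴.obj} (k : x' ⟶ x) {α : h.obj x ⟶ y} {α' : h.obj x' ⟶ y}
    (e : h.map k ≫ α = α') : bmap 𝒳 k ≫ st h α = st h α' := by
  subst e
  exact bmap_comp_baseOver_left h k α

theorem st_comp (h : 𝒳 ⥤ᵇ 𝒴) {x : 𝒳.obj} {y' y : 𝒴.obj} (α : h.obj x ⟶ y') (φ : y' ⟶ y) :
    st h (α ≫ φ) = st h α ≫ bmap 𝒴 φ := by
  show (baseOver h x (α ≫ φ)).left = _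
  rw [baseOver_comp]
  rfl

theorem bmap_eq_st (h : 𝒳 ⥤ᵇ 𝒴) {x : 𝒳.obj} {y : 𝒴.obj} (α : h.obj x ⟶ y) :
    bmap 𝒴 α = eqToHom (sch_obj_eq h x) ≫ st h α := by
  show _ = eqToHom _ ≫ (eqToHom (h.w_obj x).symm ≫ 𝒴.p.map α).left
  simp [bmap]

theorem appTop_comp_apply {X Y Z : Scheme.{u}} {f : X ⟶ Y} {g : Y ⟶ Z} {k : X ⟶ Z} (e : f ≫ g = k) (s : Γ(Z, ⊤)) :
    f.appTop (g.appTop s) = k.appTop s := by
  subst e
  rfl

/-- A functor with presented fibres over affine objects. -/
structure HData (h : 𝒳 ⥤ᵇ 𝒴) where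
  grpdX : FibCat.IsFibGrpd 𝒳.p
  grpdY : FibCat.IsFibGrpd 𝒴.p
  Q : ∀ (y : 𝒴.obj) [IsAffine (sch 𝒴 y)], Pres (fibCat h y)

/-- An affine object over an object of the target. -/
structure HTst (h : 𝒳 ⥤ᵇ 𝒴) (y : 𝒴.obj) where
  x : 𝒳.obj
  [aff : IsAffine (sch 𝒳 x)]
  α : h.obj x ⟶ y

attribute [instance] HTst.aff

variable {h : 𝒳 ⥤ᵇ 𝒴}

/-- Functions on the target acting on an object over it. -/
noncomputable abbrev HTst.sc {y : 𝒴.obj} (T : HTst h y) : Γ(sch 𝒴 y, ⊤) →+* Γ(sch 𝒳 T.x, ⊤) :=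
  (st h T.α).appTop.hom

variable (D : HData h) (E M : QCoh 𝒳)

/-- The components of a family of homomorphisms. -/
def HCmp (y : 𝒴.obj) (T : HTst h y) : Type u := Lin E.obj M.obj T.x

noncomputable instance (y : 𝒴.obj) (T : HTst h y) : AddCommGroup (HCmp E M y T) :=
  inferInstanceAs (AddCommGroup (Lin E.obj M.obj T.x))

noncomputable instance (y : 𝒴.obj) (T : HTst h y) : Module Γ(sch 𝒴 y, ⊤) (HCmp E M y T) :=
  Module.compHom (Lin E.obj M.obj T.x) T.sc

/-- Natural families of homomorphisms over an object. -/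
noncomputable def hfam (h : 𝒳 ⥤ᵇ 𝒴) (y : 𝒴.obj) : Submodule Γ(sch 𝒴 y, ⊤) (∀ T : HTst h y, HCmp E M y T) where
  carrier := {l | ∀ (T T' : HTst h y) (k : T'.x ⟶ T.x), h.map k ≫ T.α = T'.α →
    pushL (G := M.obj) E.property k (l T) = l T'}
  zero_mem' := fun T T' k _ => _root_.map_zero (pushL (G := M.obj) E.property k)
  add_mem' := fun {a b} ha hb T T' k e => (_root_.map_add (pushL (G := M.obj) E.property k) (a T) (b T)).trans
    (congr_arg₂ (· + ·) (ha T T' k e) (hb T T' k e))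
  smul_mem' := fun s a ha T T' k e =>
    ((pushL (G := M.obj) E.property k).map_smulₛₗ _ _).trans
      (congr_arg₂ (· • ·) (appTop_comp_apply (bmap_comp_st h k e) s) (ha T T' k e))

/-- Natural families of homomorphisms over an object. -/
abbrev HFam (h : 𝒳 ⥤ᵇ 𝒴) (y : 𝒴.obj) : Type (max w v' u) := ↥(hfam E M h y)

variable {E M} {y y' y'' : 𝒴.obj}

theorem HFam.ext {l l' : HFam E M h y} (e : ∀ T, l.1 T = l'.1 T) : l = l' := Subtype.ext (funext e)

theorem HFam.nat (l : HFam E M h y) (T T' : HTst h y) (k : T'.x ⟶ T.x) (e : h.map k ≫ T.α = T'.α) :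
    push E.property k (show Lin E.obj M.obj T.x from l.1 T) = l.1 T' :=
  l.2 T T' k e

theorem HFam.congr (l : HFam E M h y) {x : 𝒳.obj} [IsAffine (sch 𝒳 x)] {α α' : h.obj x ⟶ y} (e : α = α') :
    l.1 ⟨x, α⟩ = l.1 ⟨x, α'⟩ := by
  subst e
  rfl

/-- Restriction of families. -/
noncomputable def hMap (φ : y' ⟶ y) : HFam E M h y →ₛₗ[(bmap 𝒴 φ).appTop.hom] HFam E M h y' where
  toFun l := ⟨fun T => l.1 ⟨T.x, T.α ≫ φ⟩, fun T T' k e =>
    l.2 ⟨T.x, T.α ≫ φ⟩ ⟨T'.x, T'.α ≫ φ⟩ k (by rw [← Category.assoc, e])⟩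
  map_add' _ _ := rfl
  map_smul' s l := HFam.ext fun T =>
    congrArg (fun c => c • (show Lin E.obj M.obj T.x from l.1 ⟨T.x, T.α ≫ φ⟩))
      (appTop_comp_apply (st_comp h T.α φ).symm s).symm

theorem hMap_apply (φ : y' ⟶ y) (l : HFam E M h y) (T : HTst h y') :
    (hMap φ l).1 T = l.1 ⟨T.x, T.α ≫ φ⟩ := rfl

section Chart

variable [IsAffine (sch 𝒴 y)]

theorem isAffine_fibLeft (x : (fibCat h y).obj) [IsAffine (sch (fibCat h y) x)] : IsAffine (sch 𝒳 x.left) :=
  ‹IsAffine (sch (fibCat h y) x)›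

/-- The test object of an object of the category over `y`. -/
abbrev fTst (x : (fibCat h y).obj) [IsAffine (sch (fibCat h y) x)] : HTst h y :=
  @HTst.mk _ _ _ h y x.left (isAffine_fibLeft x) x.hom

include D in
theorem HFam.eq_of_chart {l l' : HFam E M h y} (e : l.1 (fTst (D.Q y).b) = l'.1 (fTst (D.Q y).b)) : l = l' := by
  refine HFam.ext fun T => ?_
  let xT : (fibCat h y).obj := CostructuredArrow.mk (S := h.toFunctor) T.α
  haveI : IsAffine (sch (fibCat h y) xT) := T.aff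
  haveI : IsAffine (sch 𝒳 xT.left) := T.aff
  obtain ⟨x', hx', π, hπ, ⟨r⟩⟩ := (D.Q y).cover xT
  haveI := hx'
  haveI : IsAffine (sch 𝒳 x'.left) := hx'
  haveI : IsAffine (sch 𝒳 (D.Q y).b.left) := isAffine_fibLeft (D.Q y).b
  refine push_injective E.property M.property (show FF (𝒳 := 𝒳) π.left from hπ) ?_
  refine (l.nat T (fTst x') π.left (CostructuredArrow.w π)).trans
    (Eq.trans ?_ (l'.nat T (fTst x') π.left (CostructuredArrow.w π)).symm)
  rw [← l.nat (fTst (D.Q y).b) (fTst x') r.left (CostructuredArrow.w r),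
    ← l'.nat (fTst (D.Q y).b) (fTst x') r.left (CostructuredArrow.w r)]
  exact congrArg (push E.property r.left) e

include D in
theorem small_hfam : Small.{u} (HFam E M h y) :=
  small_of_injective (f := fun l : HFam E M h y => (show Lin E.obj M.obj (D.Q y).b.left from l.1 (fTst (D.Q y).b)))
    fun _ _ e => HFam.eq_of_chart D e

end Chart

theorem push_comap_fibFst {x' x : (fibCat h y).obj} [IsAffine (sch (fibCat h y) x')] [IsAffine (sch (fibCat h y) x)]
    [IsAffine (sch 𝒳 x'.left)] [IsAffine (sch 𝒳 x.left)]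
    (φ : x' ⟶ x) (l : Lin E.obj M.obj x.left) (hq : isQCoh (fibCat h y) (Mod.comap (fibFst h y) E.obj)) :
    push (G := Mod.comap (fibFst h y) M.obj) hq φ l = push (G := M.obj) E.property φ.left l := by
  haveI : IsAffine (sch 𝒳 ((CostructuredArrow.proj h.toFunctor y).obj x')) := ‹IsAffine (sch 𝒳 x'.left)›
  haveI : IsAffine (sch 𝒳 ((CostructuredArrow.proj h.toFunctor y).obj x)) := ‹IsAffine (sch 𝒳 x.left)›
  refine (eq_push (G := Mod.comap (fibFst h y) M.obj) hq φ (show Lin (Mod.comap (fibFst h y) E.obj)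
    (Mod.comap (fibFst h y) M.obj) x from l) (show Lin (Mod.comap (fibFst h y) E.obj)
    (Mod.comap (fibFst h y) M.obj) x' from push (G := M.obj) E.property φ.left l) fun z => ?_).symm
  have e₁ := comap_mapTop (𝒳 := 𝒳) (CostructuredArrow.proj h.toFunctor y) E.obj φ z
  have e₂ := comap_mapTop (𝒳 := 𝒳) (CostructuredArrow.proj h.toFunctor y) M.obj φ (l z)
  exact (congrArg (push (G := M.obj) E.property φ.left l) e₁).trans
    ((push_spec E.property φ.left l z).trans e₂.symm)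

variable (E M) in
/-- The families extending a homomorphism on the chart. -/
theorem exists_hfam [IsAffine (sch 𝒴 y)] (ψ : Lin E.obj M.obj (D.Q y).b.left)
    [IsAffine (sch 𝒳 (D.Q y).b.left)] [IsAffine (sch 𝒳 (D.Q y).c.left)]
    (hψ : push E.property (D.Q y).p.left ψ = push E.property (D.Q y).q.left ψ) :
    ∃ l : HFam E M h y, l.1 (fTst (D.Q y).b) = ψ := by
  have hE := isQCoh_comap (f := fibFst h y) E.property
  have hM := isQCoh_comap (f := fibFst h y) M.property
  obtain ⟨u, hu⟩ := (D.Q y).exists_hom (fibCat_isFibGrpd D.grpdX h y) hE hM ψ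
    (by rw [push_comap_fibFst, push_comap_fibFst]; exact hψ)
  let xT : HTst h y → (fibCat h y).obj := fun T => CostructuredArrow.mk (S := h.toFunctor) T.α
  have hxT : ∀ T, IsAffine (sch (fibCat h y) (xT T)) := fun T => T.aff
  refine ⟨⟨fun T => (show Lin E.obj M.obj T.x from appL u (xT T)), fun T T' k e => ?_⟩, LinearMap.ext hu⟩
  haveI := hxT T; haveI := hxT T'
  haveI : IsAffine (sch 𝒳 (xT T).left) := T.aff
  haveI : IsAffine (sch 𝒳 (xT T').left) := T'.aff
  let φ : xT T' ⟶ xT T := CostructuredArrow.homMk k e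
  exact (push_comap_fibFst φ _ hE).symm.trans (push_appL hE φ u)

section BaseChange

variable (φ : y' ⟶ y)

include D in
/-- Base change of objects over a morphism of the target. -/
theorem exists_bc [IsAffine (sch 𝒴 y)] [IsAffine (sch 𝒴 y')] {x : 𝒳.obj} [IsAffine (sch 𝒳 x)] (α : h.obj x ⟶ y) :
    ∃ (x' : 𝒳.obj) (κ : x' ⟶ x) (α' : h.obj x' ⟶ y'), IsAffine (sch 𝒳 x') ∧ h.map κ ≫ α = α' ≫ φ ∧
      IsPullback (bmap 𝒳 κ) (st h α') (st h α) (bmap 𝒴 φ) := by
  obtain ⟨x', κ, e, he⟩ := exists_lift_to D.grpdX x (pullback.fst (st h α) (bmap 𝒴 φ))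
  haveI := IsAffine.of_isIso e.hom
  let g : sch 𝒴 (h.obj x') ⟶ sch 𝒴 y' := eqToHom (sch_obj_eq h x') ≫ e.hom ≫ pullback.snd (st h α) (bmap 𝒴 φ)
  have hg : g ≫ bmap 𝒴 φ = bmap 𝒴 (h.map κ ≫ α) := by
    rw [bmap_eq_st h (h.map κ ≫ α), ← bmap_comp_st h κ rfl, he]
    simp only [g, Category.assoc]
    rw [pullback.condition]
  obtain ⟨α', hα', hb⟩ := exists_factor D.grpdY φ (h.map κ ≫ α) g hg
  have hs : st h α' = e.hom ≫ pullback.snd (st h α) (bmap 𝒴 φ) := by
    rw [← cancel_epi (eqToHom (sch_obj_eq h x')), ← bmap_eq_st, hb]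
  refine ⟨x', κ, α', inferInstance, hα'.symm, ?_⟩
  exact (IsPullback.of_hasPullback (st h α) (bmap 𝒴 φ)).of_iso e.symm (Iso.refl _) (Iso.refl _) (Iso.refl _)
    (by simp [he]) (by simp [hs]) (by simp) (by simp)

include D in
theorem exists_bc_factor {x x' x'' : 𝒳.obj} {α : h.obj x ⟶ y} {κ : x' ⟶ x} {α' : h.obj x' ⟶ y'}
    (hc : h.map κ ≫ α = α' ≫ φ) (sq : IsPullback (bmap 𝒳 κ) (st h α') (st h α) (bmap 𝒴 φ))
    (k : x'' ⟶ x) (β : h.obj x'' ⟶ y') (e : h.map k ≫ α = β ≫ φ) :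
    ∃ s : x'' ⟶ x', s ≫ κ = k ∧ h.map s ≫ α' = β := by
  have hw : bmap 𝒳 k ≫ st h α = st h β ≫ bmap 𝒴 φ := (bmap_comp_st h k e).trans (st_comp h β φ)
  obtain ⟨s, hs, hb⟩ := exists_factor D.grpdX κ k (sq.lift _ _ hw) (sq.lift_fst _ _ hw)
  refine ⟨s, hs, factor_unique D.grpdY φ ?_ ?_⟩
  · rw [Category.assoc, ← hc, ← Category.assoc, ← h.toFunctor.map_comp, hs, e]
  · rw [bmap_eq_st h (h.map s ≫ α'), bmap_eq_st h β, ← bmap_comp_st h s rfl, hb, sq.lift_snd]

end BaseChange

variable (E M)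

/-- Small model of the families. -/
abbrev SH (y : 𝒴.obj) [Small.{u} (HFam E M h y)] : Type u := Shrink.{u} (HFam E M h y)

set_option maxHeartbeats 400000 in
/-- Homomorphisms over the fibres, with flat base change. -/
theorem isBC_hom_restr (hE : E.obj.IsFinPres) [IsAffine (sch 𝒴 y)] [IsAffine (sch 𝒴 y')]
    {K K' : Type u} [AddCommGroup K] [Module Γ(sch 𝒴 y, ⊤) K] [AddCommGroup K'] [Module Γ(sch 𝒴 y', ⊤) K']
    (eK : K ≃ₗ[Γ(sch 𝒴 y, ⊤)] HFam E M h y) (eK' : K' ≃ₗ[Γ(sch 𝒴 y', ⊤)] HFam E M h y')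
    (φ : y' ⟶ y) (hφ : Flat (bmap 𝒴 φ))
    (f : K →ₛₗ[(bmap 𝒴 φ).appTop.hom] K') (hf : ∀ a, eK' (f a) = hMap φ (eK a))
    (D : HData h) : IsBC f := by
  let Q := D.Q y
  haveI : IsAffine (sch 𝒳 Q.b.left) := isAffine_fibLeft Q.b
  haveI : IsAffine (sch 𝒳 Q.c.left) := isAffine_fibLeft Q.c
  obtain ⟨b', κb, βb, hb', hcb, sqb⟩ := exists_bc D φ Q.b.hom
  obtain ⟨c', κc, βc, hc', hcc, sqc⟩ := exists_bc D φ Q.c.hom
  haveI := hb'; haveI := hc'
  have hlift : ∀ r : Q.c ⟶ Q.b, ∃ r' : c' ⟶ b', r' ≫ κb = κc ≫ r.left ∧ h.map r' ≫ βb = βc := fun r =>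
    exists_bc_factor D φ hcb sqb (κc ≫ r.left) βc (by
      rw [h.toFunctor.map_comp, Category.assoc, CostructuredArrow.w r, hcc])
  obtain ⟨p', hp', hp''⟩ := hlift Q.p
  obtain ⟨q', hq', hq''⟩ := hlift Q.q
  haveI := hφ
  haveI : Flat (bmap 𝒳 κb) := MorphismProperty.of_isPullback sqb.flip inferInstance
  haveI : Flat (bmap 𝒳 κc) := MorphismProperty.of_isPullback sqc.flip inferInstance
  have hfp : ∀ (z : 𝒳.obj) [IsAffine (sch 𝒳 z)], Module.FinitePresentation Γ(sch 𝒳 z, ⊤) Γ(E.obj.obj z, ⊤) :=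
    fun z _ => M1.finitePresentation_sections (hE z) (isAffineOpen_top _)
  haveI := hfp Q.b.left; haveI := hfp Q.c.left
  let Tb : HTst h y := ⟨Q.b.left, Q.b.hom⟩
  let Tc : HTst h y := ⟨Q.c.left, Q.c.hom⟩
  let Tb' : HTst h y' := ⟨b', βb⟩
  let Tc' : HTst h y' := ⟨c', βc⟩
  let D₀ : Lin E.obj M.obj Q.b.left →+ Lin E.obj M.obj Q.c.left :=
    (pushL E.property Q.p.left).toAddMonoidHom - (pushL E.property Q.q.left).toAddMonoidHom
  let D₁ : Lin E.obj M.obj b' →+ Lin E.obj M.obj c' :=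
    (pushL E.property p').toAddMonoidHom - (pushL E.property q').toAddMonoidHom
  let ιK : K →ₛₗ[(st h Q.b.hom).appTop.hom] Lin E.obj M.obj Q.b.left :=
    { toFun := fun a => (eK a).1 Tb
      map_add' := fun a b => by rw [_root_.map_add]; rfl
      map_smul' := fun c a => by rw [_root_.map_smul]; rfl }
  let ιK' : K' →ₛₗ[(st h βb).appTop.hom] Lin E.obj M.obj b' :=
    { toFun := fun a => (eK' a).1 Tb'
      map_add' := fun a b => by rw [_root_.map_add]; rfl
      map_smul' := fun c a => by rw [_root_.map_smul]; rfl }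
  have hD₀ : ∀ a l, D₀ ((st h Q.b.hom).appTop.hom a • l) = (st h Q.c.hom).appTop.hom a • D₀ l := fun a l => by
    show pushL E.property Q.p.left ((st h Q.b.hom).appTop.hom a • l) -
      pushL E.property Q.q.left ((st h Q.b.hom).appTop.hom a • l) = _ • (_ - _)
    rw [LinearMap.map_smulₛₗ, LinearMap.map_smulₛₗ, smul_sub]
    erw [appTop_comp_apply (bmap_comp_st h Q.p.left (CostructuredArrow.w Q.p)) a,
      appTop_comp_apply (bmap_comp_st h Q.q.left (CostructuredArrow.w Q.q)) a]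
    rfl
  have hD₁ : ∀ a l, D₁ ((st h βb).appTop.hom a • l) = (st h βc).appTop.hom a • D₁ l := fun a l => by
    show pushL E.property p' ((st h βb).appTop.hom a • l) -
      pushL E.property q' ((st h βb).appTop.hom a • l) = _ • (_ - _)
    rw [LinearMap.map_smulₛₗ, LinearMap.map_smulₛₗ, smul_sub]
    erw [appTop_comp_apply (bmap_comp_st h p' hp'') a, appTop_comp_apply (bmap_comp_st h q' hq'') a]
    rfl
  have hcomm : ∀ l, D₁ (pushL E.property κb l) = pushL E.property κc (D₀ l) := fun l => by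
    show push E.property p' (push E.property κb l) - push E.property q' (push E.property κb l) =
      pushL E.property κc (push E.property Q.p.left l - push E.property Q.q.left l)
    rw [_root_.map_sub, pushL_apply, pushL_apply, push_comp, push_comp, push_comp, push_comp, hp', hq']
  have hinj : Function.Injective ιK := by
    exact fun a b e => eK.injective (HFam.eq_of_chart D e)
  have hrange : ∀ l, D₀ l = 0 ↔ l ∈ Set.range ιK := fun l => by
    constructor
    · intro hl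
      obtain ⟨m, hm⟩ := exists_hfam D E M l (sub_eq_zero.1 hl)
      refine ⟨eK.symm m, ?_⟩
      show (eK (eK.symm m)).1 Tb = l
      rw [LinearEquiv.apply_symm_apply]
      exact hm
    · rintro ⟨a, rfl⟩
      show push E.property Q.p.left ((eK a).1 Tb) -
        push E.property Q.q.left ((eK a).1 Tb) = 0
      rw [sub_eq_zero]
      exact ((eK a).nat Tb Tc Q.p.left (CostructuredArrow.w Q.p)).trans
        ((eK a).nat Tb Tc Q.q.left (CostructuredArrow.w Q.q)).symm
  have hinj' : Function.Injective ιK' := by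
    intro a b e
    refine eK'.injective (HFam.ext fun T => ?_)
    let xT : (fibCat h y).obj := CostructuredArrow.mk (S := h.toFunctor) (T.α ≫ φ)
    haveI : IsAffine (sch (fibCat h y) xT) := T.aff
    haveI : IsAffine (sch 𝒳 xT.left) := T.aff
    obtain ⟨x', hx', π, hπ, ⟨r⟩⟩ := (D.Q y).cover xT
    haveI := hx'
    haveI : IsAffine (sch 𝒳 x'.left) := hx'
    let T'' : HTst h y' := ⟨x'.left, h.map π.left ≫ T.α⟩
    obtain ⟨s, hs, hs'⟩ := exists_bc_factor D φ hcb sqb r.left (h.map π.left ≫ T.α) (by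
      rw [Category.assoc, CostructuredArrow.w r]
      exact (CostructuredArrow.w π).symm)
    refine push_injective E.property M.property (show FF (𝒳 := 𝒳) π.left from hπ) ?_
    refine ((eK' a).nat T T'' π.left rfl).trans
      (Eq.trans ?_ ((eK' b).nat T T'' π.left rfl).symm)
    rw [← (eK' a).nat Tb' T'' s hs', ← (eK' b).nat Tb' T'' s hs']
    exact congrArg (push E.property s) e
  have hker : ∀ a, D₁ (ιK' a) = 0 := fun a => by
    show push E.property p' ((eK' a).1 Tb') - push E.property q' ((eK' a).1 Tb') = 0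
    rw [sub_eq_zero]
    exact ((eK' a).nat Tb' Tc' p' hp'').trans ((eK' a).nat Tb' Tc' q' hq'').symm
  have hf' : ∀ a, ιK' (f a) = pushL E.property κb (ιK a) := fun a => by
    show (eK' (f a)).1 Tb' = push E.property κb ((eK a).1 Tb)
    rw [hf]
    exact ((eK a).nat Tb ⟨b', βb ≫ φ⟩ κb hcb).symm
  have hpB := isPushout_appTop_of_isPullback sqb
  have hpC := isPushout_appTop_of_isPullback sqc
  have hfl : (bmap 𝒴 φ).appTop.hom.Flat := flat_appTop _
  have hBb := isBC_pushL (G := M.obj) E.property M.property κb (flat_appTop _)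
  have hBc := isBC_pushL (G := M.obj) E.property M.property κc (flat_appTop _)
  exact isBC_ker (g := (bmap 𝒴 φ).appTop.hom) (sB := (st h Q.b.hom).appTop.hom) (sB' := (st h βb).appTop.hom)
    (sC := (st h Q.c.hom).appTop.hom) (sC' := (st h βc).appTop.hom)
    (κB := (bmap 𝒳 κb).appTop.hom) (κC := (bmap 𝒳 κc).appTop.hom)
    (HB := Lin E.obj M.obj Q.b.left) (HB' := Lin E.obj M.obj b') (HC := Lin E.obj M.obj Q.c.left)
    (HC' := Lin E.obj M.obj c') (K := K) (K' := K') hfl hpB hpC hBb hBc D₀ hD₀ D₁ hD₁ hcomm ιK hinj hrange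
    ιK' hinj' hker hf'

variable {E M}

/-- The data of homomorphisms over the fibres. -/
noncomputable def homG (hE : E.obj.IsFinPres) : FlatFun 𝒴 where
  G z _ := haveI := small_hfam (E := E) (M := M) D (y := z); ModuleCat.of Γ(sch 𝒴 z, ⊤) (SH E M (h := h) z)
  res {z' z} _ _ φ :=
    haveI := small_hfam (E := E) (M := M) D (y := z); haveI := small_hfam (E := E) (M := M) D (y := z')
    { toFun := fun a => (Shrink.linearEquiv Γ(sch 𝒴 z', ⊤) (HFam E M h z')).symm
        (hMap φ (Shrink.linearEquiv Γ(sch 𝒴 z, ⊤) (HFam E M h z) a))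
      map_add' := fun a b => by
        show _ = _ + _
        rw [← _root_.map_add, ← _root_.map_add, ← _root_.map_add]
      map_smul' := fun c a => by
        show _ = _ • _
        rw [← _root_.map_smul, ← LinearMap.map_smulₛₗ, ← _root_.map_smul] }
  res_id z _ a := by
    haveI := small_hfam (E := E) (M := M) D (y := z)
    refine (LinearEquiv.symm_apply_eq (Shrink.linearEquiv Γ(sch 𝒴 z, ⊤) (HFam E M h z))).2 (HFam.ext fun T => ?_)
    exact ((Shrink.linearEquiv Γ(sch 𝒴 z, ⊤) (HFam E M h z)) a).congr (Category.comp_id _)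
  res_comp {z'' z' z} _ _ _ ψ φ a := by
    haveI := small_hfam (E := E) (M := M) D (y := z); haveI := small_hfam (E := E) (M := M) D (y := z')
    haveI := small_hfam (E := E) (M := M) D (y := z'')
    show (Shrink.linearEquiv Γ(sch 𝒴 z'', ⊤) (HFam E M h z'')).symm _ =
      (Shrink.linearEquiv Γ(sch 𝒴 z'', ⊤) (HFam E M h z'')).symm (hMap ψ
        ((Shrink.linearEquiv Γ(sch 𝒴 z', ⊤) (HFam E M h z')) ((Shrink.linearEquiv Γ(sch 𝒴 z', ⊤) (HFam E M h z')).symm
          (hMap φ ((Shrink.linearEquiv Γ(sch 𝒴 z, ⊤) (HFam E M h z)) a)))))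
    rw [LinearEquiv.apply_symm_apply]
    refine congrArg _ (HFam.ext fun T => ?_)
    exact ((Shrink.linearEquiv Γ(sch 𝒴 z, ⊤) (HFam E M h z)) a).congr (Category.assoc _ _ _).symm
  isBC {z' z} _ _ φ hφ := by
    haveI := small_hfam (E := E) (M := M) D (y := z); haveI := small_hfam (E := E) (M := M) D (y := z')
    exact isBC_hom_restr E M hE (Shrink.linearEquiv _ _) (Shrink.linearEquiv _ _) φ hφ _ (fun a => LinearEquiv.apply_symm_apply _ _) D

/-- The family of an element of the data. -/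
noncomputable def gFam (hE : E.obj.IsFinPres) (z : 𝒴.obj) [IsAffine (sch 𝒴 z)] :
    (homG (M := M) D hE).G z ≃ₗ[Γ(sch 𝒴 z, ⊤)] HFam E M h z :=
  haveI := small_hfam (E := E) (M := M) D (y := z)
  Shrink.linearEquiv Γ(sch 𝒴 z, ⊤) (HFam E M h z)

theorem gFam_res (hE : E.obj.IsFinPres) {z' z : 𝒴.obj} [IsAffine (sch 𝒴 z')] [IsAffine (sch 𝒴 z)] (φ : z' ⟶ z)
    (a : (homG (M := M) D hE).G z) : gFam D hE z' ((homG (M := M) D hE).res φ a) = hMap φ (gFam D hE z a) := by
  haveI := small_hfam (E := E) (M := M) D (y := z); haveI := small_hfam (E := E) (M := M) D (y := z')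
  exact LinearEquiv.apply_symm_apply _ _

end Groth.Agent.StQC14
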