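import Groth.Agent.Lib.StQC14.SurjLF
import Groth.Agent.Lib.StQC14.HomG
import Mathlib.LinearAlgebra.TensorProduct.Pi
import Mathlib.RingTheory.Flat.Basic

/-!
# Modules with flat sections surjecting onto a given one
-/

universe w v u

open CategoryTheory CategoryTheory.Functor CategoryTheory.Limits AlgebraicGeometry Opposite TensorProduct

set_option linter.style.haveILetI false
set_option linter.unusedSectionVars false
set_option backward.isDefEq.respectTransparency false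
set_option backward.isDefEq.respectTransparency.types false

namespace Groth.Agent.StQC14

open StMod

/-- Finite powers of a ring map. -/
def piMap {A B : Type u} [CommRing A] [CommRing B] (σ : A →+* B) (ι : Type) : (ι → A) →ₛₗ[σ] (ι → B) where
  toFun w i := σ (w i)
  map_add' a b := funext fun i => map_add σ (a i) (b i)
  map_smul' c a := funext fun i => map_mul σ c (a i)

theorem isBC_piMap {A B : Type u} [CommRing A] [CommRing B] (σ : A →+* B) (ι : Type) [Fintype ι] :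
    IsBC (piMap σ ι) := by
  classical
  letI := σ.toAlgebra
  letI := Module.compHom (ι → B) σ
  haveI : IsScalarTower A B (ι → B) := IsScalarTower.of_algebraMap_smul fun _ _ => rfl
  refine IsBaseChange.of_equiv (TensorProduct.piScalarRight A B B ι) fun w => funext fun i => ?_
  rw [TensorProduct.piScalarRight_apply, TensorProduct.piScalarRightHom_tmul]
  show w i • (1 : B) = σ (w i)
  rw [Algebra.smul_def, mul_one]
  rfl

variable {S : Scheme.{u}} {𝒳 : BasedCategory.{v, w} (Over S)}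

theorem bmap_appTop_apply {a b c : 𝒳.obj} (k : a ⟶ b) (l : b ⟶ c) {m : a ⟶ c} (e : k ≫ l = m)
    (x : Γ(sch 𝒳 c, ⊤)) : (bmap 𝒳 k).appTop.hom ((bmap 𝒳 l).appTop.hom x) = (bmap 𝒳 m).appTop.hom x := by
  subst e
  exact RingHom.congr_fun (appTop_bmap_comp k l) x

variable (A : Atlas 𝒳)

/-- Powers of the functions on the product with the atlas. -/
def Atlas.W (n : ℕ) (z : 𝒳.obj) [IsAffine (sch 𝒳 z)] : Type u := Fin n → Γ(sch 𝒳 (A.pr z), ⊤)

noncomputable instance (n : ℕ) (z : 𝒳.obj) [IsAffine (sch 𝒳 z)] : AddCommGroup (A.W n z) :=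
  inferInstanceAs (AddCommGroup (Fin n → Γ(sch 𝒳 (A.pr z), ⊤)))

noncomputable instance (n : ℕ) (z : 𝒳.obj) [IsAffine (sch 𝒳 z)] : Module Γ(sch 𝒳 z, ⊤) (A.W n z) :=
  Module.compHom (Fin n → Γ(sch 𝒳 (A.pr z), ⊤)) (bmap 𝒳 (A.π z)).appTop.hom

variable {A} {n : ℕ} (F : QCoh 𝒳) (e : Fin n → Γ(F.obj.obj A.b, ⊤))

variable (A) in
/-- The combination of the chosen sections. -/
noncomputable def Atlas.comb (z : 𝒳.obj) [IsAffine (sch 𝒳 z)] :
    (Fin n → Γ(sch 𝒳 (A.pr z), ⊤)) →ₗ[Γ(sch 𝒳 (A.pr z), ⊤)] Γ(F.obj.obj (A.pr z), ⊤) :=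
  Fintype.linearCombination _ fun i => secL F.obj (A.r z) (e i)

variable (A) in
/-- The combinations which come from the object. -/
noncomputable def Atlas.cof (z : 𝒳.obj) [IsAffine (sch 𝒳 z)] : Submodule Γ(sch 𝒳 z, ⊤) (A.W n z) where
  carrier := {w | ∃ x, secL F.obj (A.π z) x = A.comb F e z w}
  zero_mem' := ⟨0, (_root_.map_zero _).trans (_root_.map_zero (A.comb F e z)).symm⟩
  add_mem' := fun {a b} ⟨x, hx⟩ ⟨y, hy⟩ => ⟨x + y, by
    rw [_root_.map_add, hx, hy]; exact ((A.comb F e z).map_add a b).symm⟩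
  smul_mem' := fun c a ⟨x, hx⟩ => ⟨c • x, by
    rw [LinearMap.map_smulₛₗ, hx]; exact ((A.comb F e z).map_smul _ a).symm⟩

theorem Atlas.comb_res {z' z : 𝒳.obj} [IsAffine (sch 𝒳 z')] [IsAffine (sch 𝒳 z)] (φ : z' ⟶ z)
    (w : Fin n → Γ(sch 𝒳 (A.pr z), ⊤)) :
    A.comb F e z' (piMap (bmap 𝒳 (A.prMap φ)).appTop.hom (Fin n) w) = secL F.obj (A.prMap φ) (A.comb F e z w) := by
  simp only [Atlas.comb, Fintype.linearCombination_apply, _root_.map_sum]
  refine Finset.sum_congr rfl fun i _ => ?_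
  rw [LinearMap.map_smulₛₗ, secL_comp F.obj _ _ (A.prMap_r φ)]
  rfl

theorem Atlas.res_mem_cof {z' z : 𝒳.obj} [IsAffine (sch 𝒳 z')] [IsAffine (sch 𝒳 z)] (φ : z' ⟶ z)
    {w : A.W n z} (hw : w ∈ A.cof F e z) :
    (piMap (bmap 𝒳 (A.prMap φ)).appTop.hom (Fin n) w : A.W n z') ∈ A.cof F e z' := by
  obtain ⟨x, hx⟩ := hw
  refine ⟨secL F.obj φ x, Eq.trans ?_ (A.comb_res F e φ w).symm⟩
  rw [← hx, secL_comp F.obj _ _ (A.prMap_π φ), secL_comp F.obj _ _ rfl]

/-- The map on products. -/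
noncomputable def Atlas.cofRes {z' z : 𝒳.obj} [IsAffine (sch 𝒳 z')] [IsAffine (sch 𝒳 z)] (φ : z' ⟶ z) :
    A.cof F e z →ₛₗ[(bmap 𝒳 φ).appTop.hom] A.cof F e z' where
  toFun w := ⟨piMap (bmap 𝒳 (A.prMap φ)).appTop.hom (Fin n) w.1, A.res_mem_cof F e φ w.2⟩
  map_add' a b := Subtype.ext ((piMap _ (Fin n)).map_add a.1 b.1)
  map_smul' c a := Subtype.ext (((piMap _ (Fin n)).map_smulₛₗ _ a.1).trans
    (congrArg (fun s => s • (piMap (bmap 𝒳 (A.prMap φ)).appTop.hom (Fin n) a.1))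
      ((bmap_appTop_apply _ _ (A.prMap_π φ) c).trans (bmap_appTop_apply _ _ rfl c).symm)))

/-- The difference of the two pullbacks of a combination. -/
noncomputable def Atlas.cofD (z : 𝒳.obj) [IsAffine (sch 𝒳 z)] :
    (Fin n → Γ(sch 𝒳 (A.pr z), ⊤)) →+ Γ(F.obj.obj (A.pr (A.pr z)), ⊤) :=
  ((secL F.obj (A.prMap (A.π z))).toAddMonoidHom - (secL F.obj (A.π (A.pr z))).toAddMonoidHom).comp
    (A.comb F e z).toAddMonoidHom

theorem Atlas.cofD_apply (z : 𝒳.obj) [IsAffine (sch 𝒳 z)] (w : Fin n → Γ(sch 𝒳 (A.pr z), ⊤)) :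
    Atlas.cofD F e z w =
      secL F.obj (A.prMap (A.π z)) (A.comb F e z w) - secL F.obj (A.π (A.pr z)) (A.comb F e z w) := rfl

theorem Atlas.cofD_smul (z : 𝒳.obj) [IsAffine (sch 𝒳 z)] (c : Γ(sch 𝒳 z, ⊤))
    (w : Fin n → Γ(sch 𝒳 (A.pr z), ⊤)) :
    Atlas.cofD F e z ((bmap 𝒳 (A.π z)).appTop.hom c • w) =
      (bmap 𝒳 (A.π (A.pr z) ≫ A.π z)).appTop.hom c • Atlas.cofD F e z w := by
  rw [A.cofD_apply, A.cofD_apply, _root_.map_smul, LinearMap.map_smulₛₗ, LinearMap.map_smulₛₗ,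
    bmap_appTop_apply _ _ (A.prMap_π (A.π z)), bmap_appTop_apply _ _ rfl, smul_sub]

theorem Atlas.cofD_eq_zero_iff (z : 𝒳.obj) [IsAffine (sch 𝒳 z)] (w : Fin n → Γ(sch 𝒳 (A.pr z), ⊤)) :
    Atlas.cofD F e z w = 0 ↔ (w : A.W n z) ∈ A.cof F e z := by
  rw [A.cofD_apply, sub_eq_zero]
  constructor
  · intro h
    obtain ⟨hb, hfl, hs⟩ := A.isBC_π (M := F) z
    haveI : IsAffine (sch 𝒳 (A.pr (A.pr z))) := A.affine_pr _
    exact hb.exists_of_eq hfl hs (i₁ := (bmap 𝒳 (A.prMap (A.π z))).appTop.hom)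
      (i₂ := (bmap 𝒳 (A.π (A.pr z))).appTop.hom) (isPushout_appTop_of_isPullback (A.prSq (A.π z)))
      (g₁ := secL F.obj (A.prMap (A.π z))) (g₂ := secL F.obj (A.π (A.pr z))) (appTop_bmap_comp _ _)
      (g := secL F.obj (A.prMap (A.π z) ≫ A.π z)) (isBC_secL _ F.property)
      (fun m => secL_comp F.obj _ _ rfl m) (fun m => secL_comp F.obj _ _ (A.prMap_π (A.π z)).symm m) h
  · rintro ⟨x, hx⟩
    rw [← hx, secL_comp F.obj _ _ (A.prMap_π (A.π z)), secL_comp F.obj _ _ rfl]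

theorem Atlas.isBC_cofRes {z' z : 𝒳.obj} [IsAffine (sch 𝒳 z')] [IsAffine (sch 𝒳 z)] (φ : z' ⟶ z)
    (hφ : Flat (bmap 𝒳 φ)) : IsBC (Atlas.cofRes F e φ) := by
  haveI := hφ
  haveI : IsAffine (sch 𝒳 (A.pr (A.pr z))) := A.affine_pr _
  haveI : IsAffine (sch 𝒳 (A.pr (A.pr z'))) := A.affine_pr _
  have hB := isPushout_appTop_of_isPullback (A.prSq φ)
  have sq : IsPullback (bmap 𝒳 (A.prMap (A.prMap φ))) (bmap 𝒳 (A.π (A.pr z') ≫ A.π z'))
      (bmap 𝒳 (A.π (A.pr z) ≫ A.π z)) (bmap 𝒳 φ) := by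
    rw [bmap_comp, bmap_comp]
    exact (A.prSq (A.prMap φ)).paste_vert (A.prSq φ)
  have hC := isPushout_appTop_of_isPullback sq
  let ιK : A.cof F e z →ₛₗ[(bmap 𝒳 (A.π z)).appTop.hom] (Fin n → Γ(sch 𝒳 (A.pr z), ⊤)) :=
    { toFun := fun w => w.1, map_add' := fun _ _ => rfl, map_smul' := fun _ _ => rfl }
  let ιK' : A.cof F e z' →ₛₗ[(bmap 𝒳 (A.π z')).appTop.hom] (Fin n → Γ(sch 𝒳 (A.pr z'), ⊤)) :=
    { toFun := fun w => w.1, map_add' := fun _ _ => rfl, map_smul' := fun _ _ => rfl }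
  refine isBC_ker (g := (bmap 𝒳 φ).appTop.hom) (sB := (bmap 𝒳 (A.π z)).appTop.hom)
    (sB' := (bmap 𝒳 (A.π z')).appTop.hom) (sC := (bmap 𝒳 (A.π (A.pr z) ≫ A.π z)).appTop.hom)
    (sC' := (bmap 𝒳 (A.π (A.pr z') ≫ A.π z')).appTop.hom)
    (κB := (bmap 𝒳 (A.prMap φ)).appTop.hom) (κC := (bmap 𝒳 (A.prMap (A.prMap φ))).appTop.hom)
    (flat_appTop _) hB hC (fB := piMap _ (Fin n)) (isBC_piMap _ _) (fC := secL F.obj (A.prMap (A.prMap φ)))
    (isBC_secL _ F.property) (Atlas.cofD F e z) (A.cofD_smul F e z) (Atlas.cofD F e z') (A.cofD_smul F e z')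
    (fun w => ?_) ιK (fun a b h => Subtype.ext h) (fun h => ?_) ιK' (fun a b h => Subtype.ext h)
    (fun k => (A.cofD_eq_zero_iff F e z' _).2 k.2) (fun k => rfl)
  · rw [A.cofD_apply, A.cofD_apply, A.comb_res, _root_.map_sub,
      secL_comp F.obj (A.prMap (A.π z')) (A.prMap φ) rfl, secL_comp F.obj (A.prMap (A.prMap φ)) _ rfl,
      secL_comp F.obj (A.π (A.pr z')) (A.prMap φ) rfl, secL_comp F.obj (A.prMap (A.prMap φ)) _ rfl,
      ← A.prMap_comp, ← A.prMap_comp, A.prMap_π φ, A.prMap_π (A.prMap φ)]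
  · exact (A.cofD_eq_zero_iff F e z h).trans ⟨fun hh => ⟨⟨h, hh⟩, rfl⟩, fun ⟨k, hk⟩ => hk ▸ k.2⟩

variable (A) in
/-- The combinations coming from the object, as flat data. -/
noncomputable def Atlas.cofFun : FlatFun 𝒳 where
  G z _ := ModuleCat.of Γ(sch 𝒳 z, ⊤) (A.cof F e z)
  res {_ _} _ _ φ := Atlas.cofRes F e φ
  res_id z _ w := Subtype.ext (funext fun i => by
    show (bmap 𝒳 (A.prMap (𝟙 z))).appTop.hom (w.1 i) = w.1 i
    rw [A.prMap_id, bmap_id]
    rfl)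
  res_comp {_ _ _} _ _ _ ψ φ w := Subtype.ext (funext fun i => by
    exact (bmap_appTop_apply _ _ (A.prMap_comp ψ φ).symm (w.1 i)).symm)
  isBC {_ _} _ _ φ hφ := Atlas.isBC_cofRes F e φ hφ

variable (A) in
/-- Every module with finitely generated sections receives a surjection from one with sections in a flat module. -/
theorem Atlas.exists_cofree (he : Submodule.span Γ(sch 𝒳 A.b, ⊤) (Set.range e) = ⊤) :
    ∃ (H : QCoh 𝒳) (v : H ⟶ F), Function.Surjective ((v.hom.app A.b).app ⊤) ∧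
      ∃ (W : Type u) (_ : AddCommGroup W) (_ : Module Γ(sch 𝒳 A.b, ⊤) W), Module.Flat Γ(sch 𝒳 A.b, ⊤) W ∧
        ∃ ι : Γ(H.obj.obj A.b, ⊤) →ₗ[Γ(sch 𝒳 A.b, ⊤)] W, Function.Injective ι := by
  let G := A.cofFun F e
  have hinj : ∀ (z : 𝒳.obj) [IsAffine (sch 𝒳 z)], Function.Injective (secL F.obj (A.π z)) := fun z _ => by
    obtain ⟨hb, hfl, hs⟩ := A.isBC_π (M := F) z
    exact hb.injective hfl hs
  have hex : ∀ (z : 𝒳.obj) (hz : IsAffine (sch 𝒳 z)),
      ∃ l : G.G z →ₗ[Γ(sch 𝒳 z, ⊤)] Γ(F.obj.obj z, ⊤),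
        ∀ w : A.cof F e z, secL F.obj (A.π z) (l w) = A.comb F e z w.1 := fun z hz => by
    refine ⟨{ toFun := fun w => (show A.cof F e z from w).2.choose, map_add' := fun a b => hinj z ?_,
              map_smul' := fun c a => hinj z ?_ }, fun w => w.2.choose_spec⟩
    · rw [_root_.map_add, (show A.cof F e z from a).2.choose_spec, (show A.cof F e z from b).2.choose_spec,
        (show A.cof F e z from a + b).2.choose_spec]
      exact (A.comb F e z).map_add _ _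
    · rw [RingHom.id_apply, LinearMap.map_smulₛₗ, (show A.cof F e z from a).2.choose_spec,
        (show A.cof F e z from c • a).2.choose_spec]
      exact (A.comb F e z).map_smul _ _
  choose l hl using hex
  obtain ⟨v, hv⟩ := exists_hom_of_affine A.grpd (F := desc A.fpres G) (descQ A.fpres G).property F.property
    (fun z hz => haveI := hz; (l z hz).comp (eG A.fpres G z)) fun {z' z} h' h₀ φ x => by
      haveI := h'; haveI := h₀
      show secL F.obj φ (l z h₀ (eG A.fpres G z x)) = l z' h' (eG A.fpres G z' (sT φ x))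
      rw [eG_sT]
      refine hinj z' ?_
      refine Eq.trans ?_ (hl z' h' _).symm
      refine Eq.trans ?_ (A.comb_res F e φ _).symm
      rw [← hl z h₀, secL_comp F.obj (A.π z') φ rfl, secL_comp F.obj (A.prMap φ) (A.π z) (A.prMap_π φ)]
  refine ⟨descQ A.fpres G, ObjectProperty.homMk v, fun x => ?_, ?_⟩
  · have hmem : secL F.obj (A.π A.b) x ∈ LinearMap.range (A.comb F e A.b) := by
      have hx := (isBC_secL (A.r A.b) F.property).span (secL F.obj (A.π A.b) x)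
      refine (Submodule.span_le.2 ?_) hx
      rintro _ ⟨y, rfl⟩
      have hy : y ∈ Submodule.span Γ(sch 𝒳 A.b, ⊤) (Set.range e) := he ▸ Submodule.mem_top
      induction hy using Submodule.span_induction with
      | mem y hy =>
        obtain ⟨i, rfl⟩ := hy
        classical
        exact ⟨Pi.single i 1, by rw [Atlas.comb, Fintype.linearCombination_apply_single, one_smul]⟩
      | zero => rw [_root_.map_zero]; exact zero_mem _
      | add a b _ _ ha hb => rw [_root_.map_add]; exact add_mem ha hb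
      | smul c a _ ha => rw [LinearMap.map_smulₛₗ]; exact Submodule.smul_mem _ _ ha
    obtain ⟨w, hw⟩ := hmem
    obtain ⟨h, hh⟩ := (eG_bijective_chart (P := A.fpres) (F := G)).2 (⟨w, x, hw.symm⟩ : A.cof F e A.b)
    refine ⟨h, ?_⟩
    show (v.app A.b).app ⊤ h = x
    rw [hv A.b A.affine_b]
    show l A.b _ (eG A.fpres G A.b h) = x
    exact hinj A.b ((hl A.b _ _).trans ((congrArg (A.comb F e A.b) (congrArg Subtype.val hh)).trans hw))
  · refine ⟨A.W n A.b, inferInstance, inferInstance, ?_, (A.cof F e A.b).subtype.comp (eG A.fpres G A.b),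
      (Submodule.injective_subtype _).comp (eG_bijective_chart (P := A.fpres) (F := G)).1⟩
    haveI := (A.ff A.b).1
    letI := (bmap 𝒳 (A.π A.b)).appTop.hom.toAlgebra
    haveI : Module.Flat Γ(sch 𝒳 A.b, ⊤) Γ(sch 𝒳 (A.pr A.b), ⊤) := flat_appTop _
    haveI : Module.Flat Γ(sch 𝒳 A.b, ⊤) (Fin n →₀ Γ(sch 𝒳 (A.pr A.b), ⊤)) := by
      classical
      exact Module.Flat.of_linearEquiv (finsuppLEquivDirectSum Γ(sch 𝒳 A.b, ⊤) Γ(sch 𝒳 (A.pr A.b), ⊤) (Fin n))
    exact Module.Flat.of_linearEquiv (M := Fin n →₀ Γ(sch 𝒳 (A.pr A.b), ⊤))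
      (({ Finsupp.equivFunOnFinite with
          map_add' := fun _ _ => rfl
          map_smul' := fun c a => funext fun i => (Algebra.smul_def c (a i)) } :
        (Fin n →₀ Γ(sch 𝒳 (A.pr A.b), ⊤)) ≃ₗ[Γ(sch 𝒳 A.b, ⊤)] A.W n A.b)).symm

end Groth.Agent.StQC14
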