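import Groth.Agent.Lib.StQC14.GenConv
import Groth.Agent.Lib.StQC14.FibFPres

/-!
# Relative generation for composites
-/

universe t u

open CategoryTheory CategoryTheory.Functor CategoryTheory.Limits AlgebraicGeometry Opposite

set_option linter.style.haveILetI false
set_option linter.unusedSectionVars false
set_option backward.isDefEq.respectTransparency false
set_option backward.isDefEq.respectTransparency.types false

namespace Groth.Agent.StQC14

open StMod AlgSt

variable {S : Scheme.{u}} {𝒳 𝒴 𝒵 : AlgSt.Cat S} (f : 𝒳 ⥤ᵇ 𝒴) (g : 𝒴 ⥤ᵇ 𝒵) (η : 𝒵.obj)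

/-- The map between the fibres of a composite. -/
def fibK : fibCat (BasedFunctor.comp f g) η ⥤ᵇ fibCat g η where
  toFunctor :=
    { obj := fun x => CostructuredArrow.mk (S := g.toFunctor) (Y := f.obj x.left) x.hom
      map := fun φ => CostructuredArrow.homMk (f.map φ.left) (CostructuredArrow.w φ)
      map_id := fun x => CostructuredArrow.hom_ext _ _ (f.toFunctor.map_id _)
      map_comp := fun φ ψ => CostructuredArrow.hom_ext _ _ (f.toFunctor.map_comp _ _) }
  w := by
    show (CostructuredArrow.proj (BasedFunctor.comp f g).toFunctor η ⋙ f.toFunctor) ⋙ 𝒴.p =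
      CostructuredArrow.proj (BasedFunctor.comp f g).toFunctor η ⋙ 𝒳.p
    rw [Functor.assoc, f.w]

variable (y : (fibCat g η).obj)

/-- The fibres of the map are fibres of the first functor. -/
def fibKFib : fibCat f y.left ⥤ᵇ fibCat (fibK f g η) y where
  toFunctor :=
    { obj := fun a => CostructuredArrow.mk (S := (fibK f g η).toFunctor)
        (Y := CostructuredArrow.mk (S := (BasedFunctor.comp f g).toFunctor) (g.map a.hom ≫ y.hom))
        (CostructuredArrow.homMk a.hom rfl)
      map := fun {a b} φ => CostructuredArrow.homMk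
        (CostructuredArrow.homMk φ.left (by
          show g.map (f.map φ.left) ≫ g.map b.hom ≫ y.hom = g.map a.hom ≫ y.hom
          rw [← Category.assoc, ← g.toFunctor.map_comp]
          exact congrArg (fun k => g.map k ≫ y.hom) (CostructuredArrow.w φ)))
        (CostructuredArrow.hom_ext _ _ (CostructuredArrow.w φ))
      map_id := fun a => CostructuredArrow.hom_ext _ _ (CostructuredArrow.hom_ext _ _ rfl)
      map_comp := fun φ ψ => CostructuredArrow.hom_ext _ _ (CostructuredArrow.hom_ext _ _ rfl) }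
  w := rfl

theorem fibKFib_full : (fibKFib f g η y).toFunctor.Full := by
  refine ⟨fun {a b} n => ?_⟩
  have e : f.map n.left.left ≫ b.hom = a.hom := congrArg CommaMorphism.left (CostructuredArrow.w n)
  exact ⟨CostructuredArrow.homMk n.left.left e, CostructuredArrow.hom_ext _ _ (CostructuredArrow.hom_ext _ _ rfl)⟩

theorem fibKFib_essSurj : (fibKFib f g η y).toFunctor.EssSurj := by
  refine ⟨fun ξ => ⟨CostructuredArrow.mk (S := f.toFunctor) (Y := ξ.left.left) ξ.hom.left, ⟨?_⟩⟩⟩
  refine CostructuredArrow.isoMk (CostructuredArrow.isoMk (Iso.refl _) ?_) ?_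
  · show g.map (f.map (𝟙 ξ.left.left)) ≫ ξ.left.hom = g.map ξ.hom.left ≫ y.hom
    rw [f.toFunctor.map_id, g.toFunctor.map_id, Category.id_comp]
    exact (CostructuredArrow.w ξ.hom).symm
  · refine CostructuredArrow.hom_ext _ _ ?_
    show f.map (𝟙 ξ.left.left) ≫ ξ.hom.left = ξ.hom.left
    rw [f.toFunctor.map_id, Category.id_comp]

variable (h𝒳 : AlgSt.IsAlgStack Scheme.fppfPrecoverage 𝒳) (h𝒴 : AlgSt.IsAlgStack Scheme.fppfPrecoverage 𝒴)
  (h𝒵 : AlgSt.IsAlgStack Scheme.fppfPrecoverage 𝒵)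
  (hfqc : AlgSt.IsQuasiCompactMor Scheme.fppfPrecoverage f) (hfqs : AlgSt.IsQuasiSeparatedMor f)
  (hgqc : AlgSt.IsQuasiCompactMor Scheme.fppfPrecoverage g) (hgqs : AlgSt.IsQuasiSeparatedMor g)

include h𝒳 h𝒴 hfqc hfqs in
theorem nonempty_hData_fibK : Nonempty (HData (fibK f g η)) := by
  have hX := fibCat_isFibGrpd h𝒳.isStack.1 (BasedFunctor.comp f g) η
  have hY := fibCat_isFibGrpd h𝒴.isStack.1 g η
  refine ⟨⟨hX, hY, fun z hz => Classical.choice ?_⟩⟩
  haveI : IsAffine (sch 𝒴 z.left) := hz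
  obtain ⟨Q⟩ := exists_pres_fib f z.left h𝒳 h𝒴 hfqc hfqs
  haveI := fibKFib_full f g η z
  haveI := fibKFib_essSurj f g η z
  exact Q.map (fibKFib f g η z)

include h𝒳 h𝒴 in
theorem isRelGenFam_fibK {ι : Type t} (E' : ι → QCoh (fibCat (BasedFunctor.comp f g) η)) (E : ι → QCoh 𝒳)
    (e : ∀ (z : (fibCat g η).obj) i, Mod.comap (fibFst f z.left) (E i).obj ≅
      Mod.comap (fibKFib f g η z) (Mod.comap (fibFst (fibK f g η) z) (E' i).obj))
    (hE : IsRelGenFam f E) : IsRelGenFam (fibK f g η) E' := by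
  intro z hz
  haveI := fibKFib_full f g η z
  haveI := fibKFib_essSurj f g η z
  exact isGenFam_of_equiv (fibKFib f g η z) (fibCat_isFibGrpd h𝒳.isStack.1 f z.left)
    (fibCat_isFibGrpd (fibCat_isFibGrpd h𝒳.isStack.1 _ η) _ z) _ (isGenFam_of_iso (e z) (hE z.left hz))

include h𝒳 h𝒴 h𝒵 hfqc hfqs hgqc hgqs

/-- The structure sheaf relatively generating for the first morphism and a family for the second. -/
theorem isRelGenFam_comp_left {ι : Type t} (F : ι → StMod.QCoh 𝒴)
    (hO : IsRelGenFam f (fun _ : PUnit.{u + 1} => OQ 𝒳)) (hF : IsRelGenFam g F) :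
    IsRelGenFam (BasedFunctor.comp f g) (fun j => (comapQ f).obj (F j)) := by
  haveI := FC16.isFibered h𝒵.isStack.1
  intro η hη
  haveI := hη
  obtain ⟨D⟩ := nonempty_hData_fibK f g η h𝒳 h𝒴 hfqc hfqs
  obtain ⟨P⟩ := exists_fpres_fib g η h𝒴 h𝒵 hgqc hgqs
  have hK : IsRelGenFam (fibK f g η) (fun _ : PUnit.{u + 1} => OQ (fibCat (BasedFunctor.comp f g) η)) :=
    isRelGenFam_fibK f g η h𝒳 h𝒴 _ _ (fun z _ => comapOIso (fibFst f z.left) ≪≫ (comapOIso (fibKFib f g η z)).symm ≪≫
      ((comapFunctor (fibKFib f g η z)).mapIso (comapOIso (fibFst (fibK f g η) z))).symm) hO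
  refine isGenFam_of_iso (fun j => ?_) (isGenFam_comapQ_of_push (fibK f g η) D P hK
    (fun j => (comapQ (fibFst g η)).obj (F j)) (hF η hη))
  exact (comapCompIso (fibFst g η) (fibK f g η) (F j).obj).symm ≪≫
    comapCompIso f (fibFst (BasedFunctor.comp f g) η) (F j).obj

/-- A family relatively generating for the first morphism and the structure sheaf for the second. -/
theorem isRelGenFam_comp_right {ι : Type t} (E : ι → StMod.QCoh 𝒳) (hEp : ∀ i, (E i).obj.IsFinPres)
    (hE : IsRelGenFam f E) (hO : IsRelGenFam g (fun _ : PUnit.{u + 1} => OQ 𝒴)) :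
    IsRelGenFam (BasedFunctor.comp f g) E := by
  haveI := FC16.isFibered h𝒵.isStack.1
  intro η hη
  haveI := hη
  obtain ⟨D⟩ := nonempty_hData_fibK f g η h𝒳 h𝒴 hfqc hfqs
  obtain ⟨P⟩ := exists_fpres_fib g η h𝒴 h𝒵 hgqc hgqs
  refine isGenFam_of_push (fibK f g η) D P _ (fun i x => hEp i x.left)
    (isRelGenFam_fibK f g η h𝒳 h𝒴 _ E (fun z i => ?_) hE) (isGenFam_of_iso (fun _ => comapOIso (fibFst g η)) (hO η hη))
  exact comapCompIso (fibFst (BasedFunctor.comp f g) η)
    (BasedFunctor.comp (fibKFib f g η z) (fibFst (fibK f g η) z)) (E i).obj ≪≫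
    comapCompIso (fibFst (fibK f g η) z) (fibKFib f g η z) _

end Groth.Agent.StQC14
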