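import Groth.Agent.Lib.StQC14.FamSheaf
import Groth.Agent.Lib.ModM1.QcohCrit
import Groth.Agent.Lib.PullBC11.Crit

/-!
# Quasi-coherent modules descended from flat data
-/

universe w v u

open CategoryTheory CategoryTheory.Functor CategoryTheory.Limits AlgebraicGeometry Opposite TopologicalSpace

set_option linter.style.haveILetI false
set_option linter.unusedSectionVars false
set_option backward.isDefEq.respectTransparency false
set_option backward.isDefEq.respectTransparency.types false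

namespace Groth.Agent.StQC14

open StMod

variable {S : Scheme.{u}} {𝒳 : BasedCategory.{v, w} (Over S)} (P : FPres 𝒳) (F : FlatFun 𝒳) (ξ : 𝒳.obj)

variable {P F ξ}

theorem le_id_preimage {W W' : (sch 𝒳 ξ).Opens} (h : W' ≤ W) : W' ≤ bmap 𝒳 (𝟙 ξ) ⁻¹ᵁ W := by
  rw [bmap_id]
  exact h

/-- Restriction of sections to a smaller open. -/
noncomputable def sRes {W W' : (sch 𝒳 ξ).Opens} (h : W' ≤ W) : SFam P F ξ W →+ SFam P F ξ W' :=
  (sMap (𝟙 ξ) (le_id_preimage h)).toAddMonoidHom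

theorem sRes_eq {W W' : (sch 𝒳 ξ).Opens} (h : W' ≤ W) (a : SFam P F ξ W) :
    sRes h a = sMap (𝟙 ξ) (le_id_preimage h) a := rfl

theorem sRes_smul {W W' : (sch 𝒳 ξ).Opens} (h : W' ≤ W) (c : Γ(sch 𝒳 ξ, W)) (a : SFam P F ξ W) :
    sRes h (c • a) = (sch 𝒳 ξ).presheaf.map (homOfLE h).op c • sRes h a := by
  rw [sRes_eq, sRes_eq, LinearMap.map_smulₛₗ]
  refine congrArg (· • _) ((appLE_eq_of_eq (bmap_id ξ) _ c).trans ?_)
  rw [Scheme.Hom.appLE, Scheme.Hom.id_app]
  rfl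

theorem toFam_sRes_apply {W W' : (sch 𝒳 ξ).Opens} (h : W' ≤ W) (a : SFam P F ξ W) (T : Tst P ξ W') :
    (toFam (sRes h a)).1 T = (toFam a).1 ⟨T.w, T.π, T.hU.trans ((bmap 𝒳 T.π).preimage_mono h), T.r⟩ := by
  rw [sRes_eq, toFam_sMap, famMap_apply]
  exact (toFam a).congr (Category.comp_id _) _ _

variable (P F ξ)

/-- The presheaf of sections on an object. -/
noncomputable def descAb : (Opens (sch 𝒳 ξ))ᵒᵖ ⥤ AddCommGrpCat.{u} where
  obj W := AddCommGrpCat.of (SFam P F ξ W.unop)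
  map {W W'} g := AddCommGrpCat.ofHom (sRes g.unop.le)
  map_id W := AddCommGrpCat.hom_ext (AddMonoidHom.ext fun a => sMap_id _ a)
  map_comp {W W' W''} f g := AddCommGrpCat.hom_ext (AddMonoidHom.ext fun a =>
    (sMap_comp (𝟙 ξ) (𝟙 ξ) (Category.comp_id _) (le_id_preimage f.unop.le) (le_id_preimage g.unop.le) _ a).symm)

noncomputable instance descModule (W : (Opens (sch 𝒳 ξ))ᵒᵖ) :
    Module ((sch 𝒳 ξ).ringCatSheaf.obj.obj W) ((descAb P F ξ).obj W) :=
  inferInstanceAs (Module Γ(sch 𝒳 ξ, W.unop) (SFam P F ξ W.unop))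

theorem descAb_isSheaf : TopCat.Presheaf.IsSheaf (descAb P F ξ : TopCat.Presheaf AddCommGrpCat.{u} _) := by
  rw [TopCat.Presheaf.isSheaf_iff_isSheafUniqueGluing]
  intro ι U sf hsf
  let a : ∀ i, Fam P F ξ (U i) := fun i => toFam (show SFam P F ξ (U i) from sf i)
  have hc : ∀ i j {w : 𝒳.obj} [IsAffine (sch 𝒳 w)] (π : w ⟶ ξ) (hi : ⊤ ≤ bmap 𝒳 π ⁻¹ᵁ U i)
      (hj : ⊤ ≤ bmap 𝒳 π ⁻¹ᵁ U j) (r : w ⟶ P.b), (a i).1 ⟨w, π, hi, r⟩ = (a j).1 ⟨w, π, hj, r⟩ := by
    intro i j w _ π hi hj r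
    have hij : ⊤ ≤ bmap 𝒳 π ⁻¹ᵁ (U i ⊓ U j) := by
      rw [Scheme.Hom.preimage_inf]
      exact le_inf hi hj
    have h := congrArg (fun t : SFam P F ξ (U i ⊓ U j) => (toFam t).1 ⟨w, π, hij, r⟩) (hsf i j)
    exact (toFam_sRes_apply inf_le_left (show SFam P F ξ (U i) from sf i) ⟨w, π, hij, r⟩).symm.trans
      (h.trans (toFam_sRes_apply inf_le_right (show SFam P F ξ (U j) from sf j) ⟨w, π, hij, r⟩))
  obtain ⟨b, hb⟩ := Fam.exists_glue U a hc
  refine ⟨toFam.symm b, fun i => SFam.ext' (Fam.ext fun T => ?_), fun c hcu => SFam.ext' ?_⟩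
  · refine (toFam_sRes_apply (le_iSup U i) _ T).trans ?_
    rw [LinearEquiv.apply_symm_apply]
    exact hb i T.π T.hU _ T.r
  · rw [LinearEquiv.apply_symm_apply]
    refine Fam.ext_cover U fun i {w} _ π hi h' r => ?_
    rw [hb i π hi h' r]
    exact (toFam_sRes_apply (le_iSup U i) (show SFam P F ξ (iSup U) from c) ⟨w, π, hi, r⟩).symm.trans
      (congrArg (fun t : SFam P F ξ (U i) => (toFam t).1 ⟨w, π, hi, r⟩) (hcu i))

/-- The descended module on an object. -/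
noncomputable def descObj : (sch 𝒳 ξ).Modules :=
  ⟨PresheafOfModules.ofPresheaf (R := (sch 𝒳 ξ).ringCatSheaf.obj) (descAb P F ξ)
    fun _ _ f r m => sRes_smul f.unop.le r m, descAb_isSheaf P F ξ⟩

theorem descObj_mres {W W' : (sch 𝒳 ξ).Opens} (h : W' ≤ W) (a : SFam P F ξ W) :
    (show SFam P F ξ W' from M1.mres (descObj P F ξ) h a) = sRes h a := rfl

variable {P F ξ}

theorem descMap_le {ξ' : 𝒳.obj} (φ : ξ' ⟶ ξ) {g : sch 𝒳 ξ' ⟶ sch 𝒳 ξ} (hg : bmap 𝒳 φ = g)
    (U : (sch 𝒳 ξ).Opens) : g ⁻¹ᵁ U ≤ bmap 𝒳 φ ⁻¹ᵁ U := hg ▸ le_rfl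

/-- The comparison map of the descended module. -/
noncomputable def descMap {ξ' : 𝒳.obj} (φ : ξ' ⟶ ξ) {g : sch 𝒳 ξ' ⟶ sch 𝒳 ξ} (hg : bmap 𝒳 φ = g) :
    descObj P F ξ ⟶ (Scheme.Modules.pushforward g).obj (descObj P F ξ') :=
  ⟨PresheafOfModules.homMk
    { app := fun W => AddCommGrpCat.ofHom (sMap φ (descMap_le φ hg W.unop)).toAddMonoidHom
      naturality := fun W W' f => by
        refine AddCommGrpCat.hom_ext (AddMonoidHom.ext fun a => ?_)
        show sMap φ (descMap_le φ hg W'.unop) (sRes f.unop.le (show SFam P F ξ W.unop from a)) =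
          sRes (g.preimage_mono f.unop.le) (sMap φ (descMap_le φ hg W.unop) a)
        rw [sRes_eq, sRes_eq,
          sMap_comp φ (𝟙 ξ) (Category.comp_id _) (le_id_preimage f.unop.le) (descMap_le φ hg W'.unop)
            ((g.preimage_mono f.unop.le).trans (descMap_le φ hg W.unop)),
          sMap_comp (𝟙 ξ') φ (Category.id_comp _) (descMap_le φ hg W.unop)
            (le_id_preimage (g.preimage_mono f.unop.le))
            ((g.preimage_mono f.unop.le).trans (descMap_le φ hg W.unop))] }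
    fun W r a => by
      show sMap φ (descMap_le φ hg W.unop) ((show Γ(sch 𝒳 ξ, W.unop) from r) • (show SFam P F ξ W.unop from a)) =
        g.app W.unop r • sMap φ (descMap_le φ hg W.unop) a
      rw [LinearMap.map_smulₛₗ]
      refine congrArg (· • _) ?_
      subst hg
      rw [Scheme.Hom.app_eq_appLE]⟩

theorem descMap_app {ξ' : 𝒳.obj} (φ : ξ' ⟶ ξ) {g : sch 𝒳 ξ' ⟶ sch 𝒳 ξ} (hg : bmap 𝒳 φ = g)
    (U : (sch 𝒳 ξ).Opens) (a : SFam P F ξ U) :
    (show SFam P F ξ' (g ⁻¹ᵁ U) from (descMap φ hg).app U a) = sMap φ (descMap_le φ hg U) a := rfl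

variable (P F)

/-- The module descended from flat data. -/
noncomputable def desc : Mod 𝒳 where
  obj := descObj P F
  map φ _ hg := descMap φ hg
  map_id ξ := by
    refine Scheme.Modules.hom_ext _ _ fun U => ConcreteCategory.hom_ext _ _ fun s => ?_
    simp only [Scheme.Modules.Hom.comp_app, Scheme.Modules.pushforwardId_hom_app_app, Category.comp_id,
      Scheme.Modules.Hom.id_app]
    exact sMap_id _ (show SFam P F ξ U from s)
  map_comp {ξ'' ξ' ξ} ψ φ {h g} hh hg := by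
    refine Scheme.Modules.hom_ext _ _ fun U => ConcreteCategory.hom_ext _ _ fun s => ?_
    simp only [Scheme.Modules.Hom.comp_app, Scheme.Modules.pushforwardComp_hom_app_app,
      Scheme.Modules.pushforward_map_app, Category.comp_id]
    exact (sMap_comp ψ φ rfl (descMap_le φ hg U) (descMap_le ψ hh (g ⁻¹ᵁ U)) _ (show SFam P F ξ U from s)).symm

theorem desc_mapTop {ξ' ξ : 𝒳.obj} (φ : ξ' ⟶ ξ) (a : SFam P F ξ ⊤) :
    (show SFam P F ξ' ⊤ from (desc P F).mapTop φ a) = sT φ a := by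
  show sMap φ _ a = sMap φ _ a
  rfl

theorem isLocQCoh_desc : (desc P F).IsLocQCoh := by
  intro ξ
  refine M1.isQCoh_of_loc_affine _ (fun U hU r t => ?_) fun U hU r t ht => ?_
  all_goals
    obtain ⟨η, φ, hη, hi, hr⟩ := exists_piece P.grpd ξ hU
    obtain ⟨η', φ', hη', hi', hr'⟩ := exists_piece P.grpd ξ (hU.basicOpen r)
    have hle : (sch 𝒳 ξ).basicOpen r ≤ U := (sch 𝒳 ξ).basicOpen_le r
    obtain ⟨l, hl⟩ := exists_piece_factor P.grpd (ψ := φ') (φ' := φ) (by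
      rw [← Scheme.Hom.coe_opensRange, ← Scheme.Hom.coe_opensRange, hr, hr']
      exact hle)
    haveI : IsOpenImmersion (bmap 𝒳 l) := by
      haveI : IsOpenImmersion (bmap 𝒳 l ≫ bmap 𝒳 φ) := by rw [← bmap_comp, hl]; infer_instance
      exact IsOpenImmersion.of_comp _ (bmap 𝒳 φ)
    let c : Γ(sch 𝒳 η, ⊤) := (bmap 𝒳 φ).appLE U ⊤ (le_preimage φ hr) r
    have hlr : (bmap 𝒳 l).opensRange = (sch 𝒳 η).basicOpen c := by
      rw [Scheme.basicOpen_appLE, top_inf_eq]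
      refine Opens.ext ?_
      show Set.range (bmap 𝒳 l) = bmap 𝒳 φ ⁻¹' ((sch 𝒳 ξ).basicOpen r : Set _)
      rw [← hr', Scheme.Hom.coe_opensRange, ← hl, bmap_comp]
      show Set.range (bmap 𝒳 l) = bmap 𝒳 φ ⁻¹' Set.range (bmap 𝒳 φ ∘ bmap 𝒳 l)
      rw [Set.range_comp, Set.preimage_image_eq _ (bmap 𝒳 φ).isOpenEmbedding.injective]
    have hloc := isLocalization_piece l c hlr
    have hbc := isBC_sT (P := P) (F := F) P.grpd l
    have hb := sMap_piece_bijective (P := P) (F := F) φ hr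
    have hb' := sMap_piece_bijective (P := P) (F := F) φ' hr'
    have hsq : ∀ m : SFam P F ξ U, sMap φ' (le_preimage φ' hr') (sRes hle m) =
        sT l (sMap φ (le_preimage φ hr) m) := fun m => by
      rw [sRes_eq, sMap_comp φ' (𝟙 ξ) (Category.comp_id _) (le_id_preimage hle) (le_preimage φ' hr')
        ((le_preimage φ' hr').trans ((bmap 𝒳 φ').preimage_mono hle))]
      exact (sMap_comp l φ hl (le_preimage φ hr) le_top _ m).symm
    have hsc : ∀ n : ℕ, (bmap 𝒳 φ').appLE _ ⊤ (le_preimage φ' hr') (M1.ores hle r ^ n) =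
        (bmap 𝒳 l).appTop (c ^ n) := fun n => by
      rw [map_pow, map_pow]
      congr 1
      have e₁ := congr($((bmap 𝒳 φ').map_appLE (le_preimage φ' hr') (homOfLE hle).op) r)
      refine e₁.trans ?_
      rw [← appLE_top (bmap 𝒳 l) le_top]
      exact (appLE_bmap_comp l φ hl (le_preimage φ hr) le_top _ r).symm
  · obtain ⟨n, m, hm⟩ := hbc.loc_surj hloc (sMap φ' (le_preimage φ' hr') (show SFam P F ξ _ from t))
    obtain ⟨t₀, ht₀⟩ := hb.2 m
    refine ⟨n, t₀, hb'.1 ?_⟩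
    show sMap φ' (le_preimage φ' hr') (sRes hle t₀) =
      sMap φ' (le_preimage φ' hr') ((M1.ores hle r ^ n) • (show SFam P F ξ _ from t))
    rw [hsq, ht₀, LinearMap.map_smulₛₗ, hm, ← map_pow]
    erw [hsc]
  · obtain ⟨k, hk⟩ := hbc.loc_inj hloc (sMap φ (le_preimage φ hr) (show SFam P F ξ _ from t)) (by
      rw [← hsq]
      show sMap φ' (le_preimage φ' hr') (show SFam P F ξ _ from M1.mres (descObj P F ξ) hle t) = 0
      erw [ht]
      exact _root_.map_zero _)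
    refine ⟨k, hb.1 ?_⟩
    show sMap φ (le_preimage φ hr) (r ^ k • (show SFam P F ξ U from t)) = sMap φ (le_preimage φ hr) 0
    rw [LinearMap.map_smulₛₗ, map_pow, _root_.map_zero]
    exact hk

end Groth.Agent.StQC14
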