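import Groth.Agent.Lib.StQC14.Desc

/-!
# Quasi-coherent modules descended from flat data: cartesianity and comparison
-/

universe w v u

open CategoryTheory CategoryTheory.Functor CategoryTheory.Limits AlgebraicGeometry Opposite TopologicalSpace
open scoped TensorProduct

set_option linter.style.haveILetI false
set_option linter.unusedSectionVars false
set_option backward.isDefEq.respectTransparency false
set_option backward.isDefEq.respectTransparency.types false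

namespace Groth.Agent.StQC14

open StMod

theorem isBC_of_bijective' {A B : Type u} [CommRing A] [CommRing B] {σ : A →+* B} {M N : Type u} [AddCommGroup M]
    [Module A M] [AddCommGroup N] [Module B N] {f : M →ₛₗ[σ] N} (hσ : Function.Bijective σ)
    (hf : Function.Bijective f) : IsBC f := by
  letI := σ.toAlgebra
  letI := Module.compHom N σ
  haveI : IsScalarTower A B N := IsScalarTower.of_algebraMap_smul fun _ _ => rfl
  let fl : M →ₗ[A] N :=
    { toFun := fun x => f x, map_add' := fun x y => f.map_add x y, map_smul' := fun a x => f.map_smulₛₗ a x }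
  let L : B ⊗[A] M →ₗ[B] N := TensorProduct.AlgebraTensorModule.lift ((LinearMap.lsmul B (M →ₗ[A] N)).flip fl)
  have hL : ∀ b m, L (b ⊗ₜ m) = b • f m := fun b m => rfl
  have h1 : ∀ x : B ⊗[A] M, ∃ m, x = 1 ⊗ₜ m := fun x => by
    induction x using TensorProduct.induction_on with
    | zero => exact ⟨0, (TensorProduct.tmul_zero _ _).symm⟩
    | tmul b m =>
      obtain ⟨a, rfl⟩ := hσ.2 b
      refine ⟨a • m, ?_⟩
      rw [← TensorProduct.smul_tmul, Algebra.smul_def, mul_one]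
      rfl
    | add a b ha hb =>
      obtain ⟨m, rfl⟩ := ha
      obtain ⟨m', rfl⟩ := hb
      exact ⟨m + m', (TensorProduct.tmul_add _ _ _).symm⟩
  refine IsBaseChange.of_equiv (LinearEquiv.ofBijective L ⟨(injective_iff_map_eq_zero L).2 fun x hx => ?_,
    fun n => ?_⟩) fun m => (hL 1 m).trans (one_smul _ _)
  · obtain ⟨m, rfl⟩ := h1 x
    rw [hL, one_smul] at hx
    rw [hf.1 (hx.trans (_root_.map_zero f).symm), TensorProduct.tmul_zero]
  · obtain ⟨m, rfl⟩ := hf.2 n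
    exact ⟨1 ⊗ₜ m, (hL 1 m).trans (one_smul _ _)⟩

variable {S : Scheme.{u}} {𝒳 : BasedCategory.{v, w} (Over S)} (P : FPres 𝒳) (F : FlatFun 𝒳)

theorem appLE_piece_bijective {η ξ : 𝒳.obj} (φ : η ⟶ ξ) [IsOpenImmersion (bmap 𝒳 φ)] {W : (sch 𝒳 ξ).Opens}
    (hW : (bmap 𝒳 φ).opensRange = W) :
    Function.Bijective ((bmap 𝒳 φ).appLE W ⊤ (le_preimage φ hW)) := by
  haveI : IsIso ((bmap 𝒳 φ).appLE W ⊤ (le_preimage φ hW)) := by
    haveI := (bmap 𝒳 φ).isIso_app W hW.ge
    rw [Scheme.Hom.appLE]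
    haveI : IsIso (homOfLE (le_preimage φ hW)) :=
      ⟨homOfLE le_top, Subsingleton.elim _ _, Subsingleton.elim _ _⟩
    haveI : IsIso ((sch 𝒳 η).presheaf.map (homOfLE (le_preimage φ hW)).op) := Functor.map_isIso _ _
    infer_instance
  exact (asIso ((bmap 𝒳 φ).appLE W ⊤ (le_preimage φ hW))).commRingCatIsoToRingEquiv.bijective

theorem isCartesian_desc : (desc P F).IsCartesian := by
  intro ξ' ξ φ g hg
  subst hg
  refine PullBC11.isIso_of_isBC _ (isLocQCoh_desc P F ξ) (isLocQCoh_desc P F ξ') fun y => ?_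
  obtain ⟨_, ⟨W, hW, rfl⟩, hyW, -⟩ :=
    (sch 𝒳 ξ).isBasis_affineOpens.exists_subset_of_mem_open (Set.mem_univ (bmap 𝒳 φ y)) isOpen_univ
  obtain ⟨_, ⟨V, hV, rfl⟩, hyV, hVW⟩ := (sch 𝒳 ξ').isBasis_affineOpens.exists_subset_of_mem_open
    (show y ∈ ((bmap 𝒳 φ ⁻¹ᵁ W : (sch 𝒳 ξ').Opens) : Set _) from hyW) (bmap 𝒳 φ ⁻¹ᵁ W).isOpen
  have hle : V ≤ bmap 𝒳 φ ⁻¹ᵁ W := hVW
  refine ⟨W, hW, V, hV, hle, hyV, ?_⟩
  obtain ⟨η, ψ, hη, hi, hr⟩ := exists_piece P.grpd ξ hW
  obtain ⟨η', ψ', hη', hi', hr'⟩ := exists_piece P.grpd ξ' hV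
  obtain ⟨l, hl⟩ := exists_piece_factor P.grpd (ψ := ψ' ≫ φ) (φ' := ψ) (by
    rintro _ ⟨q, rfl⟩
    rw [← Scheme.Hom.coe_opensRange, hr, bmap_comp]
    refine hle ?_
    rw [← hr']
    exact ⟨q, rfl⟩)
  have hW' : ⊤ ≤ bmap 𝒳 (ψ' ≫ φ) ⁻¹ᵁ W := top_le_comp rfl hle (le_preimage ψ' hr')
  have hc : IsBC (sMap (P := P) (F := F) (ψ' ≫ φ) hW') := by
    refine IsBC.comp ?_ (isBC_of_bijective' (appLE_piece_bijective ψ hr) (sMap_piece_bijective ψ hr))
      (isBC_sT P.grpd l) fun a => sMap_comp l ψ hl (le_preimage ψ hr) le_top hW' a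
    refine RingHom.ext fun a => ?_
    rw [RingHom.comp_apply]
    erw [← appLE_top (bmap 𝒳 l) le_top]
    exact appLE_bmap_comp l ψ hl (le_preimage ψ hr) le_top hW' a
  have hb := appLE_piece_bijective ψ' hr'
  have h : IsBC (sMap (P := P) (F := F) φ hle) := by
    refine IsBC.of_comp_right ?_ (isBC_of_bijective' hb (sMap_piece_bijective ψ' hr')) hc
      (RingHom.Flat.of_bijective hb) (fun p => ?_) fun a => sMap_comp ψ' φ rfl hle (le_preimage ψ' hr') hW' a
    · exact RingHom.ext fun a => appLE_bmap_comp ψ' φ rfl hle (le_preimage ψ' hr') hW' a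
    · exact (PrimeSpectrum.comapEquiv (RingEquiv.ofBijective _ hb)).symm.surjective p
  unfold PullBC11.IsBC
  letI := ((bmap 𝒳 φ).appLE W V hle).hom.toAlgebra
  letI := PullBC11.baseModule (g := bmap 𝒳 φ) (descObj P F ξ') hle
  haveI : IsScalarTower Γ(sch 𝒳 ξ, W) Γ(sch 𝒳 ξ', V) Γ(descObj P F ξ', V) :=
    IsScalarTower.of_algebraMap_smul fun _ _ => rfl
  have e : PullBC11.sect (descMap (P := P) (F := F) φ rfl) hle =
      ({ toFun := fun s => sMap φ hle (show SFam P F ξ W from s)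
         map_add' := fun a b => (sMap φ hle).map_add a b
         map_smul' := fun c a => (sMap φ hle).map_smulₛₗ c a } :
        Γ(descObj P F ξ, W) →ₗ[Γ(sch 𝒳 ξ, W)] Γ(descObj P F ξ', V)) := by
    refine LinearMap.ext fun s => ?_
    show sRes hle (sMap φ (descMap_le φ rfl W) (show SFam P F ξ W from s)) = sMap φ hle _
    rw [sRes_eq]
    exact sMap_comp (𝟙 ξ') φ (Category.id_comp _) _ _ _ _
  show IsBaseChange _ (PullBC11.sect (descMap (P := P) (F := F) φ rfl) hle)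
  rw [e]
  exact h

/-- The descended quasi-coherent module. -/
noncomputable def descQ : QCoh 𝒳 := ⟨desc P F, isCartesian_desc P F, isLocQCoh_desc P F⟩

variable {P F} {z z' : 𝒳.obj} [IsAffine (sch 𝒳 z)] [IsAffine (sch 𝒳 z')]

theorem res_injective {k : z' ⟶ z} (hk : FF k) : Function.Injective (F.res k) :=
  hk.injective_isBC (F.isBC k hk.1)

/-- Evaluation does not depend on the morphism to the chart. -/
theorem ev_sEval_eq (r₁ r₂ : z ⟶ P.b) (a : SFam P F z ⊤) : ev P F r₁ (sEval r₁ a) = ev P F r₂ (sEval r₂ a) := by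
  obtain ⟨w, hw, ω, t, hω, e₁, e₂⟩ := P.pairs r₁ r₂
  refine res_injective hω ?_
  rw [← ev_pmap P F ω (r' := ω ≫ r₁) rfl, ← ev_pmap P F ω (r' := ω ≫ r₂) rfl]
  show ev P F _ (pmap P F ω rfl ((toFam a).1 (idTst r₁))) = ev P F _ (pmap P F ω rfl ((toFam a).1 (idTst r₂)))
  rw [(toFam a).nat (idTst r₁) ω ω (Category.comp_id _) le_top _ rfl,
    (toFam a).nat (idTst r₂) ω ω (Category.comp_id _) le_top _ rfl, ← (toFam a).trans_eq ω le_top _ _ t e₁ e₂,
    ev_θ]

theorem res_ev_sEval (k : z' ⟶ z) (r : z ⟶ P.b) (a : SFam P F z ⊤) :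
    F.res k (ev P F r (sEval r a)) = ev P F (k ≫ r) (sEval (k ≫ r) (sT k a)) := by
  rw [← ev_pmap P F k (r' := k ≫ r) rfl]
  exact congrArg _ (sEval_sMap r k rfl le_top a).symm

variable (z) in
theorem exists_eG (a : SFam P F z ⊤) : ∃ x : F.G z, ∀ {z' : 𝒳.obj} [IsAffine (sch 𝒳 z')] (k : z' ⟶ z)
    (r : z' ⟶ P.b), F.res k x = ev P F r (sEval r (sT k a)) := by
  obtain ⟨z₀, hz₀, κ, hκ, ⟨r₀⟩⟩ := P.cover z
  haveI := hκ.1
  haveI := hκ.2
  obtain ⟨ζ, π₁, π₂, hζ, hc, sq⟩ := exists_pullback P.grpd κ κ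
  have hf₁ : Flat (bmap 𝒳 π₁) := MorphismProperty.of_isPullback sq.flip inferInstance
  obtain ⟨x, hx⟩ := (F.isBC κ hκ.1).exists_of_eq (flat_appTop _) (surjective_comap_appTop _)
    (i₁ := (bmap 𝒳 π₁).appTop.hom) (i₂ := (bmap 𝒳 π₂).appTop.hom) (isPushout_appTop_of_isPullback sq)
    (g₁ := F.res π₁) (g₂ := F.res π₂) (appTop_bmap_comp π₁ κ) (g := F.res (π₁ ≫ κ))
    (F.isBC _ (by rw [bmap_comp]; infer_instance)) (fun m => (F.res_comp π₁ κ m).symm)
    (fun m => by rw [hc, F.res_comp]) (x := ev P F r₀ (sEval r₀ (sT κ a))) (by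
      rw [res_ev_sEval, res_ev_sEval, sT_comp π₁ κ rfl, sT_comp π₂ κ hc.symm]
      exact ev_sEval_eq _ _ _)
  refine ⟨x, fun {z'} _ k r => ?_⟩
  obtain ⟨ζ', s₁, s₂, hζ', hc', sq'⟩ := exists_pullback P.grpd κ k
  refine res_injective (hκ.of_isPullback sq') ?_
  rw [← F.res_comp, ← hc', F.res_comp, hx, res_ev_sEval, res_ev_sEval, sT_comp s₁ κ rfl,
    sT_comp s₂ k hc'.symm]
  exact ev_sEval_eq _ _ _

theorem eG_unique {x y : F.G z} (h : ∀ {z' : 𝒳.obj} [IsAffine (sch 𝒳 z')] (k : z' ⟶ z) (_ : z' ⟶ P.b),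
    F.res k x = F.res k y) : x = y := by
  obtain ⟨z₀, hz₀, κ, hκ, ⟨r₀⟩⟩ := P.cover z
  exact res_injective hκ (h κ r₀)

variable (P F z) in
/-- The comparison of the descended module with the data. -/
noncomputable def eG : SFam P F z ⊤ →ₗ[Γ(sch 𝒳 z, ⊤)] F.G z where
  toFun a := (exists_eG z a).choose
  map_add' a b := eG_unique (P := P) fun {z'} _ k r => by
    rw [_root_.map_add, (exists_eG z _).choose_spec k r, (exists_eG z _).choose_spec k r,
      (exists_eG z _).choose_spec k r, _root_.map_add, _root_.map_add, _root_.map_add]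
  map_smul' c a := eG_unique (P := P) fun {z'} _ k r => by
    rw [RingHom.id_apply, LinearMap.map_smulₛₗ, (exists_eG z _).choose_spec k r, (exists_eG z _).choose_spec k r,
      LinearMap.map_smulₛₗ, _root_.map_smul, _root_.map_smul]

theorem res_eG (k : z' ⟶ z) (r : z' ⟶ P.b) (a : SFam P F z ⊤) :
    F.res k (eG P F z a) = ev P F r (sEval r (sT k a)) :=
  (exists_eG z a).choose_spec k r

theorem eG_sT (φ : z' ⟶ z) (a : SFam P F z ⊤) : eG P F z' (sT φ a) = F.res φ (eG P F z a) :=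
  eG_unique (P := P) fun {w} _ k r => by
    rw [res_eG k r, ← F.res_comp, res_eG (k ≫ φ) r, sT_comp k φ rfl]

theorem eG_eq (r : z ⟶ P.b) (a : SFam P F z ⊤) : eG P F z a = ev P F r (sEval r a) := by
  have h := res_eG (𝟙 z) r a
  rwa [F.res_id, sT_id] at h

theorem eG_bijective (r : z ⟶ P.b) (hr : Flat (bmap 𝒳 r)) : Function.Bijective (eG P F z) := by
  rw [show (eG P F z : SFam P F z ⊤ → F.G z) = ev P F r ∘ sEval r from funext fun a => eG_eq r a]
  exact (ev_bijective P F r hr).comp (sEval_bijective r)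

theorem eG_bijective_chart : Function.Bijective (eG P F P.b) :=
  eG_bijective (𝟙 P.b) (by rw [bmap_id]; infer_instance)

end Groth.Agent.StQC14
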