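import Groth.Agent.Lib.StQC14.Hom
import Mathlib.AlgebraicGeometry.Morphisms.Flat
import Mathlib.AlgebraicGeometry.Morphisms.UnderlyingMap

/-!
# Descent of morphisms of quasi-coherent modules from a chart
-/

universe w v u

open CategoryTheory CategoryTheory.Functor CategoryTheory.Limits AlgebraicGeometry Opposite

set_option linter.style.haveILetI false
set_option linter.unusedSectionVars false
set_option backward.isDefEq.respectTransparency false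
set_option backward.isDefEq.respectTransparency.types false

namespace Groth.Agent.StQC14

open StMod

variable {S : Scheme.{u}} {𝒳 : BasedCategory.{v, w} (Over S)}

section Rings

variable {X Y : Scheme.{u}} (g : X ⟶ Y) [IsAffine X] [IsAffine Y]

theorem flat_appTop [Flat g] : g.appTop.hom.Flat := HasRingHomProperty.iff_of_isAffine.1 ‹Flat g›

theorem surjective_comap_appTop [Surjective g] : Function.Surjective (PrimeSpectrum.comap g.appTop.hom) := by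
  intro p
  obtain ⟨y, rfl⟩ := Y.isoSpec.hom.surjective p
  obtain ⟨x, rfl⟩ := g.surjective y
  exact ⟨X.isoSpec.hom x, congr($(Scheme.isoSpec_hom_naturality g) x)⟩

end Rings

/-- Faithfully flat morphisms of objects. -/
def FF {ξ' ξ : 𝒳.obj} (φ : ξ' ⟶ ξ) : Prop := Flat (bmap 𝒳 φ) ∧ Surjective (bmap 𝒳 φ)

theorem FF.id (ξ : 𝒳.obj) : FF (𝟙 ξ) := by
  unfold FF
  rw [bmap_id]
  exact ⟨inferInstance, inferInstance⟩

theorem exists_pullback (h : FibCat.IsFibGrpd 𝒳.p) {ξ ξ' ξ'' : 𝒳.obj} (φ : ξ' ⟶ ξ) (ψ : ξ'' ⟶ ξ)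
    [IsAffine (sch 𝒳 ξ)] [IsAffine (sch 𝒳 ξ')] [IsAffine (sch 𝒳 ξ'')] :
    ∃ (ζ : 𝒳.obj) (π₁ : ζ ⟶ ξ') (π₂ : ζ ⟶ ξ''), IsAffine (sch 𝒳 ζ) ∧ π₁ ≫ φ = π₂ ≫ ψ ∧
      IsPullback (bmap 𝒳 π₁) (bmap 𝒳 π₂) (bmap 𝒳 φ) (bmap 𝒳 ψ) := by
  obtain ⟨ζ, π₁, e, he⟩ := exists_lift_to h ξ' (pullback.fst (bmap 𝒳 φ) (bmap 𝒳 ψ))
  have hg : (e.hom ≫ pullback.snd (bmap 𝒳 φ) (bmap 𝒳 ψ)) ≫ bmap 𝒳 ψ = bmap 𝒳 (π₁ ≫ φ) := by
    rw [bmap_comp, he, Category.assoc, Category.assoc, pullback.condition]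
  obtain ⟨π₂, h₂, hb⟩ := exists_factor h ψ (π₁ ≫ φ) _ hg
  exact ⟨ζ, π₁, π₂, IsAffine.of_isIso e.hom, h₂.symm,
    (IsPullback.of_hasPullback _ _).of_iso e.symm (Iso.refl _) (Iso.refl _) (Iso.refl _)
      (by simp [he]) (by simp [hb]) (by simp) (by simp)⟩

theorem FF.of_isPullback {ζ ξ ξ' ξ'' : 𝒳.obj} {φ : ξ' ⟶ ξ} {ψ : ξ'' ⟶ ξ} {π₁ : ζ ⟶ ξ'} {π₂ : ζ ⟶ ξ''}
    (h : IsPullback (bmap 𝒳 π₁) (bmap 𝒳 π₂) (bmap 𝒳 φ) (bmap 𝒳 ψ)) (hφ : FF φ) : FF π₂ :=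
  ⟨MorphismProperty.of_isPullback h hφ.1, MorphismProperty.of_isPullback h hφ.2⟩

section Push

variable {F G : Mod 𝒳} (hF : isQCoh 𝒳 F) (hG : isQCoh 𝒳 G)

/-- Linear maps on global sections of the restrictions. -/
abbrev Lin (F G : Mod 𝒳) (ξ : 𝒳.obj) := Γ(F.obj ξ, ⊤) →ₗ[Γ(sch 𝒳 ξ, ⊤)] Γ(G.obj ξ, ⊤)

variable {ξ'' ξ' ξ : 𝒳.obj} [IsAffine (sch 𝒳 ξ)] [IsAffine (sch 𝒳 ξ')] [IsAffine (sch 𝒳 ξ'')]

include hF in
theorem exists_push (φ : ξ' ⟶ ξ) (h : Lin F G ξ) :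
    ∃ h' : Lin F G ξ', ∀ x, h' (F.mapTop φ x) = G.mapTop φ (h x) :=
  (isBC_secL φ hF).exists_lift
    { toFun := fun x => G.mapTop φ (h x)
      map_add' := fun x y => by rw [_root_.map_add, G.mapTop_add]
      map_smul' := fun r x => by rw [_root_.map_smul, G.mapTop_smul] }

/-- Base change of a linear map along a morphism of affine objects. -/
noncomputable def push (φ : ξ' ⟶ ξ) (h : Lin F G ξ) : Lin F G ξ' := (exists_push hF φ h).choose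

theorem push_spec (φ : ξ' ⟶ ξ) (h : Lin F G ξ) (x : Γ(F.obj ξ, ⊤)) :
    push hF φ h (F.mapTop φ x) = G.mapTop φ (h x) :=
  (exists_push hF φ h).choose_spec x

theorem eq_push (φ : ξ' ⟶ ξ) (h : Lin F G ξ) (h' : Lin F G ξ')
    (e : ∀ x, h' (F.mapTop φ x) = G.mapTop φ (h x)) : h' = push hF φ h :=
  (isBC_secL φ hF).ext _ _ fun x => (e x).trans (push_spec hF φ h x).symm

theorem push_comp (π : ξ'' ⟶ ξ') (φ : ξ' ⟶ ξ) (h : Lin F G ξ) :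
    push hF π (push hF φ h) = push hF (π ≫ φ) h :=
  eq_push hF _ _ _ fun x => by rw [F.mapTop_comp, push_spec, push_spec, G.mapTop_comp]

theorem push_id (h : Lin F G ξ) : push hF (𝟙 ξ) h = h :=
  (eq_push hF _ _ _ fun x => by rw [F.mapTop_id, G.mapTop_id]).symm

include hG in
theorem push_injective {φ : ξ' ⟶ ξ} (hφ : FF φ) : Function.Injective (push (G := G) hF φ) := by
  intro h h' e
  haveI := hφ.1
  haveI := hφ.2
  refine LinearMap.ext fun x => (isBC_secL φ hG).injective (flat_appTop _) (surjective_comap_appTop _) ?_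
  show G.mapTop φ (h x) = G.mapTop φ (h' x)
  rw [← push_spec hF, ← push_spec hF, e]

include hG in
theorem exists_push_eq (h₀ : FibCat.IsFibGrpd 𝒳.p) {φ : ξ' ⟶ ξ} (hφ : FF φ) (h' : Lin F G ξ')
    (e : ∀ {ζ : 𝒳.obj} [IsAffine (sch 𝒳 ζ)] (π₁ π₂ : ζ ⟶ ξ'), π₁ ≫ φ = π₂ ≫ φ →
      push hF π₁ h' = push hF π₂ h') :
    ∃ h : Lin F G ξ, push hF φ h = h' := by
  haveI := hφ.1
  haveI := hφ.2
  obtain ⟨ζ, π₁, π₂, hζ, hcomm, hpb⟩ := exists_pullback h₀ φ φ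
  have hpo : IsPushout (bmap 𝒳 φ).appTop (bmap 𝒳 φ).appTop (bmap 𝒳 π₁).appTop (bmap 𝒳 π₂).appTop :=
    isPushout_appTop_of_isPullback hpb
  have hρ : (bmap 𝒳 π₁).appTop.hom.comp (bmap 𝒳 φ).appTop.hom = (bmap 𝒳 (π₁ ≫ φ)).appTop.hom :=
    congrArg CommRingCat.Hom.hom
      (((bmap 𝒳 π₁).comp_appTop (bmap 𝒳 φ)).symm.trans (congrArg Scheme.Hom.appTop (bmap_comp π₁ φ).symm))
  have key : ∀ x : Γ(F.obj ξ, ⊤), ∃ y, G.mapTop φ y = h' (F.mapTop φ x) := fun x =>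
    (isBC_secL φ hG).exists_of_eq (flat_appTop _) (surjective_comap_appTop _)
      (i₁ := (bmap 𝒳 π₁).appTop.hom) (i₂ := (bmap 𝒳 π₂).appTop.hom) hpo
      (g₁ := secL G π₁) (g₂ := secL G π₂) hρ (g := secL G (π₁ ≫ φ))
      (isBC_secL _ hG) (fun m => (G.mapTop_comp π₁ φ m).symm)
      (fun m => by show G.mapTop π₂ (G.mapTop φ m) = G.mapTop (π₁ ≫ φ) m; rw [hcomm, G.mapTop_comp])
      (by
        show G.mapTop π₁ (h' (F.mapTop φ x)) = G.mapTop π₂ (h' (F.mapTop φ x))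
        rw [← push_spec hF, ← push_spec hF, e π₁ π₂ hcomm, ← F.mapTop_comp, hcomm, F.mapTop_comp])
  choose y hy using key
  have hinj := (isBC_secL φ hG).injective (flat_appTop _) (surjective_comap_appTop _)
  refine ⟨{ toFun := y, map_add' := fun a b => hinj ?_, map_smul' := fun r a => hinj ?_ },
    (eq_push hF _ _ _ fun x => (hy x).symm).symm⟩
  · rw [secL_apply, secL_apply, G.mapTop_add, hy, hy, hy, F.mapTop_add, _root_.map_add]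
  · rw [secL_apply, secL_apply, RingHom.id_apply, G.mapTop_smul, hy, hy, F.mapTop_smul, _root_.map_smul]

end Push

/-- A quasi-compact chart with quasi-compact relations. -/
structure Pres (𝒳 : BasedCategory.{v, w} (Over S)) where
  b : 𝒳.obj
  c : 𝒳.obj
  [affine_b : IsAffine (sch 𝒳 b)]
  [affine_c : IsAffine (sch 𝒳 c)]
  p : c ⟶ b
  q : c ⟶ b
  cover : ∀ (ξ : 𝒳.obj) [IsAffine (sch 𝒳 ξ)], ∃ (ξ' : 𝒳.obj) (_ : IsAffine (sch 𝒳 ξ')) (π : ξ' ⟶ ξ),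
    FF π ∧ Nonempty (ξ' ⟶ b)
  pairs : ∀ {ξ : 𝒳.obj} [IsAffine (sch 𝒳 ξ)] (r s : ξ ⟶ b),
    ∃ (ξ' : 𝒳.obj) (_ : IsAffine (sch 𝒳 ξ')) (π : ξ' ⟶ ξ) (t : ξ' ⟶ c), FF π ∧ t ≫ p = π ≫ r ∧ t ≫ q = π ≫ s

attribute [instance] Pres.affine_b Pres.affine_c

variable {F G : Mod 𝒳}

theorem Pres.push_eq (P : Pres 𝒳) (hF : isQCoh 𝒳 F) (hG : isQCoh 𝒳 G) {ψ : Lin F G P.b}
    (hψ : push hF P.p ψ = push hF P.q ψ) {ξ : 𝒳.obj} [IsAffine (sch 𝒳 ξ)] (r s : ξ ⟶ P.b) :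
    push hF r ψ = push hF s ψ := by
  obtain ⟨ξ', _, π, t, hπ, h₁, h₂⟩ := P.pairs r s
  refine push_injective hF hG hπ ?_
  rw [push_comp, push_comp, ← h₁, ← h₂, ← push_comp hF t, ← push_comp hF t, hψ]

/-- A map on the chart with equal pullbacks to the relations is a morphism of modules. -/
theorem Pres.exists_hom (P : Pres 𝒳) (h₀ : FibCat.IsFibGrpd 𝒳.p) (hF : isQCoh 𝒳 F) (hG : isQCoh 𝒳 G)
    (ψ : Lin F G P.b) (hψ : push hF P.p ψ = push hF P.q ψ) :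
    ∃ u : F ⟶ G, ∀ x, (u.app P.b).app ⊤ x = ψ x := by
  have hex : ∀ ξ : 𝒳.obj, IsAffine (sch 𝒳 ξ) → ∃ l : Lin F G ξ,
      ∀ {ζ : 𝒳.obj} [IsAffine (sch 𝒳 ζ)] [IsAffine (sch 𝒳 ξ)] (φ : ζ ⟶ ξ) (r : ζ ⟶ P.b),
        push hF φ l = push hF r ψ := by
    intro ξ hξ
    obtain ⟨ξ', _, π, hπ, ⟨r⟩⟩ := P.cover ξ
    obtain ⟨l, hl⟩ := exists_push_eq hF hG h₀ hπ (push hF r ψ) fun π₁ π₂ _ => by
      rw [push_comp, push_comp]
      exact P.push_eq hF hG hψ _ _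
    refine ⟨l, fun {ζ} _ _ φ r₀ => ?_⟩
    obtain ⟨ζ', k, π', _, hk, hpb⟩ := exists_pullback h₀ π φ
    refine push_injective hF hG (hπ.of_isPullback hpb) ?_
    rw [push_comp, push_comp, ← hk, ← push_comp hF k, hl, push_comp]
    exact P.push_eq hF hG hψ _ _
  choose l hl using hex
  obtain ⟨u, hu⟩ := exists_hom_of_affine h₀ hF hG l fun {ξ' ξ} h' h₁ φ x => by
    rw [← push_spec hF φ (l ξ h₁) x]
    refine LinearMap.congr_fun ?_ _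
    obtain ⟨ζ, _, π, hπ, ⟨r⟩⟩ := P.cover ξ'
    refine push_injective hF hG hπ ?_
    rw [push_comp, hl ξ h₁ (π ≫ φ) r, hl ξ' h' π r]
  refine ⟨u, fun x => ?_⟩
  rw [hu P.b P.affine_b]
  have := hl P.b P.affine_b (𝟙 P.b) (𝟙 P.b)
  rw [push_id, push_id] at this
  rw [this]

/-- A morphism vanishes if it vanishes on the chart. -/
theorem Pres.eq_zero (P : Pres 𝒳) (h₀ : FibCat.IsFibGrpd 𝒳.p) (hF : isQCoh 𝒳 F) (hG : isQCoh 𝒳 G) (u : F ⟶ G)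
    (hu : ∀ x, (u.app P.b).app ⊤ x = 0) : u = 0 := by
  refine hom_ext_affine h₀ hF hG fun ξ hξ x => ?_
  rw [Mod.zero_app]
  obtain ⟨ξ', _, π, hπ, ⟨r⟩⟩ := P.cover ξ
  haveI := hπ.1
  haveI := hπ.2
  refine (isBC_secL π hG).injective (flat_appTop _) (surjective_comap_appTop _) ?_
  show G.mapTop π ((u.app ξ).app ⊤ x) = G.mapTop π 0
  rw [Mod.mapTop_app, G.mapTop_zero]
  suffices h : ∀ y, (u.app ξ').app ⊤ y = 0 from h _
  intro y
  induction (isBC_secL r hF).span y using Submodule.span_induction with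
  | mem y hy =>
    obtain ⟨z, rfl⟩ := hy
    rw [secL_apply, ← Mod.mapTop_app, hu, G.mapTop_zero]
  | zero => exact map_zero _
  | add a b _ _ ha hb => rw [_root_.map_add, ha, hb, add_zero]
  | smul c a _ ha =>
    rw [Scheme.Modules.Hom.app_smul, ha, smul_zero]

end Groth.Agent.StQC14
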