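import Groth.Agent.Lib.StQC14.Pull
import Groth.Agent.Lib.StQC14.Chart

/-!
# Modules descended from flat data: families over test objects
-/

universe w v u

open CategoryTheory CategoryTheory.Functor CategoryTheory.Limits AlgebraicGeometry Opposite TensorProduct

set_option linter.style.haveILetI false
set_option linter.unusedSectionVars false
set_option backward.isDefEq.respectTransparency false
set_option backward.isDefEq.respectTransparency.types false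

namespace Groth.Agent.StQC14

open StMod

section Alg

variable {A B C : Type u} [CommRing A] [CommRing B] [CommRing C] {σ : A →+* B} {τ : B →+* C} {ρ : A →+* C}
  {M N P : Type u} [AddCommGroup M] [Module A M] [AddCommGroup N] [Module B N] [AddCommGroup P] [Module C P]
  {f : M →ₛₗ[σ] N} {g : N →ₛₗ[τ] P} {hc : M →ₛₗ[ρ] P}

theorem isBC_of_bijective {M' : Type u} [AddCommGroup M'] [Module A M'] (e : M →ₗ[A] M')
    (he : Function.Bijective e) : IsBC (σ := RingHom.id A) e := by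
  letI := (RingHom.id A).toAlgebra
  letI := Module.compHom M' (RingHom.id A)
  haveI : IsScalarTower A A M' := IsScalarTower.of_algebraMap_smul fun _ _ => rfl
  exact IsBaseChange.of_equiv ((TensorProduct.lid A M).trans (LinearEquiv.ofBijective e he)) fun m => by
    show e (TensorProduct.lid A M ((1 : A) ⊗ₜ m)) = e m
    rw [TensorProduct.lid_tmul, one_smul]

/-- A semilinear map becomes a base change when it does after a faithfully flat base change. -/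
theorem IsBC.of_comp_right (hρ : τ.comp σ = ρ) (hg : IsBC g) (hh : IsBC hc) (hflat : τ.Flat)
    (hs : Function.Surjective (PrimeSpectrum.comap τ)) (e : ∀ x, g (f x) = hc x) : IsBC f := by
  subst hρ
  letI := σ.toAlgebra
  letI := τ.toAlgebra
  letI : Algebra A C := (τ.comp σ).toAlgebra
  haveI : IsScalarTower A B C := IsScalarTower.of_algebraMap_eq' rfl
  letI := Module.compHom N σ
  haveI : IsScalarTower A B N := IsScalarTower.of_algebraMap_smul fun _ _ => rfl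
  letI := Module.compHom P τ
  haveI : IsScalarTower B C P := IsScalarTower.of_algebraMap_smul fun _ _ => rfl
  letI := Module.compHom P (τ.comp σ)
  haveI : IsScalarTower A C P := IsScalarTower.of_algebraMap_smul fun _ _ => rfl
  haveI : IsScalarTower A B P := IsScalarTower.of_algebraMap_smul fun _ _ => rfl
  haveI : Module.Flat B C := hflat
  haveI : Module.FaithfullyFlat B C := Module.FaithfullyFlat.of_comap_surjective hs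
  let fl : M →ₗ[A] N :=
    { toFun := fun x => f x, map_add' := fun x y => f.map_add x y, map_smul' := fun a x => f.map_smulₛₗ a x }
  let L : B ⊗[A] M →ₗ[B] N := TensorProduct.AlgebraTensorModule.lift ((LinearMap.lsmul B (M →ₗ[A] N)).flip fl)
  have hL : ∀ b m, L (b ⊗ₜ m) = b • f m := fun b m => rfl
  let eg : C ⊗[B] N ≃ₗ[C] P := IsBaseChange.equiv hg
  let eh : C ⊗[A] M ≃ₗ[C] P := IsBaseChange.equiv hh
  let ca : C ⊗[B] (B ⊗[A] M) ≃ₗ[C] C ⊗[A] M := TensorProduct.AlgebraTensorModule.cancelBaseChange A B C C M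
  have key : ∀ z, eg (L.lTensor C z) = eh (ca z) := by
    intro z
    induction z using TensorProduct.induction_on with
    | zero => simp
    | tmul c y =>
      induction y using TensorProduct.induction_on with
      | zero => simp
      | tmul b m =>
        rw [LinearMap.lTensor_tmul, hL, TensorProduct.AlgebraTensorModule.cancelBaseChange_tmul,
          IsBaseChange.equiv_tmul, IsBaseChange.equiv_tmul]
        show c • g (b • f m) = (b • c) • hc m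
        rw [g.map_smulₛₗ, smul_smul, e, mul_comm]
        rfl
      | add a b ha hb => simp only [tmul_add, _root_.map_add, ha, hb]
    | add a b ha hb => simp only [_root_.map_add, ha, hb]
  have hb : Function.Bijective (L.lTensor C) := by
    have h1 : (L.lTensor C : C ⊗[B] (B ⊗[A] M) → C ⊗[B] N) = eg.symm ∘ eh ∘ ca :=
      funext fun z => by simp [← key]
    rw [h1]
    exact eg.symm.bijective.comp (eh.bijective.comp ca.bijective)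
  have hLb : Function.Bijective L :=
    ⟨(Module.FaithfullyFlat.lTensor_injective_iff_injective B C L).1 hb.1,
      (Module.FaithfullyFlat.lTensor_surjective_iff_surjective B C L).1 hb.2⟩
  exact IsBaseChange.of_equiv (LinearEquiv.ofBijective L hLb) fun m => (hL 1 m).trans (one_smul _ _)

end Alg

variable {S : Scheme.{u}} {𝒳 : BasedCategory.{v, w} (Over S)}

theorem FF.injective_isBC {ξ' ξ : 𝒳.obj} [IsAffine (sch 𝒳 ξ)] [IsAffine (sch 𝒳 ξ')] {φ : ξ' ⟶ ξ} (hφ : FF φ)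
    {M N : Type u} [AddCommGroup M] [Module Γ(sch 𝒳 ξ, ⊤) M] [AddCommGroup N] [Module Γ(sch 𝒳 ξ', ⊤) N]
    {f : M →ₛₗ[(bmap 𝒳 φ).appTop.hom] N} (hf : IsBC f) : Function.Injective f := by
  haveI := hφ.1
  haveI := hφ.2
  exact hf.injective (flat_appTop _) (surjective_comap_appTop _)

variable (P : FPres 𝒳) (F : FlatFun 𝒳)

section Pull

variable {w w' : 𝒳.obj} [IsAffine (sch 𝒳 w)] [IsAffine (sch 𝒳 w')]

theorem pmap_injective {k : w' ⟶ w} (hk : FF k) {r : w ⟶ P.b} {r' : w' ⟶ P.b} (e : k ≫ r = r') :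
    Function.Injective (pmap P F k e) :=
  hk.injective_isBC (isBC_pmap P F k e)

/-- Descent of pulled back elements. -/
theorem exists_pmap_eq (h₀ : FibCat.IsFibGrpd 𝒳.p) {κ : w' ⟶ w} (hκ : FF κ) {r : w ⟶ P.b} {r' : w' ⟶ P.b}
    (e : κ ≫ r = r') (x : Pull P F r')
    (h : ∀ {w'' : 𝒳.obj} [IsAffine (sch 𝒳 w'')] (a b : w'' ⟶ w') (_ : a ≫ κ = b ≫ κ) (r'' : w'' ⟶ P.b)
      (ea : a ≫ r' = r'') (eb : b ≫ r' = r''), pmap P F a ea x = pmap P F b eb x) :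
    ∃ y, pmap P F κ e y = x := by
  haveI := hκ.1
  haveI := hκ.2
  obtain ⟨ζ, π₁, π₂, hζ, hc, sq⟩ := exists_pullback h₀ κ κ
  have e₂ : π₂ ≫ r' = π₁ ≫ r' := by rw [← e, ← Category.assoc, ← hc, Category.assoc]
  refine (isBC_pmap P F κ e).exists_of_eq (flat_appTop _) (surjective_comap_appTop _)
    (i₁ := (bmap 𝒳 π₁).appTop.hom) (i₂ := (bmap 𝒳 π₂).appTop.hom) (isPushout_appTop_of_isPullback sq)
    (g₁ := pmap P F π₁ (r := r') rfl) (g₂ := pmap P F π₂ e₂) (appTop_bmap_comp π₁ κ)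
    (g := pmap P F (π₁ ≫ κ) (r := r) (r' := π₁ ≫ r') (by rw [Category.assoc, e])) (isBC_pmap P F _ _)
    (fun m => pmap_comp P F π₁ κ e rfl _ rfl m) (fun m => pmap_comp P F π₂ κ e e₂ _ hc.symm m) ?_
  exact h π₁ π₂ hc _ rfl e₂

end Pull

/-- Test objects over an open of an object. -/
structure Tst (ξ : 𝒳.obj) (U : (sch 𝒳 ξ).Opens) where
  w : 𝒳.obj
  [aff : IsAffine (sch 𝒳 w)]
  π : w ⟶ ξ
  hU : ⊤ ≤ bmap 𝒳 π ⁻¹ᵁ U
  r : w ⟶ P.b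

attribute [instance] Tst.aff

variable {P}

/-- Functions on the open acting on the test object. -/
noncomputable abbrev Tst.sc {ξ : 𝒳.obj} {U : (sch 𝒳 ξ).Opens} (T : Tst P ξ U) : Γ(sch 𝒳 ξ, U) →+* Γ(sch 𝒳 T.w, ⊤) :=
  ((bmap 𝒳 T.π).appLE U ⊤ T.hU).hom

theorem top_le_comp {a b c : 𝒳.obj} {k : a ⟶ b} {φ : b ⟶ c} {j : a ⟶ c} (e : k ≫ φ = j)
    {W : (sch 𝒳 c).Opens} {V : (sch 𝒳 b).Opens} (h₁ : V ≤ bmap 𝒳 φ ⁻¹ᵁ W) (h₂ : ⊤ ≤ bmap 𝒳 k ⁻¹ᵁ V) :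
    ⊤ ≤ bmap 𝒳 j ⁻¹ᵁ W := by
  rw [← e, bmap_comp, Scheme.Hom.comp_preimage]
  exact h₂.trans ((bmap 𝒳 k).preimage_mono h₁)

theorem appLE_eq_of_eq {X Y : Scheme.{u}} {f g : X ⟶ Y} (e : f = g) {U : Y.Opens} {V : X.Opens}
    (h : V ≤ f ⁻¹ᵁ U) (s : Γ(Y, U)) : f.appLE U V h s = g.appLE U V (e ▸ h) s := by
  subst e
  rfl

theorem appLE_bmap_comp {a b c : 𝒳.obj} (k : a ⟶ b) (φ : b ⟶ c) {j : a ⟶ c} (e : k ≫ φ = j)
    {W : (sch 𝒳 c).Opens} {V : (sch 𝒳 b).Opens} (h₁ : V ≤ bmap 𝒳 φ ⁻¹ᵁ W) (h₂ : ⊤ ≤ bmap 𝒳 k ⁻¹ᵁ V)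
    (h : ⊤ ≤ bmap 𝒳 j ⁻¹ᵁ W) (s : Γ(sch 𝒳 c, W)) :
    (bmap 𝒳 k).appLE V ⊤ h₂ ((bmap 𝒳 φ).appLE W V h₁ s) = (bmap 𝒳 j).appLE W ⊤ h s := by
  have e₁ := Scheme.Hom.appLE_comp_appLE (bmap 𝒳 k) (bmap 𝒳 φ) W V ⊤ h₁ h₂
  have e₂ : bmap 𝒳 k ≫ bmap 𝒳 φ = bmap 𝒳 j := by rw [← bmap_comp, e]
  exact congr($e₁ s).trans (appLE_eq_of_eq e₂ _ s)

variable (P)

/-- The components of a family. -/
def Cmp (ξ : 𝒳.obj) (U : (sch 𝒳 ξ).Opens) (T : Tst P ξ U) : Type u := Pull P F T.r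

noncomputable instance (ξ : 𝒳.obj) (U : (sch 𝒳 ξ).Opens) (T : Tst P ξ U) : AddCommGroup (Cmp P F ξ U T) :=
  inferInstanceAs (AddCommGroup (Pull P F T.r))

noncomputable instance (ξ : 𝒳.obj) (U : (sch 𝒳 ξ).Opens) (T : Tst P ξ U) : Module Γ(sch 𝒳 ξ, U) (Cmp P F ξ U T) :=
  Module.compHom (Pull P F T.r) T.sc

/-- Compatible families of pulled back elements. -/
noncomputable def fam (ξ : 𝒳.obj) (U : (sch 𝒳 ξ).Opens) : Submodule Γ(sch 𝒳 ξ, U) (∀ T, Cmp P F ξ U T) where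
  carrier := {φ | (∀ (T : Tst P ξ U) {w' : 𝒳.obj} [IsAffine (sch 𝒳 w')] (k : w' ⟶ T.w) (π' : w' ⟶ ξ)
        (hπ : k ≫ T.π = π') (h' : ⊤ ≤ bmap 𝒳 π' ⁻¹ᵁ U) (r' : w' ⟶ P.b) (e : k ≫ T.r = r'),
        pmap P F k e (φ T) = φ ⟨w', π', h', r'⟩) ∧
      ∀ {w : 𝒳.obj} [IsAffine (sch 𝒳 w)] (π : w ⟶ ξ) (hU : ⊤ ≤ bmap 𝒳 π ⁻¹ᵁ U) (r₁ r₂ : w ⟶ P.b) (t : w ⟶ P.c)
        (e₁ : t ≫ P.p = r₁) (e₂ : t ≫ P.q = r₂), θ P F t e₁ e₂ (φ ⟨w, π, hU, r₁⟩) = φ ⟨w, π, hU, r₂⟩}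
  zero_mem' := ⟨fun T w' _ k π' _ h' r' e => _root_.map_zero (pmap P F k e),
    fun π hU r₁ r₂ t e₁ e₂ => _root_.map_zero (θ P F t e₁ e₂)⟩
  add_mem' := fun {a b} ha hb => ⟨fun T w' _ k π' hπ h' r' e =>
      (_root_.map_add (pmap P F k e) (a T) (b T)).trans
        (congr_arg₂ (· + ·) (ha.1 T k π' hπ h' r' e) (hb.1 T k π' hπ h' r' e)),
    fun π hU r₁ r₂ t e₁ e₂ => (_root_.map_add (θ P F t e₁ e₂) _ _).trans
      (congr_arg₂ (· + ·) (ha.2 π hU r₁ r₂ t e₁ e₂) (hb.2 π hU r₁ r₂ t e₁ e₂))⟩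
  smul_mem' := fun s a ha => ⟨fun T w' _ k π' hπ h' r' e => by
      show pmap P F k e (T.sc s • (show Pull P F T.r from a T)) =
        Tst.sc (⟨w', π', h', r'⟩ : Tst P ξ U) s • (show Pull P F r' from a ⟨w', π', h', r'⟩)
      refine ((pmap P F k e).map_smulₛₗ _ _).trans (congr_arg₂ (· • ·) ?_ (ha.1 T k π' hπ h' r' e))
      have := appLE_bmap_comp k T.π hπ T.hU le_top h' s
      refine Eq.trans ?_ this
      show (bmap 𝒳 k).appTop ((bmap 𝒳 T.π).appLE U ⊤ T.hU s) = _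
      rw [Scheme.Hom.appTop, Scheme.Hom.app_eq_appLE]
      rfl,
    fun π hU r₁ r₂ t e₁ e₂ => ((θ P F t e₁ e₂).map_smul _ _).trans
      (congrArg _ (ha.2 π hU r₁ r₂ t e₁ e₂))⟩

/-- Compatible families over test objects over an open. -/
abbrev Fam (ξ : 𝒳.obj) (U : (sch 𝒳 ξ).Opens) : Type (max w v u) := ↥(fam P F ξ U)

variable {P F}
variable {ξ ξ' ξ'' : 𝒳.obj} {U : (sch 𝒳 ξ).Opens} {U' : (sch 𝒳 ξ').Opens} {U'' : (sch 𝒳 ξ'').Opens}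

theorem Fam.nat (φ : Fam P F ξ U) (T : Tst P ξ U) {w' : 𝒳.obj} [IsAffine (sch 𝒳 w')] (k : w' ⟶ T.w)
    (π' : w' ⟶ ξ) (hπ : k ≫ T.π = π') (h' : ⊤ ≤ bmap 𝒳 π' ⁻¹ᵁ U) (r' : w' ⟶ P.b) (e : k ≫ T.r = r') :
    pmap P F k e (φ.1 T) = φ.1 ⟨w', π', h', r'⟩ :=
  φ.2.1 T k π' hπ h' r' e

theorem Fam.trans_eq (φ : Fam P F ξ U) {w : 𝒳.obj} [IsAffine (sch 𝒳 w)] (π : w ⟶ ξ)
    (hU : ⊤ ≤ bmap 𝒳 π ⁻¹ᵁ U) (r₁ r₂ : w ⟶ P.b) (t : w ⟶ P.c)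
    (e₁ : t ≫ P.p = r₁) (e₂ : t ≫ P.q = r₂) : θ P F t e₁ e₂ (φ.1 ⟨w, π, hU, r₁⟩) = φ.1 ⟨w, π, hU, r₂⟩ :=
  φ.2.2 π hU r₁ r₂ t e₁ e₂

theorem Fam.congr (φ : Fam P F ξ U) {w : 𝒳.obj} [IsAffine (sch 𝒳 w)] {π π' : w ⟶ ξ} (e : π = π')
    (hU : ⊤ ≤ bmap 𝒳 π ⁻¹ᵁ U) (r : w ⟶ P.b) :
    φ.1 ⟨w, π, hU, r⟩ = φ.1 ⟨w, π', e ▸ hU, r⟩ := by
  subst e
  rfl

theorem Fam.ext {φ ψ : Fam P F ξ U} (h : ∀ T, φ.1 T = ψ.1 T) : φ = ψ := Subtype.ext (funext h)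

theorem Fam.smul_apply (s : Γ(sch 𝒳 ξ, U)) (φ : Fam P F ξ U) (T : Tst P ξ U) :
    (show Pull P F T.r from (s • φ).1 T) = T.sc s • (show Pull P F T.r from φ.1 T) := rfl

/-- Restriction of families. -/
noncomputable def famMap (φ : ξ' ⟶ ξ) (h : U' ≤ bmap 𝒳 φ ⁻¹ᵁ U) :
    Fam P F ξ U →ₛₗ[((bmap 𝒳 φ).appLE U U' h).hom] Fam P F ξ' U' where
  toFun a := ⟨fun T => a.1 ⟨T.w, T.π ≫ φ, top_le_comp rfl h T.hU, T.r⟩,
    fun T w' _ k π' hπ h' r' e => a.nat ⟨T.w, T.π ≫ φ, top_le_comp rfl h T.hU, T.r⟩ k (π' ≫ φ)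
      (by rw [← hπ, Category.assoc]) (top_le_comp rfl h h') r' e,
    fun π hU r₁ r₂ t e₁ e₂ => a.trans_eq (π ≫ φ) (top_le_comp rfl h hU) r₁ r₂ t e₁ e₂⟩
  map_add' a b := rfl
  map_smul' s a := Fam.ext fun T => by
    show Tst.sc (⟨T.w, T.π ≫ φ, top_le_comp rfl h T.hU, T.r⟩ : Tst P ξ U) s •
        (show Pull P F T.r from a.1 ⟨T.w, T.π ≫ φ, top_le_comp rfl h T.hU, T.r⟩) =
      T.sc ((bmap 𝒳 φ).appLE U U' h s) • (show Pull P F T.r from a.1 ⟨T.w, T.π ≫ φ, top_le_comp rfl h T.hU, T.r⟩)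
    exact congrArg (· • _) (appLE_bmap_comp T.π φ rfl h T.hU _ s).symm

theorem famMap_apply (φ : ξ' ⟶ ξ) (h : U' ≤ bmap 𝒳 φ ⁻¹ᵁ U) (a : Fam P F ξ U) (T : Tst P ξ' U') :
    (famMap φ h a).1 T = a.1 ⟨T.w, T.π ≫ φ, top_le_comp rfl h T.hU, T.r⟩ := rfl

theorem famMap_comp (ψ : ξ'' ⟶ ξ') (φ : ξ' ⟶ ξ) {j : ξ'' ⟶ ξ} (e : ψ ≫ φ = j)
    (h : U' ≤ bmap 𝒳 φ ⁻¹ᵁ U) (h' : U'' ≤ bmap 𝒳 ψ ⁻¹ᵁ U') (hj : U'' ≤ bmap 𝒳 j ⁻¹ᵁ U) (a : Fam P F ξ U) :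
    famMap ψ h' (famMap φ h a) = famMap j hj a :=
  Fam.ext fun T => a.congr (by rw [Category.assoc, e]) (top_le_comp rfl h (top_le_comp rfl h' T.hU)) _

theorem famMap_congr {φ φ' : ξ' ⟶ ξ} (e : φ = φ') (h : U' ≤ bmap 𝒳 φ ⁻¹ᵁ U) (a : Fam P F ξ U) :
    famMap φ h a = famMap φ' (e ▸ h) a := by
  subst e
  rfl

theorem famMap_id (h : U ≤ bmap 𝒳 (𝟙 ξ) ⁻¹ᵁ U) (a : Fam P F ξ U) : famMap (𝟙 ξ) h a = a :=
  Fam.ext fun T => a.congr (Category.comp_id _) (top_le_comp rfl h T.hU) _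

section Chart

variable (h₀ : FibCat.IsFibGrpd 𝒳.p) {z : 𝒳.obj} [IsAffine (sch 𝒳 z)] (r₀ : z ⟶ P.b)

/-- The test object of a chart. -/
abbrev idTst : Tst P z ⊤ := ⟨z, 𝟙 z, le_top, r₀⟩

/-- Evaluation at a chart. -/
noncomputable def famEval : Fam P F z ⊤ →ₗ[Γ(sch 𝒳 z, ⊤)] Pull P F r₀ where
  toFun a := a.1 (idTst r₀)
  map_add' a b := rfl
  map_smul' s a := by
    show (idTst r₀).sc s • (show Pull P F r₀ from a.1 (idTst r₀)) = s • _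
    refine congrArg (· • _) ?_
    show (bmap 𝒳 (𝟙 z)).appLE ⊤ ⊤ _ s = s
    refine (appLE_eq_of_eq (bmap_id z) _ s).trans ?_
    simp [Scheme.Hom.appLE]

include h₀ in
theorem famEval_injective : Function.Injective (famEval (F := F) r₀) := by
  intro a b hab
  refine Fam.ext fun T => ?_
  obtain ⟨w', hw', k, t, hk, e₁, e₂⟩ := P.pairs (T.π ≫ r₀) T.r
  refine pmap_injective P F hk (r' := k ≫ T.r) rfl ?_
  rw [a.nat T k (k ≫ T.π) rfl (top_le_comp rfl T.hU le_top) _ rfl,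
    b.nat T k (k ≫ T.π) rfl (top_le_comp rfl T.hU le_top) _ rfl, ← a.trans_eq _ _ _ _ t e₁ e₂,
    ← b.trans_eq _ _ _ _ t e₁ e₂]
  refine congrArg (θ P F t e₁ e₂) ?_
  rw [← a.nat (idTst r₀) (k ≫ T.π) (k ≫ T.π) (Category.comp_id _) _ _ (Category.assoc _ _ _),
    ← b.nat (idTst r₀) (k ≫ T.π) (k ≫ T.π) (Category.comp_id _) _ _ (Category.assoc _ _ _)]
  exact congrArg (pmap P F (k ≫ T.π) (Category.assoc _ _ _)) hab

/-- The characterisation of the component of the family through `n`. -/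
def ExtCmp (n : Pull P F r₀) (T : Tst P z ⊤) (y : Pull P F T.r) : Prop :=
  ∀ {w' : 𝒳.obj} [IsAffine (sch 𝒳 w')] (k : w' ⟶ T.w) (j : w' ⟶ z) (_ : k ≫ T.π = j) (t : w' ⟶ P.c)
    (r₁ r₂ : w' ⟶ P.b) (h₁ : j ≫ r₀ = r₁) (h₂ : k ≫ T.r = r₂) (e₁ : t ≫ P.p = r₁) (e₂ : t ≫ P.q = r₂),
    pmap P F k h₂ y = θ P F t e₁ e₂ (pmap P F j h₁ n)

include h₀ in
theorem exists_extCmp (n : Pull P F r₀) (T : Tst P z ⊤) : ∃ y, ExtCmp r₀ n T y := by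
  obtain ⟨w', hw', κ, t, hκ, e₁, e₂⟩ := P.pairs (T.π ≫ r₀) T.r
  have h₁ : (κ ≫ T.π) ≫ r₀ = κ ≫ T.π ≫ r₀ := Category.assoc _ _ _
  obtain ⟨y, hy⟩ := exists_pmap_eq P F h₀ hκ (r' := κ ≫ T.r) rfl (θ P F t e₁ e₂ (pmap P F (κ ≫ T.π) h₁ n))
    fun {w''} _ a b hab r'' ea eb => by
      have hj : b ≫ κ ≫ T.π = a ≫ κ ≫ T.π := by rw [← Category.assoc, ← hab, Category.assoc]
      have hs : b ≫ κ ≫ T.π ≫ r₀ = a ≫ κ ≫ T.π ≫ r₀ := by rw [← Category.assoc, ← hab, Category.assoc]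
      rw [pmap_θ P F a t e₁ e₂ (a ≫ t) rfl (r₁' := a ≫ κ ≫ T.π ≫ r₀) rfl ea,
        pmap_θ P F b t e₁ e₂ (b ≫ t) rfl (r₁' := a ≫ κ ≫ T.π ≫ r₀) hs eb,
        pmap_comp P F a (κ ≫ T.π) h₁ rfl _ rfl, pmap_comp P F b (κ ≫ T.π) h₁ hs (a ≫ κ ≫ T.π) hj]
      exact θ_unique P F _ _ _ _ _ _ _
  refine ⟨y, fun {w₂} _ k j hj t₂ r₁ r₂ g₁ g₂ f₁ f₂ => ?_⟩
  obtain ⟨w₃, s₁, s₂, hw₃, hc, sq⟩ := exists_pullback h₀ κ k
  have hs₂ : FF s₂ := hκ.of_isPullback sq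
  have hjj : s₁ ≫ κ ≫ T.π = s₂ ≫ j := by rw [← hj, ← Category.assoc, hc, Category.assoc]
  have a₁ : s₁ ≫ κ ≫ T.π ≫ r₀ = s₂ ≫ r₁ := by
    rw [← g₁, ← Category.assoc s₂, ← hjj, Category.assoc, Category.assoc]
  have a₂ : s₁ ≫ κ ≫ T.r = s₂ ≫ r₂ := by rw [← g₂, ← Category.assoc, hc, Category.assoc]
  refine pmap_injective P F hs₂ (r' := s₂ ≫ r₂) rfl ?_
  rw [pmap_comp P F s₂ k g₂ rfl (s₁ ≫ κ) hc.symm, pmap_θ P F s₂ t₂ f₁ f₂ (s₂ ≫ t₂) rfl (r₁' := s₂ ≫ r₁) rfl rfl,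
    pmap_comp P F s₂ j g₁ rfl _ rfl]
  rw [← pmap_comp P F s₁ κ rfl a₂ (s₁ ≫ κ) rfl, hy, pmap_θ P F s₁ t e₁ e₂ (s₁ ≫ t) rfl a₁ a₂,
    pmap_comp P F s₁ (κ ≫ T.π) h₁ a₁ (s₂ ≫ j) hjj]
  exact θ_unique P F _ _ _ _ _ _ _

include h₀ in
theorem famEval_surjective : Function.Surjective (famEval (F := F) r₀) := by
  intro n
  choose y hy using exists_extCmp h₀ r₀ n
  refine ⟨⟨y, fun T w₁ _ k π' hπ h' r' e => ?_, fun {w} _ π hU r₁ r₂ t e₁ e₂ => ?_⟩, ?_⟩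
  · obtain ⟨w', hw', κ, t, hκ, f₁, f₂⟩ := P.pairs (π' ≫ r₀) r'
    refine pmap_injective P F hκ (r' := κ ≫ r') rfl ?_
    rw [pmap_comp P F κ k e rfl (κ ≫ k) rfl]
    rw [hy T (κ ≫ k) (κ ≫ π') (by rw [← hπ, Category.assoc]) t (κ ≫ π' ≫ r₀) (κ ≫ r') (Category.assoc _ _ _)
      (by rw [Category.assoc, e]) f₁ f₂]
    exact (hy ⟨w₁, π', h', r'⟩ κ (κ ≫ π') rfl t _ _ (Category.assoc _ _ _) rfl f₁ f₂).symm
  · obtain ⟨w', hw', κ, a, hκ, a₁, a₂⟩ := P.pairs (π ≫ r₀) r₁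
    obtain ⟨w'', hw'', κ', c, hκ', c₁, c₂⟩ := P.pairs (κ ≫ π ≫ r₀) (κ ≫ r₂)
    refine pmap_injective P F (FF.comp hκ' hκ) (r' := κ' ≫ κ ≫ r₂) (Category.assoc _ _ _) ?_
    rw [pmap_θ P F (κ' ≫ κ) t e₁ e₂ ((κ' ≫ κ) ≫ t) rfl (r₁' := κ' ≫ κ ≫ r₁) (Category.assoc _ _ _)
      (Category.assoc _ _ _)]
    rw [hy ⟨w, π, hU, r₁⟩ (κ' ≫ κ) ((κ' ≫ κ) ≫ π) rfl (κ' ≫ a) (κ' ≫ κ ≫ π ≫ r₀) (κ' ≫ κ ≫ r₁)
        (by simp only [Category.assoc]) (Category.assoc _ _ _) (by rw [Category.assoc, a₁])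
        (by rw [Category.assoc, a₂]),
      hy ⟨w, π, hU, r₂⟩ (κ' ≫ κ) ((κ' ≫ κ) ≫ π) rfl c (κ' ≫ κ ≫ π ≫ r₀) (κ' ≫ κ ≫ r₂)
        (by simp only [Category.assoc]) (Category.assoc _ _ _) c₁ c₂]
    exact θ_comp P F h₀ _ _ c _ _ _ _ c₁ c₂ _
  · obtain ⟨w', hw', κ, t, hκ, e₁, e₂⟩ := P.pairs r₀ r₀
    refine pmap_injective P F hκ (r' := κ ≫ r₀) rfl ?_
    exact (hy (idTst r₀) κ κ (Category.comp_id _) t _ _ rfl rfl e₁ e₂).trans (θ_self P F h₀ t e₁ e₂ _)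

theorem famEval_famMap {z' : 𝒳.obj} [IsAffine (sch 𝒳 z')] (φ : z' ⟶ z) {r₁ : z' ⟶ P.b} (e : φ ≫ r₀ = r₁)
    (h : ⊤ ≤ bmap 𝒳 φ ⁻¹ᵁ ⊤) (a : Fam P F z ⊤) :
    famEval r₁ (famMap φ h a) = pmap P F φ e (famEval r₀ a) :=
  (a.nat (idTst r₀) φ (𝟙 z' ≫ φ) (by rw [Category.id_comp]; exact Category.comp_id φ)
    (top_le_comp rfl h le_top) r₁ e).symm

end Chart

end Groth.Agent.StQC14
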