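import Groth.Agent.Lib.StQC14.SFam

/-!
# Modules descended from flat data: base change on affine objects
-/

universe w v u

open CategoryTheory CategoryTheory.Functor CategoryTheory.Limits AlgebraicGeometry Opposite TensorProduct

set_option linter.style.haveILetI false
set_option linter.unusedSectionVars false
set_option backward.isDefEq.respectTransparency false
set_option backward.isDefEq.respectTransparency.types false

namespace Groth.Agent.StQC14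

open StMod

variable {S : Scheme.{u}} {𝒳 : BasedCategory.{v, w} (Over S)} {P : FPres 𝒳} {F : FlatFun 𝒳}
  {z z' z'' : 𝒳.obj}

theorem appLE_top {X Y : Scheme.{u}} (f : X ⟶ Y) (h : (⊤ : X.Opens) ≤ f ⁻¹ᵁ ⊤) (s : Γ(Y, ⊤)) :
    f.appLE ⊤ ⊤ h s = f.appTop s := by
  rw [Scheme.Hom.appTop, Scheme.Hom.app_eq_appLE]
  rfl

/-- Restriction of families over whole objects. -/
noncomputable def famT (φ : z' ⟶ z) : Fam P F z ⊤ →ₛₗ[(bmap 𝒳 φ).appTop.hom] Fam P F z' ⊤ where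
  toFun := famMap φ le_top
  map_add' := (famMap φ le_top).map_add
  map_smul' s a := ((famMap φ le_top).map_smulₛₗ s a).trans (congrArg (· • _) (appLE_top _ _ s))

theorem famT_comp (ψ : z'' ⟶ z') (φ : z' ⟶ z) {j : z'' ⟶ z} (e : ψ ≫ φ = j) (a : Fam P F z ⊤) :
    famT ψ (famT φ a) = famT j a :=
  famMap_comp ψ φ e le_top le_top le_top a

/-- Restriction of sections over whole objects. -/
noncomputable def sT (φ : z' ⟶ z) : SFam P F z ⊤ →ₛₗ[(bmap 𝒳 φ).appTop.hom] SFam P F z' ⊤ where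
  toFun := sMap φ le_top
  map_add' := (sMap φ le_top).map_add
  map_smul' s a := ((sMap φ le_top).map_smulₛₗ s a).trans (congrArg (· • _) (appLE_top _ _ s))

theorem toFam_sT (φ : z' ⟶ z) (a : SFam P F z ⊤) : toFam (sT φ a) = famT φ (toFam a) := toFam_sMap _ _ _

theorem sT_comp (ψ : z'' ⟶ z') (φ : z' ⟶ z) {j : z'' ⟶ z} (e : ψ ≫ φ = j) (a : SFam P F z ⊤) :
    sT ψ (sT φ a) = sT j a :=
  sMap_comp ψ φ e le_top le_top le_top a

theorem sT_id (a : SFam P F z ⊤) : sT (𝟙 z) a = a := sMap_id le_top a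

variable (h₀ : FibCat.IsFibGrpd 𝒳.p)

section Affine

variable [IsAffine (sch 𝒳 z)] [IsAffine (sch 𝒳 z')] [IsAffine (sch 𝒳 z'')]

theorem isBC_sEval (r₀ : z ⟶ P.b) : IsBC (σ := RingHom.id _) (sEval (F := F) r₀) :=
  isBC_of_bijective _ (sEval_bijective r₀)

/-- Base change between objects with charts. -/
theorem isBC_sT_of_chart (φ : z' ⟶ z) (r₀ : z ⟶ P.b) : IsBC (sT (P := P) (F := F) φ) := by
  let hc : SFam P F z ⊤ →ₛₗ[(bmap 𝒳 φ).appTop.hom] Pull P F (φ ≫ r₀) :=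
    { toFun := fun a => pmap P F φ rfl (sEval r₀ a)
      map_add' := fun a b => by rw [_root_.map_add, _root_.map_add]
      map_smul' := fun c a => by rw [_root_.map_smul, LinearMap.map_smulₛₗ] }
  have hhc : IsBC hc :=
    IsBC.comp (RingHom.comp_id _) (isBC_sEval r₀) (isBC_pmap P F φ (r := r₀) rfl) fun a => rfl
  refine IsBC.of_comp_right (τ := RingHom.id _) (RingHom.id_comp _) (isBC_sEval (φ ≫ r₀)) hhc
    (RingHom.Flat.id _) (fun p => ⟨p, PrimeSpectrum.ext rfl⟩) fun a => ?_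
  exact sEval_sMap r₀ φ rfl le_top a

end Affine

section Cover

variable [IsAffine (sch 𝒳 z)] [IsAffine (sch 𝒳 z')] {κ : z' ⟶ z}

include h₀ in
theorem famT_injective (hκ : FF κ) : Function.Injective (famT (P := P) (F := F) κ) := by
  intro a b hab
  refine Fam.ext fun T => ?_
  obtain ⟨w', l, k, hw', hc, sq⟩ := exists_pullback h₀ κ T.π
  refine pmap_injective P F (hκ.of_isPullback sq) (r' := k ≫ T.r) rfl ?_
  rw [a.nat T k (l ≫ κ) hc.symm (top_le_comp (V := ⊤) (W := ⊤) rfl le_top le_top) _ rfl,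
    b.nat T k (l ≫ κ) hc.symm (top_le_comp (V := ⊤) (W := ⊤) rfl le_top le_top) _ rfl]
  exact congr(($hab).1 ⟨w', l, le_top, k ≫ T.r⟩)

/-- The descent condition on test objects. -/
theorem agree_of_famT_eq (h₀ : FibCat.IsFibGrpd 𝒳.p) {ζ : 𝒳.obj} {π₁ π₂ : ζ ⟶ z'} (hc : π₁ ≫ κ = π₂ ≫ κ)
    (sq : IsPullback (bmap 𝒳 π₁) (bmap 𝒳 π₂) (bmap 𝒳 κ) (bmap 𝒳 κ)) {n : Fam P F z' ⊤}
    (hn : famT π₁ n = famT π₂ n) {w : 𝒳.obj} [IsAffine (sch 𝒳 w)] (l₁ l₂ : w ⟶ z') (e : l₁ ≫ κ = l₂ ≫ κ)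
    (r : w ⟶ P.b) : n.1 ⟨w, l₁, le_top, r⟩ = n.1 ⟨w, l₂, le_top, r⟩ := by
  obtain ⟨s, rfl, rfl⟩ := exists_factor_pullback h₀ hc sq l₁ l₂ e
  exact congr(($hn).1 ⟨w, s, le_top, r⟩)

include h₀ in
/-- Descent of families along a cover. -/
theorem exists_famT_eq (hκ : FF κ) {ζ : 𝒳.obj} {π₁ π₂ : ζ ⟶ z'} (hc : π₁ ≫ κ = π₂ ≫ κ)
    (sq : IsPullback (bmap 𝒳 π₁) (bmap 𝒳 π₂) (bmap 𝒳 κ) (bmap 𝒳 κ)) {n : Fam P F z' ⊤}
    (hn : famT π₁ n = famT π₂ n) : ∃ a : Fam P F z ⊤, famT κ a = n := by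
  have agree := fun {w : 𝒳.obj} [IsAffine (sch 𝒳 w)] (l₁ l₂ : w ⟶ z') (e : l₁ ≫ κ = l₂ ≫ κ) (r : w ⟶ P.b) =>
    agree_of_famT_eq h₀ hc sq hn l₁ l₂ e r
  have hex : ∀ T : Tst P z ⊤, ∃ y : Pull P F T.r, ∀ {w' : 𝒳.obj} [IsAffine (sch 𝒳 w')] (k : w' ⟶ T.w) (l : w' ⟶ z')
      (_ : l ≫ κ = k ≫ T.π) (r' : w' ⟶ P.b) (e : k ≫ T.r = r'),
      pmap P F k e y = n.1 ⟨w', l, le_top, r'⟩ := by
    intro T
    obtain ⟨w₀, l₀, k₀, hw₀, hc₀, sq₀⟩ := exists_pullback h₀ κ T.π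
    have hk₀ : FF k₀ := hκ.of_isPullback sq₀
    obtain ⟨y, hy⟩ := exists_pmap_eq P F h₀ hk₀ (r' := k₀ ≫ T.r) rfl (n.1 ⟨w₀, l₀, le_top, k₀ ≫ T.r⟩)
      fun {w''} _ a b hab r'' ea eb => by
        rw [n.nat ⟨w₀, l₀, le_top, k₀ ≫ T.r⟩ a (a ≫ l₀) rfl le_top r'' ea,
          n.nat ⟨w₀, l₀, le_top, k₀ ≫ T.r⟩ b (b ≫ l₀) rfl le_top r'' eb]
        exact agree _ _ (by rw [Category.assoc, Category.assoc, hc₀, ← Category.assoc, hab, Category.assoc]) _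
    refine ⟨y, fun {w'} _ k l hl r' e => ?_⟩
    obtain ⟨w₂, s₁, s₂, hw₂, hc₂, sq₂⟩ := exists_pullback h₀ k₀ k
    have a₂ : s₁ ≫ k₀ ≫ T.r = s₂ ≫ r' := by rw [← Category.assoc, hc₂, Category.assoc, e]
    refine pmap_injective P F (hk₀.of_isPullback sq₂) (r' := s₂ ≫ r') rfl ?_
    rw [pmap_comp P F s₂ k e rfl (s₁ ≫ k₀) hc₂.symm, ← pmap_comp P F s₁ k₀ rfl a₂ (s₁ ≫ k₀) rfl, hy,
      n.nat ⟨w₀, l₀, le_top, k₀ ≫ T.r⟩ s₁ (s₁ ≫ l₀) rfl le_top _ a₂,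
      n.nat ⟨w', l, le_top, r'⟩ s₂ (s₂ ≫ l) rfl le_top _ rfl]
    exact agree _ _ (by rw [Category.assoc, Category.assoc, hc₀, hl, ← Category.assoc, hc₂, Category.assoc]) _
  choose y hy using hex
  refine ⟨⟨y, fun T w₁ _ k π' hπ h' r' e => ?_, fun {w} _ π hU r₁ r₂ t e₁ e₂ => ?_⟩, Fam.ext fun T => ?_⟩
  · obtain ⟨w', l, κ', hw', hc', sq'⟩ := exists_pullback h₀ κ π'
    refine pmap_injective P F (hκ.of_isPullback sq') (r' := κ' ≫ r') rfl ?_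
    rw [pmap_comp P F κ' k e rfl (κ' ≫ k) rfl,
      hy T (κ' ≫ k) l (by rw [hc', Category.assoc, hπ]) (κ' ≫ r') (by rw [Category.assoc, e])]
    exact (hy ⟨w₁, π', h', r'⟩ κ' l hc' (κ' ≫ r') rfl).symm
  · obtain ⟨w', l, κ', hw', hc', sq'⟩ := exists_pullback h₀ κ π
    refine pmap_injective P F (hκ.of_isPullback sq') (r' := κ' ≫ r₂) rfl ?_
    rw [pmap_θ P F κ' t e₁ e₂ (κ' ≫ t) rfl (r₁' := κ' ≫ r₁) rfl rfl,
      hy ⟨w, π, hU, r₁⟩ κ' l hc' (κ' ≫ r₁) rfl, hy ⟨w, π, hU, r₂⟩ κ' l hc' (κ' ≫ r₂) rfl]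
    exact n.trans_eq l le_top _ _ _ _ _
  · exact (pmap_id P F (Category.id_comp _) _).symm.trans
      (hy ⟨T.w, T.π ≫ κ, le_top, T.r⟩ (𝟙 _) T.π (Category.id_comp _).symm T.r (Category.id_comp _))

include h₀ in
theorem sT_injective (hκ : FF κ) : Function.Injective (sT (P := P) (F := F) κ) := fun a b e =>
  SFam.ext' (famT_injective h₀ hκ (by rw [← toFam_sT, ← toFam_sT, e]))

include h₀ in
theorem exists_sT_eq (hκ : FF κ) {ζ : 𝒳.obj} {π₁ π₂ : ζ ⟶ z'} (hc : π₁ ≫ κ = π₂ ≫ κ)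
    (sq : IsPullback (bmap 𝒳 π₁) (bmap 𝒳 π₂) (bmap 𝒳 κ) (bmap 𝒳 κ)) {n : SFam P F z' ⊤}
    (hn : sT π₁ n = sT π₂ n) : ∃ a : SFam P F z ⊤, sT κ a = n := by
  obtain ⟨a, ha⟩ := exists_famT_eq h₀ hκ hc sq (n := toFam n) (by rw [← toFam_sT, ← toFam_sT, hn])
  exact ⟨toFam.symm a, SFam.ext' (by rw [toFam_sT, LinearEquiv.apply_symm_apply, ha])⟩

include h₀ in
/-- Base change along a cover with a chart. -/
theorem isBC_sT_cover (hκ : FF κ) (r' : z' ⟶ P.b) : IsBC (sT (P := P) (F := F) κ) := by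
  haveI := hκ.1
  obtain ⟨ζ, π₁, π₂, hζ, hc, sq⟩ := exists_pullback h₀ κ κ
  obtain ⟨ζ₃, ρ₁, ρ₂, hζ₃, hc₃, sq₃⟩ := exists_pullback h₀ (π₁ ≫ κ) κ
  have hg : (bmap 𝒳 κ).appTop.hom.Flat := flat_appTop _
  obtain ⟨τ₁, a₁, b₁⟩ := exists_factor_pullback h₀ hc sq (ρ₁ ≫ π₁) ρ₂ (by rw [Category.assoc, hc₃])
  obtain ⟨τ₂, a₂, b₂⟩ := exists_factor_pullback h₀ hc sq (ρ₁ ≫ π₂) ρ₂ (by rw [Category.assoc, ← hc, hc₃])
  obtain ⟨δ, d₁, d₂⟩ := exists_factor_pullback h₀ hc sq (𝟙 z') (𝟙 z') rfl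
  have hB := isPushout_appTop_of_isPullback sq
  have hC := isPushout_appTop_of_isPullback sq₃
  have hrest := fun a : SFam P F z ⊤ => (show sT π₁ (sT κ a) = sT π₂ (sT κ a) by
    rw [sT_comp π₁ κ rfl, sT_comp π₂ κ hc.symm])
  -- the differences
  let D : SFam P F z' ⊤ →+ SFam P F ζ ⊤ :=
    { toFun := fun n => sT π₁ n - sT π₂ n
      map_zero' := by rw [_root_.map_zero, _root_.map_zero, sub_zero]
      map_add' := fun a b => by rw [_root_.map_add, _root_.map_add]; abel }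
  let D' : SFam P F ζ ⊤ →+ SFam P F ζ₃ ⊤ :=
    { toFun := fun n => sT τ₁ n - sT τ₂ n
      map_zero' := by rw [_root_.map_zero, _root_.map_zero, sub_zero]
      map_add' := fun a b => by rw [_root_.map_add, _root_.map_add]; abel }
  have comp_apply : ∀ {a b c : 𝒳.obj} (k : a ⟶ b) (φ : b ⟶ c) (s : Γ(sch 𝒳 c, ⊤)),
      (bmap 𝒳 k).appTop ((bmap 𝒳 φ).appTop s) = (bmap 𝒳 (k ≫ φ)).appTop s := fun k φ s =>
    RingHom.congr_fun (appTop_bmap_comp k φ) s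
  have hspan : ∀ y : SFam P F z' ⊤, y ∈ Submodule.span Γ(sch 𝒳 z', ⊤) (Set.range (sT (P := P) (F := F) κ)) := by
    intro y
    have hx : D' (sT π₂ y) = 0 := by
      show sT τ₁ (sT π₂ y) - sT τ₂ (sT π₂ y) = 0
      rw [sT_comp τ₁ π₂ b₁, sT_comp τ₂ π₂ b₂, sub_self]
    have hm := mem_span_ker (sB := (bmap 𝒳 κ).appTop.hom) (g := (bmap 𝒳 κ).appTop.hom)
      (κB := (bmap 𝒳 π₁).appTop.hom) (sB' := (bmap 𝒳 π₂).appTop.hom) (sC := (bmap 𝒳 (π₁ ≫ κ)).appTop.hom)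
      (κC := (bmap 𝒳 ρ₁).appTop.hom) (sC' := (bmap 𝒳 ρ₂).appTop.hom) hg hB hC
      (isBC_sT_of_chart π₁ r') (isBC_sT_of_chart ρ₁ (π₁ ≫ r')) D (fun c n => by
        show sT π₁ ((bmap 𝒳 κ).appTop.hom c • n) - sT π₂ ((bmap 𝒳 κ).appTop.hom c • n) = _ • (_ - _)
        rw [LinearMap.map_smulₛₗ, LinearMap.map_smulₛₗ, smul_sub]
        erw [comp_apply π₁ κ c, comp_apply π₂ κ c]
        rw [← hc]
        ) D' (fun c n => by
        show sT τ₁ ((bmap 𝒳 π₂).appTop.hom c • n) - sT τ₂ ((bmap 𝒳 π₂).appTop.hom c • n) = _ • (_ - _)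
        rw [LinearMap.map_smulₛₗ, LinearMap.map_smulₛₗ, smul_sub]
        erw [comp_apply τ₁ π₂ c, comp_apply τ₂ π₂ c]
        rw [b₁, b₂]
        ) (fun n => by
        show sT τ₁ (sT π₁ n) - sT τ₂ (sT π₁ n) = sT ρ₁ (sT π₁ n - sT π₂ n)
        rw [_root_.map_sub, sT_comp τ₁ π₁ a₁, sT_comp τ₂ π₁ a₂, sT_comp ρ₁ π₁ rfl, sT_comp ρ₁ π₂ rfl]) hx
    have hy : y = sT δ (sT π₂ y) := by rw [sT_comp δ π₂ d₂, sT_id]
    rw [hy]
    revert hm
    generalize sT π₂ y = x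
    intro hm
    induction hm using Submodule.span_induction with
    | mem x hx =>
      obtain ⟨n, hn, rfl⟩ := hx
      obtain ⟨a, rfl⟩ := exists_sT_eq h₀ hκ hc sq (sub_eq_zero.1 hn)
      rw [sT_comp δ π₁ d₁, sT_id]
      exact Submodule.subset_span ⟨a, rfl⟩
    | zero => rw [_root_.map_zero]; exact zero_mem _
    | add a b _ _ ha hb => rw [_root_.map_add]; exact add_mem ha hb
    | smul c a _ ha => rw [LinearMap.map_smulₛₗ]; exact Submodule.smul_mem _ _ ha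
  obtain ⟨eB, heB⟩ := isBC_restrict hB (isBC_sT_of_chart π₁ r' (P := P) (F := F))
  letI := (bmap 𝒳 κ).appTop.hom.toAlgebra
  letI := Module.compHom (SFam P F z' ⊤) (bmap 𝒳 κ).appTop.hom
  haveI : IsScalarTower Γ(sch 𝒳 z, ⊤) Γ(sch 𝒳 z', ⊤) (SFam P F z' ⊤) :=
    IsScalarTower.of_algebraMap_smul fun _ _ => rfl
  haveI : Module.Flat Γ(sch 𝒳 z, ⊤) Γ(sch 𝒳 z', ⊤) := hg
  let fl : SFam P F z ⊤ →ₗ[Γ(sch 𝒳 z, ⊤)] SFam P F z' ⊤ :=
    { toFun := fun x => sT κ x, map_add' := fun x y => (sT κ).map_add x y,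
      map_smul' := fun a x => (sT κ).map_smulₛₗ a x }
  let L : Γ(sch 𝒳 z', ⊤) ⊗[Γ(sch 𝒳 z, ⊤)] SFam P F z ⊤ →ₗ[Γ(sch 𝒳 z', ⊤)] SFam P F z' ⊤ :=
    TensorProduct.AlgebraTensorModule.lift ((LinearMap.lsmul Γ(sch 𝒳 z', ⊤) _).flip fl)
  have hL : ∀ b m, L (b ⊗ₜ m) = b • sT κ m := fun b m => rfl
  have key : ∀ x, sT π₂ (L x) = eB (fl.lTensor Γ(sch 𝒳 z', ⊤) x) := by
    intro x
    induction x using TensorProduct.induction_on with
    | zero => simp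
    | tmul b m =>
      rw [LinearMap.lTensor_tmul, heB, hL, LinearMap.map_smulₛₗ, ← hrest]
      rfl
    | add a b ha hb => simp only [_root_.map_add, ha, hb]
  have hinj : Function.Injective L := by
    refine (injective_iff_map_eq_zero L).2 fun x hx => ?_
    refine Module.Flat.lTensor_preserves_injective_linearMap fl (sT_injective h₀ hκ) ?_
    rw [_root_.map_zero]
    refine eB.injective ?_
    rw [_root_.map_zero, ← key, hx, _root_.map_zero]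
  have hsurj : Function.Surjective L := fun y => by
    induction hspan y using Submodule.span_induction with
    | mem y hy => obtain ⟨m, rfl⟩ := hy; exact ⟨1 ⊗ₜ m, (hL 1 m).trans (one_smul _ _)⟩
    | zero => exact ⟨0, _root_.map_zero _⟩
    | add a b _ _ ha hb =>
      obtain ⟨a', rfl⟩ := ha
      obtain ⟨b', rfl⟩ := hb
      exact ⟨a' + b', _root_.map_add _ _ _⟩
    | smul c a _ ha => obtain ⟨a', rfl⟩ := ha; exact ⟨c • a', _root_.map_smul _ _ _⟩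
  exact IsBaseChange.of_equiv (LinearEquiv.ofBijective L ⟨hinj, hsurj⟩) fun m => (hL 1 m).trans (one_smul _ _)

end Cover

include h₀ in
/-- Restriction between affine objects is base change. -/
theorem isBC_sT [IsAffine (sch 𝒳 z)] [IsAffine (sch 𝒳 z')] (φ : z' ⟶ z) :
    IsBC (sT (P := P) (F := F) φ) := by
  obtain ⟨z₁, hz₁, κ, hκ, ⟨r₁⟩⟩ := P.cover z
  obtain ⟨z₂, l, κ', hz₂, hc, sq⟩ := exists_pullback h₀ κ φ
  have hκ' : FF κ' := hκ.of_isPullback sq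
  haveI := hκ'.1
  haveI := hκ'.2
  have hj : IsBC (sT (P := P) (F := F) (κ' ≫ φ)) :=
    IsBC.comp ((appTop_bmap_comp l κ).trans (by rw [hc])) (isBC_sT_cover h₀ hκ r₁)
      (isBC_sT_of_chart l r₁) fun a => sT_comp l κ hc a
  exact IsBC.of_comp_right (appTop_bmap_comp κ' φ) (isBC_sT_cover h₀ hκ' (l ≫ r₁)) hj
    (flat_appTop _) (surjective_comap_appTop _) fun a => sT_comp κ' φ rfl a

end Groth.Agent.StQC14
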