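import Groth.Agent.Lib.StQC14.FamBC

/-!
# Modules descended from flat data: the sheaf on an object
-/

universe w v u

open CategoryTheory CategoryTheory.Functor CategoryTheory.Limits AlgebraicGeometry Opposite

set_option linter.style.haveILetI false
set_option linter.unusedSectionVars false
set_option backward.isDefEq.respectTransparency false
set_option backward.isDefEq.respectTransparency.types false

namespace Groth.Agent.StQC14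

open StMod

variable {S : Scheme.{u}} {𝒳 : BasedCategory.{v, w} (Over S)}

/-- The piece of a basic open is a localisation. -/
theorem isLocalization_piece {v w : 𝒳.obj} [IsAffine (sch 𝒳 w)] [IsAffine (sch 𝒳 v)] (φ : v ⟶ w)
    [IsOpenImmersion (bmap 𝒳 φ)] (g : Γ(sch 𝒳 w, ⊤)) (hr : (bmap 𝒳 φ).opensRange = (sch 𝒳 w).basicOpen g) :
    letI := (bmap 𝒳 φ).appTop.hom.toAlgebra
    IsLocalization.Away g Γ(sch 𝒳 v, ⊤) := by
  letI := (bmap 𝒳 φ).appTop.hom.toAlgebra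
  haveI : IsLocalization.Away g Γ(sch 𝒳 w, (sch 𝒳 w).basicOpen g) :=
    (isAffineOpen_top (sch 𝒳 w)).isLocalization_basicOpen g
  let W := (sch 𝒳 w).basicOpen g
  have hle : ⊤ ≤ bmap 𝒳 φ ⁻¹ᵁ W := le_preimage φ hr
  haveI : IsIso ((bmap 𝒳 φ).appLE W ⊤ hle) := by
    haveI := (bmap 𝒳 φ).isIso_app W hr.ge
    rw [Scheme.Hom.appLE]
    haveI : IsIso (homOfLE hle) :=
      ⟨homOfLE le_top, Subsingleton.elim _ _, Subsingleton.elim _ _⟩
    haveI : IsIso ((sch 𝒳 v).presheaf.map (homOfLE hle).op) := Functor.map_isIso _ _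
    infer_instance
  let e := (asIso ((bmap 𝒳 φ).appLE W ⊤ hle)).commRingCatIsoToRingEquiv
  have hc : ∀ a, e (algebraMap Γ(sch 𝒳 w, ⊤) Γ(sch 𝒳 w, W) a) = (bmap 𝒳 φ).appTop a := fun a => by
    have h := congr($((bmap 𝒳 φ).map_appLE hle (homOfLE (le_top : W ≤ ⊤)).op) a)
    exact h.trans (appLE_top _ _ a)
  exact IsLocalization.isLocalization_of_algEquiv (Submonoid.powers g)
    ({ e with commutes' := hc } : Γ(sch 𝒳 w, W) ≃ₐ[Γ(sch 𝒳 w, ⊤)] Γ(sch 𝒳 v, ⊤))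

variable {P : FPres 𝒳} {F : FlatFun 𝒳} {ξ : 𝒳.obj}

/-- Restriction along a piece is bijective. -/
theorem sMap_piece_bijective {η : 𝒳.obj} (φ : η ⟶ ξ) [IsOpenImmersion (bmap 𝒳 φ)] {W : (sch 𝒳 ξ).Opens}
    (hW : (bmap 𝒳 φ).opensRange = W) :
    Function.Bijective (sMap (P := P) (F := F) φ (le_preimage φ hW)) := by
  have hmono : ∀ {w : 𝒳.obj} (a b : w ⟶ η), a ≫ φ = b ≫ φ → a = b := fun a b e =>
    factor_unique P.grpd φ e ((cancel_mono (bmap 𝒳 φ)).1 (by rw [← bmap_comp, e, bmap_comp]))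
  have hfac : ∀ T : Tst P ξ W, ∃ l : T.w ⟶ η, l ≫ φ = T.π := fun T => exists_piece_factor P.grpd (by
    rintro _ ⟨y, rfl⟩
    have h : bmap 𝒳 T.π y ∈ (W : Set _) := T.hU (Set.mem_univ y)
    rw [← Scheme.Hom.coe_opensRange, hW]
    exact h)
  choose l hl using hfac
  constructor
  · intro a b hab
    refine SFam.ext' (Fam.ext fun T => ?_)
    have h := congrArg (fun c => (toFam c).1 ⟨T.w, l T, le_top, T.r⟩) hab
    simp only [toFam_sMap, famMap_apply] at h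
    exact ((toFam a).congr (hl T) (top_le_comp rfl (le_preimage φ hW) le_top) T.r).symm.trans
      (h.trans ((toFam b).congr (hl T) (top_le_comp rfl (le_preimage φ hW) le_top) T.r))
  · intro n
    let n' := toFam n
    refine ⟨toFam.symm ⟨fun T => n'.1 ⟨T.w, l T, le_top, T.r⟩, fun T w' _ k π' hπ h' r' e => ?_,
      fun {w} _ π hU r₁ r₂ t e₁ e₂ => ?_⟩, SFam.ext' ?_⟩
    · exact n'.nat ⟨T.w, l T, le_top, T.r⟩ k _
        (hmono _ _ (by rw [Category.assoc, hl, hπ, hl])) le_top r' e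
    · exact (congrArg (θ P F t e₁ e₂) (n'.congr (hmono (l ⟨w, π, hU, r₁⟩) (l ⟨w, π, hU, r₂⟩)
        ((hl ⟨w, π, hU, r₁⟩).trans (hl ⟨w, π, hU, r₂⟩).symm)) le_top r₁)).trans
        (n'.trans_eq _ le_top r₁ r₂ t e₁ e₂)
    · rw [toFam_sMap, LinearEquiv.apply_symm_apply]
      exact Fam.ext fun T => n'.congr (hmono _ _ (hl _)) le_top _

section Glue

variable {ι : Type u} (U : ι → (sch 𝒳 ξ).Opens)

theorem exists_piece_in (T : Tst P ξ (iSup U)) (x : ↥(sch 𝒳 T.w)) :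
    ∃ (i : ι) (g : Γ(sch 𝒳 T.w, ⊤)), x ∈ (sch 𝒳 T.w).basicOpen g ∧
      (sch 𝒳 T.w).basicOpen g ≤ bmap 𝒳 T.π ⁻¹ᵁ U i := by
  obtain ⟨i, hi⟩ := TopologicalSpace.Opens.mem_iSup.1 (T.hU (Set.mem_univ x))
  obtain ⟨g, hg, hxg⟩ := (isAffineOpen_top (sch 𝒳 T.w)).exists_basicOpen_le (V := bmap 𝒳 T.π ⁻¹ᵁ U i) ⟨x, hi⟩
    (Set.mem_univ x)
  exact ⟨i, g, hxg, hg⟩

theorem piece_le {w v : 𝒳.obj} {ν : v ⟶ w} [IsOpenImmersion (bmap 𝒳 ν)] {V : (sch 𝒳 w).Opens}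
    (hν : (bmap 𝒳 ν).opensRange = V) {π : w ⟶ ξ} {W : (sch 𝒳 ξ).Opens} (h : V ≤ bmap 𝒳 π ⁻¹ᵁ W) :
    ⊤ ≤ bmap 𝒳 (ν ≫ π) ⁻¹ᵁ W :=
  top_le_comp rfl h (le_preimage ν hν)

/-- A family over a union is determined by its restrictions. -/
theorem Fam.ext_cover {a b : Fam P F ξ (iSup U)}
    (h : ∀ i {w : 𝒳.obj} [IsAffine (sch 𝒳 w)] (π : w ⟶ ξ) (_ : ⊤ ≤ bmap 𝒳 π ⁻¹ᵁ U i)
      (h' : ⊤ ≤ bmap 𝒳 π ⁻¹ᵁ iSup U) (r : w ⟶ P.b), a.1 ⟨w, π, h', r⟩ = b.1 ⟨w, π, h', r⟩) : a = b := by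
  refine Fam.ext fun T => ?_
  choose i g hx hg using exists_piece_in U T
  choose v ν hv hνi hνr using fun x => exists_piece P.grpd T.w ((isAffineOpen_top _).basicOpen (g x))
  haveI := hv; haveI := hνi
  refine eq_of_local v ν (fun x => inferInstance)
    (fun x => ⟨x, by rw [← Scheme.Hom.coe_opensRange, hνr]; exact hx x⟩)
    (f := fun x => pmap P F (ν x) (r := T.r) rfl) (fun x => isBC_pmap P F _ _) _ _ fun x => ?_
  have h' : ⊤ ≤ bmap 𝒳 (ν x ≫ T.π) ⁻¹ᵁ iSup U := top_le_comp rfl T.hU le_top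
  exact (a.nat T (ν x) _ rfl h' _ rfl).trans
    ((h (i x) (ν x ≫ T.π) (piece_le (hνr x) (hg x)) h' _).trans (b.nat T (ν x) _ rfl h' _ rfl).symm)

/-- Families glue. -/
theorem Fam.exists_glue (a : ∀ i, Fam P F ξ (U i))
    (hc : ∀ i j {w : 𝒳.obj} [IsAffine (sch 𝒳 w)] (π : w ⟶ ξ) (hi : ⊤ ≤ bmap 𝒳 π ⁻¹ᵁ U i)
      (hj : ⊤ ≤ bmap 𝒳 π ⁻¹ᵁ U j) (r : w ⟶ P.b), (a i).1 ⟨w, π, hi, r⟩ = (a j).1 ⟨w, π, hj, r⟩) :
    ∃ b : Fam P F ξ (iSup U), ∀ i {w : 𝒳.obj} [IsAffine (sch 𝒳 w)] (π : w ⟶ ξ) (hi : ⊤ ≤ bmap 𝒳 π ⁻¹ᵁ U i)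
      (h' : ⊤ ≤ bmap 𝒳 π ⁻¹ᵁ iSup U) (r : w ⟶ P.b), b.1 ⟨w, π, h', r⟩ = (a i).1 ⟨w, π, hi, r⟩ := by
  classical
  let Q : ∀ T : Tst P ξ (iSup U), Pull P F T.r → Prop := fun T y =>
    ∀ {w' : 𝒳.obj} [IsAffine (sch 𝒳 w')] (k : w' ⟶ T.w) (i : ι) (π' : w' ⟶ ξ) (_ : k ≫ T.π = π')
      (hi : ⊤ ≤ bmap 𝒳 π' ⁻¹ᵁ U i) (r' : w' ⟶ P.b) (e : k ≫ T.r = r'),
      pmap P F k e y = (a i).1 ⟨w', π', hi, r'⟩
  have huniq : ∀ T y y', Q T y → Q T y' → y = y' := fun T y y' hy hy' => by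
    choose i g hx hg using exists_piece_in U T
    choose v ν hv hνi hνr using fun x => exists_piece P.grpd T.w ((isAffineOpen_top _).basicOpen (g x))
    haveI := hv; haveI := hνi
    refine eq_of_local v ν (fun x => inferInstance)
      (fun x => ⟨x, by rw [← Scheme.Hom.coe_opensRange, hνr]; exact hx x⟩)
      (f := fun x => pmap P F (ν x) (r := T.r) rfl) (fun x => isBC_pmap P F _ _) _ _ fun x => ?_
    exact (hy (ν x) (i x) _ rfl (piece_le (hνr x) (hg x)) _ rfl).trans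
      (hy' (ν x) (i x) _ rfl (piece_le (hνr x) (hg x)) _ rfl).symm
  have hex : ∀ T, ∃ y, Q T y := by
    intro T
    let G : Set Γ(sch 𝒳 T.w, ⊤) := {g | ∃ i, (sch 𝒳 T.w).basicOpen g ≤ bmap 𝒳 T.π ⁻¹ᵁ U i}
    have hspan : Ideal.span G = ⊤ := by
      refine (isAffineOpen_top (sch 𝒳 T.w)).self_le_iSup_basicOpen_iff.1 fun x _ => ?_
      obtain ⟨i, g, hx, hg⟩ := exists_piece_in U T x
      exact TopologicalSpace.Opens.mem_iSup.2 ⟨⟨g, i, hg⟩, hx⟩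
    obtain ⟨t, htG, ht⟩ := (Ideal.span_eq_top_iff_finite G).1 hspan
    choose i hi using fun g : t => htG g.2
    choose v ν hv hνi hνr using fun g : t => exists_piece P.grpd T.w ((isAffineOpen_top _).basicOpen g.1)
    haveI := hv; haveI := hνi
    choose v₂ ν₂ hv₂ hνi₂ hνr₂ using fun g g' : t =>
      exists_piece P.grpd T.w ((isAffineOpen_top _).basicOpen (g.1 * g'.1))
    haveI := hv₂; haveI := hνi₂
    have hfac : ∀ (g g' h : t), (sch 𝒳 T.w).basicOpen (g.1 * g'.1) ≤ (sch 𝒳 T.w).basicOpen h.1 →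
        ∃ l : v₂ g g' ⟶ v h, l ≫ ν h = ν₂ g g' := fun g g' h hle => exists_piece_factor P.grpd (by
      rintro _ ⟨y, rfl⟩
      rw [← Scheme.Hom.coe_opensRange, hνr]
      refine hle ?_
      rw [← hνr₂]
      exact ⟨y, rfl⟩)
    choose l₁ hl₁ using fun g g' : t => hfac g g' g ((Scheme.basicOpen_mul _ _ _).le.trans inf_le_left)
    choose l₂ hl₂ using fun g g' : t => hfac g g' g' ((Scheme.basicOpen_mul _ _ _).le.trans inf_le_right)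
    have e₁ : ∀ g g', l₁ g g' ≫ ν g ≫ T.r = ν₂ g g' ≫ T.r := fun g g' => by rw [← Category.assoc, hl₁]
    have e₂ : ∀ g g', l₂ g g' ≫ ν g' ≫ T.r = ν₂ g g' ≫ T.r := fun g g' => by rw [← Category.assoc, hl₂]
    have ht' : Ideal.span (Set.range fun g : t => g.1) = ⊤ := by
      rw [← ht]; congr 1; ext x; simp
    obtain ⟨y, hy⟩ := exists_glue_localization (fun g : t => g.1) ht'
      (σ := fun g => (bmap 𝒳 (ν g)).appTop.hom) (fun g => isLocalization_piece (ν g) g.1 (hνr g))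
      (f := fun g => pmap P F (ν g) (r := T.r) rfl) (fun g => isBC_pmap P F _ _)
      (τ := fun g g' => (bmap 𝒳 (ν₂ g g')).appTop.hom)
      (fun g g' => isLocalization_piece (ν₂ g g') _ (hνr₂ g g'))
      (h := fun g g' => pmap P F (ν₂ g g') (r := T.r) rfl) (fun g g' => isBC_pmap P F _ _)
      (fun g g' => (bmap 𝒳 (l₁ g g')).appTop.hom) (fun g g' => (bmap 𝒳 (l₂ g g')).appTop.hom)
      (fun g g' c => RingHom.congr_fun ((appTop_bmap_comp (l₁ g g') (ν g)).trans (by rw [hl₁])) c)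
      (fun g g' c => RingHom.congr_fun ((appTop_bmap_comp (l₂ g g') (ν g')).trans (by rw [hl₂])) c)
      (fun g g' => pmap P F (l₁ g g') (e₁ g g')) (fun g g' => pmap P F (l₂ g g') (e₂ g g'))
      (fun g g' m => pmap_comp P F _ _ _ _ _ (hl₁ g g') m)
      (fun g g' m => pmap_comp P F _ _ _ _ _ (hl₂ g g') m)
      (fun g => (a (i g)).1 ⟨v g, ν g ≫ T.π, piece_le (hνr g) (hi g), ν g ≫ T.r⟩)
      (fun g g' => by
        have h₁ : ⊤ ≤ bmap 𝒳 (ν₂ g g' ≫ T.π) ⁻¹ᵁ U (i g) :=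
          piece_le (hνr₂ g g') (((Scheme.basicOpen_mul _ _ _).le.trans inf_le_left).trans (hi g))
        have h₂ : ⊤ ≤ bmap 𝒳 (ν₂ g g' ≫ T.π) ⁻¹ᵁ U (i g') :=
          piece_le (hνr₂ g g') (((Scheme.basicOpen_mul _ _ _).le.trans inf_le_right).trans (hi g'))
        exact ((a (i g)).nat ⟨v g, ν g ≫ T.π, piece_le (hνr g) (hi g), ν g ≫ T.r⟩ (l₁ g g') (ν₂ g g' ≫ T.π) (by rw [← Category.assoc, hl₁]) h₁ _ (e₁ g g')).trans
          ((hc _ _ _ h₁ h₂ _).trans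
            ((a (i g')).nat ⟨v g', ν g' ≫ T.π, piece_le (hνr g') (hi g'), ν g' ≫ T.r⟩ (l₂ g g') (ν₂ g g' ≫ T.π) (by rw [← Category.assoc, hl₂]) h₂ _ (e₂ g g')).symm))
    refine ⟨y, fun {w'} _ k j π' hπ hj r' e => ?_⟩
    -- check on pieces of the source
    have hloc : ∀ x : ↥(sch 𝒳 w'), ∃ (g : t) (V : (sch 𝒳 w').Opens), IsAffineOpen V ∧ x ∈ V ∧
        V ≤ bmap 𝒳 k ⁻¹ᵁ (sch 𝒳 T.w).basicOpen g.1 := by
      intro x
      have hx := ((isAffineOpen_top (sch 𝒳 T.w)).self_le_iSup_basicOpen_iff (s := (t : Set _))).2 ht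
        (Set.mem_univ (bmap 𝒳 k x))
      obtain ⟨⟨g, hg⟩, hgx⟩ := TopologicalSpace.Opens.mem_iSup.1 hx
      obtain ⟨_, ⟨V, hV, rfl⟩, hxV, hVle⟩ := (sch 𝒳 w').isBasis_affineOpens.exists_subset_of_mem_open
        (show x ∈ ((bmap 𝒳 k ⁻¹ᵁ (sch 𝒳 T.w).basicOpen g : (sch 𝒳 w').Opens) : Set _) from hgx)
        (bmap 𝒳 k ⁻¹ᵁ (sch 𝒳 T.w).basicOpen g).isOpen
      exact ⟨⟨g, hg⟩, V, hV, hxV, hVle⟩
    choose g V hV hxV hVle using hloc
    choose z μ hz hμi hμr using fun x => exists_piece P.grpd w' (hV x)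
    haveI := hz; haveI := hμi
    have hm : ∀ x, ∃ m : z x ⟶ v (g x), m ≫ ν (g x) = μ x ≫ k := fun x => exists_piece_factor P.grpd (by
      rintro _ ⟨q, rfl⟩
      rw [← Scheme.Hom.coe_opensRange, hνr, bmap_comp]
      refine hVle x ?_
      rw [← hμr]
      exact ⟨q, rfl⟩)
    choose m hm using hm
    refine eq_of_local z μ (fun x => inferInstance)
      (fun x => ⟨x, by rw [← Scheme.Hom.coe_opensRange, hμr]; exact hxV x⟩)
      (f := fun x => pmap P F (μ x) (r := r') rfl) (fun x => isBC_pmap P F _ _) _ _ fun x => ?_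
    have g₁ : (μ x ≫ k) ≫ T.r = μ x ≫ r' := by rw [Category.assoc, e]
    have g₂ : m x ≫ ν (g x) ≫ T.r = μ x ≫ r' := by rw [← Category.assoc, hm, g₁]
    have hπ₂ : (μ x ≫ k) ≫ T.π = μ x ≫ π' := by rw [Category.assoc, hπ]
    have hh₁ : ⊤ ≤ bmap 𝒳 (μ x ≫ π') ⁻¹ᵁ U (i (g x)) := by
      rw [← hπ₂]
      exact top_le_comp rfl (hi (g x)) (top_le_comp rfl (hVle x) (le_preimage (μ x) (hμr x)))
    have hh₂ : ⊤ ≤ bmap 𝒳 (μ x ≫ π') ⁻¹ᵁ U j := top_le_comp rfl hj le_top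
    rw [pmap_comp P F (μ x) k e rfl (μ x ≫ k) rfl, ← pmap_comp P F (m x) (ν (g x)) rfl g₂ (μ x ≫ k) (hm x), hy]
    exact ((a (i (g x))).nat ⟨v (g x), ν (g x) ≫ T.π, piece_le (hνr (g x)) (hi (g x)), ν (g x) ≫ T.r⟩ (m x) (μ x ≫ π') (by rw [← Category.assoc, hm, hπ₂]) hh₁ _ g₂).trans
      ((hc _ _ _ hh₁ hh₂ _).trans ((a j).nat ⟨w', π', hj, r'⟩ (μ x) _ rfl hh₂ _ rfl).symm)
  choose y hy using hex
  refine ⟨⟨y, fun T w₁ _ k π' hπ h' r' e => ?_, fun {w} _ π hU r₁ r₂ t e₁ e₂ => ?_⟩,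
    fun i w _ π hi h' r => ?_⟩
  · refine huniq ⟨w₁, π', h', r'⟩ _ _ (fun {w'} _ k' i π'' hπ'' hi r'' e' => ?_) (hy _)
    rw [pmap_comp P F k' k e e' _ rfl]
    exact hy T (k' ≫ k) i π'' (by rw [Category.assoc, hπ, hπ'']) hi r'' _
  · refine huniq ⟨w, π, hU, r₂⟩ _ _ (fun {w'} _ k' i π'' hπ'' hi r'' e' => ?_) (hy _)
    rw [pmap_θ P F k' t e₁ e₂ (k' ≫ t) rfl (r₁' := k' ≫ r₁) rfl e',
      hy ⟨w, π, hU, r₁⟩ k' i π'' hπ'' hi (k' ≫ r₁) rfl]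
    exact (a i).trans_eq _ hi _ _ _ _ _
  · exact (pmap_id P F (Category.id_comp _) _).symm.trans
      (hy ⟨w, π, h', r⟩ (𝟙 w) i π (Category.id_comp _) hi r (Category.id_comp _))

end Glue

end Groth.Agent.StQC14
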