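import Groth.Agent.Lib.StQC14.FlatFun
import Mathlib.LinearAlgebra.TensorProduct.Pi

/-!
# Restriction of scalars bookkeeping for descent along finite flat families
-/

universe u

open CategoryTheory TensorProduct

set_option linter.style.haveILetI false
set_option linter.unusedSectionVars false
set_option backward.isDefEq.respectTransparency false
set_option backward.isDefEq.respectTransparency.types false

namespace Groth.Agent.StQC14

section RS

variable {A B : Type u} [CommRing A] [CommRing B]

/-- A module read over a ring mapping to its ring of scalars. -/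
def RS (_σ : A →+* B) (N : Type u) : Type u := N

variable (σ : A →+* B) (N : Type u) [AddCommGroup N] [Module B N]

instance : AddCommGroup (RS σ N) := inferInstanceAs (AddCommGroup N)

instance : Module A (RS σ N) := Module.compHom N σ

/-- A ring read as an algebra through a map. -/
def RA (_σ : A →+* B) : Type u := B

instance : CommRing (RA σ) := inferInstanceAs (CommRing B)

instance : Algebra A (RA σ) := (σ : A →+* RA σ).toAlgebra

variable {σ N}

/-- The identity, into the restricted module. -/
def RS.mk : N →+ RS σ N where
  toFun x := x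
  map_zero' := rfl
  map_add' _ _ := rfl

/-- The identity, out of the restricted module. -/
def RS.val : RS σ N →+ N where
  toFun x := x
  map_zero' := rfl
  map_add' _ _ := rfl

theorem RS.val_smul (a : A) (x : RS σ N) : RS.val (a • x) = σ a • RS.val x := rfl

theorem RS.val_mk (x : N) : RS.val (RS.mk (σ := σ) x) = x := rfl

theorem RS.mk_val (x : RS σ N) : RS.mk (RS.val x) = x := rfl

/-- The identity, out of the restricted ring. -/
def RA.val : RA σ →+* B := RingHom.id B

theorem RA.val_one : RA.val (1 : RA σ) = 1 := rfl

theorem RA.val_algebraMap (a : A) : RA.val (algebraMap A (RA σ) a) = σ a := rfl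

end RS

section Ev

variable {A B C S : Type u} [CommRing A] [CommRing B] [CommRing C] [CommRing S]
  {σ : A →+* B} {τ : A →+* C} {φ : B →+* S} {ψ : C →+* S} (h : φ.comp σ = ψ.comp τ)
  {N : Type u} [AddCommGroup N] [Module C N] {P : Type u} [AddCommGroup P] [Module S P]

/-- Evaluation of a tensor product of restrictions. -/
noncomputable def evT (t : N →ₛₗ[ψ] P) : RA σ ⊗[A] RS τ N →+ P :=
  TensorProduct.liftAddHom
    { toFun := fun b => (DistribMulAction.toAddMonoidHom P (φ (RA.val b))).comp (t.toAddMonoidHom.comp RS.val)
      map_zero' := by ext x; simp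
      map_add' := fun b b' => by ext x; simp [add_smul] }
    fun a b x => by
      show φ (RA.val (a • b)) • t (RS.val x) = φ (RA.val b) • t (RS.val (a • x))
      have e : RA.val (a • b) = σ a * RA.val b := rfl
      rw [e, map_mul, RS.val_smul, t.map_smulₛₗ, smul_smul, mul_comm (φ (RA.val b)),
        ← RingHom.comp_apply φ σ, h]
      rfl

theorem evT_tmul (t : N →ₛₗ[ψ] P) (b : RA σ) (x : RS τ N) :
    evT h t (b ⊗ₜ x) = φ (RA.val b) • t (RS.val x) := rfl

end Ev

section BC

variable {A B : Type u} [CommRing A] [CommRing B] {σ : A →+* B}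
  {M : Type u} [AddCommGroup M] [Module A M] {N : Type u} [AddCommGroup N] [Module B N] {f : M →ₛₗ[σ] N}

/-- A base change as an equivalence from the tensor product. -/
theorem IsBC.exists_equiv (hf : IsBC f) :
    ∃ e : RA σ ⊗[A] M ≃+ N, ∀ b m, e (b ⊗ₜ m) = RA.val b • f m := by
  letI := σ.toAlgebra
  letI := Module.compHom N σ
  haveI : IsScalarTower A B N := IsScalarTower.of_algebraMap_smul fun _ _ => rfl
  exact ⟨(IsBaseChange.equiv hf).toAddEquiv, fun b m => IsBaseChange.equiv_tmul hf b m⟩

/-- The comparison with the tensor product is a base change criterion. -/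
theorem IsBC.of_tensor (f : M →ₛₗ[σ] N) (L : RA σ ⊗[A] M →+ N) (hL : ∀ b m, L (b ⊗ₜ m) = RA.val b • f m)
    (hb : Function.Bijective L) : IsBC f := by
  letI := σ.toAlgebra
  letI := Module.compHom N σ
  haveI : IsScalarTower A B N := IsScalarTower.of_algebraMap_smul fun _ _ => rfl
  let fl : M →ₗ[A] N :=
    { toFun := fun x => f x, map_add' := fun x y => f.map_add x y, map_smul' := fun a x => f.map_smulₛₗ a x }
  let L' : B ⊗[A] M →ₗ[B] N := TensorProduct.AlgebraTensorModule.lift ((LinearMap.lsmul B (M →ₗ[A] N)).flip fl)
  have e : ∀ x, L' x = L x := fun x => by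
    induction x using TensorProduct.induction_on with
    | zero => exact (map_zero L').trans (map_zero L).symm
    | tmul b m => exact (hL b m).symm
    | add a b ha hb => exact (map_add L' a b).trans ((congrArg₂ (· + ·) ha hb).trans (map_add L a b).symm)
  refine IsBaseChange.of_equiv (LinearEquiv.ofBijective L' ?_) fun m => (one_smul B (fl m))
  rw [show (L' : B ⊗[A] M → N) = L from funext e]
  exact hb

/-- The tensor product comparison of a semilinear map. -/
noncomputable def lT (f : M →ₛₗ[σ] N) : RA σ ⊗[A] M →+ N :=
  TensorProduct.liftAddHom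
    { toFun := fun b => (DistribMulAction.toAddMonoidHom N (RA.val b)).comp f.toAddMonoidHom
      map_zero' := by ext x; simp
      map_add' := fun b b' => by ext x; simp [add_smul] }
    fun a b x => by
      show RA.val (a • b) • f x = RA.val b • f (a • x)
      rw [f.map_smulₛₗ, smul_smul, mul_comm]
      rfl

theorem lT_tmul (f : M →ₛₗ[σ] N) (b : RA σ) (x : M) : lT f (b ⊗ₜ x) = RA.val b • f x := rfl

theorem flat_RA (h : σ.Flat) : Module.Flat A (RA σ) := h

end BC

end Groth.Agent.StQC14
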