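import Groth.Agent.Lib.StQC14.Pull
import Groth.Agent.Lib.StQC14.GdAlg

/-!
# Modules on a class of affine objects which covers all affine objects
-/

universe t w v u

open CategoryTheory CategoryTheory.Functor CategoryTheory.Limits AlgebraicGeometry Opposite
open scoped TensorProduct

set_option linter.style.haveILetI false
set_option linter.unusedSectionVars false
set_option backward.isDefEq.respectTransparency false
set_option backward.isDefEq.respectTransparency.types false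

namespace Groth.Agent.StQC14

open StMod

variable {S : Scheme.{u}}

/-- A class of affine objects covering every affine object by finite flat families. -/
structure Bas (ℬ : BasedCategory.{v, w} (Over S)) where
  grpd : FibCat.IsFibGrpd ℬ.p
  ι : Type t
  o : ι → ℬ.obj
  [aff : ∀ i, IsAffine (sch ℬ (o i))]
  cover : ∀ (η : ℬ.obj) [IsAffine (sch ℬ η)], ∃ (n : ℕ) (i : Fin n → ι) (κ : ∀ k, o (i k) ⟶ η),
    (∀ k, Flat (bmap ℬ (κ k))) ∧ ∀ x : ↥(sch ℬ η), ∃ k, x ∈ Set.range (bmap ℬ (κ k))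

attribute [instance] Bas.aff

variable {ℬ : BasedCategory.{v, w} (Over S)}

/-- Modules on the class, compatible with base change. -/
structure BasMod (B : Bas.{t} ℬ) where
  N : ∀ i : B.ι, ModuleCat.{u} Γ(sch ℬ (B.o i), ⊤)
  T : ∀ {i j : B.ι} (b : B.o i ⟶ B.o j), N j →ₛₗ[(bmap ℬ b).appTop.hom] N i
  T_id : ∀ (i : B.ι) (x : N i), T (𝟙 (B.o i)) x = x
  T_comp : ∀ {i j k : B.ι} (a : B.o i ⟶ B.o j) (b : B.o j ⟶ B.o k) (x : N k), T (a ≫ b) x = T a (T b x)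
  isBC : ∀ {i j : B.ι} (b : B.o i ⟶ B.o j), IsBC (T b)

variable {B : Bas.{t} ℬ}

/-- A finite flat cover by members of the class. -/
structure BCov (B : Bas.{t} ℬ) (η : ℬ.obj) where
  n : ℕ
  i : Fin n → B.ι
  κ : ∀ k, B.o (i k) ⟶ η
  flat : ∀ k, Flat (bmap ℬ (κ k))
  surj : ∀ x : ↥(sch ℬ η), ∃ k, x ∈ Set.range (bmap ℬ (κ k))

theorem exists_bcov (η : ℬ.obj) [IsAffine (sch ℬ η)] : Nonempty (BCov B η) := by
  obtain ⟨n, i, κ, h₁, h₂⟩ := B.cover η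
  exact ⟨⟨n, i, κ, h₁, h₂⟩⟩

variable (D : BasMod B) {i j : B.ι}

theorem BasMod.T_congr {b b' : B.o i ⟶ B.o j} (e : b = b') (x : D.N j) : D.T b x = D.T b' x := by
  subst e
  rfl

/-- Elements are determined on the lifts to a cover. -/
theorem BasMod.eq_of_lifts {η : ℬ.obj} [IsAffine (sch ℬ η)] (C : BCov B η) (g : B.o i ⟶ η) {x y : D.N i}
    (h : ∀ (k : Fin C.n) (w : B.ι) (a : B.o w ⟶ B.o i) (b : B.o w ⟶ B.o (C.i k)),
      a ≫ g = b ≫ C.κ k → D.T a x = D.T a y) : x = y := by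
  choose ζ p₁ p₂ hζ hc sq using fun k => exists_pullback B.grpd g (C.κ k)
  haveI := hζ
  let C'' := fun k => (exists_bcov (B := B) (ζ k)).some
  refine eq_of_local (κ := Σ k, Fin (C'' k).n) (fun q => B.o ((C'' q.1).i q.2))
    (fun q => (C'' q.1).κ q.2 ≫ p₁ q.1) (fun q => ?_) (fun z => ?_)
    (N := fun q => D.N ((C'' q.1).i q.2)) (f := fun q => D.T ((C'' q.1).κ q.2 ≫ p₁ q.1))
    (fun q => D.isBC _) _ _ fun q => ?_
  · haveI := C.flat q.1
    haveI : Flat (bmap ℬ (p₁ q.1)) := MorphismProperty.of_isPullback (sq q.1).flip inferInstance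
    haveI := (C'' q.1).flat q.2
    rw [bmap_comp]
    infer_instance
  · obtain ⟨k, s, hs⟩ := C.surj (bmap ℬ g z)
    obtain ⟨z', hz₁, -⟩ := Scheme.exists_preimage_of_isPullback (sq k) z s hs.symm
    obtain ⟨l, s', hs'⟩ := (C'' k).surj z'
    refine ⟨⟨k, l⟩, s', ?_⟩
    rw [bmap_comp, Scheme.Hom.comp_apply, hs', hz₁]
  · exact h q.1 _ _ ((C'' q.1).κ q.2 ≫ p₂ q.1) (by rw [Category.assoc, Category.assoc, hc])

section Pair

variable {z : ℬ.obj} [IsAffine (sch ℬ z)] {j k : B.ι} (πj : B.o j ⟶ z) (πk : B.o k ⟶ z)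

/-- Evaluation of the tensor product of two members at a member over both. -/
noncomputable def BasMod.ev {s : B.ι} (u : B.o s ⟶ B.o j) (v : B.o s ⟶ B.o k) (e : u ≫ πj = v ≫ πk) :
    RA (bmap ℬ πj).appTop.hom ⊗[Γ(sch ℬ z, ⊤)] RS (bmap ℬ πk).appTop.hom (D.N k) →+ D.N s :=
  evT (φ := (bmap ℬ u).appTop.hom) (ψ := (bmap ℬ v).appTop.hom)
    (by rw [appTop_bmap_comp, appTop_bmap_comp, e]) (D.T v)

theorem BasMod.ev_tmul {s : B.ι} (u : B.o s ⟶ B.o j) (v : B.o s ⟶ B.o k) (e : u ≫ πj = v ≫ πk)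
    (b : RA (bmap ℬ πj).appTop.hom) (x : D.N k) :
    D.ev πj πk u v e (b ⊗ₜ RS.mk x) = (bmap ℬ u).appTop.hom (RA.val b) • D.T v x := rfl

theorem BasMod.ev_one_tmul {s : B.ι} (u : B.o s ⟶ B.o j) (v : B.o s ⟶ B.o k) (e : u ≫ πj = v ≫ πk) (x : D.N k) :
    D.ev πj πk u v e (1 ⊗ₜ RS.mk x) = D.T v x := by
  rw [D.ev_tmul, RA.val_one, _root_.map_one, one_smul]

/-- The evaluations through a fibre product. -/
theorem BasMod.exists_chart {ζ : ℬ.obj} [IsAffine (sch ℬ ζ)] {p₁ : ζ ⟶ B.o j} {p₂ : ζ ⟶ B.o k}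
    (hc : p₁ ≫ πj = p₂ ≫ πk) (sq : IsPullback (bmap ℬ p₁) (bmap ℬ p₂) (bmap ℬ πj) (bmap ℬ πk)) (C : BCov B ζ) :
    ∃ (E : RA (bmap ℬ πj).appTop.hom ⊗[Γ(sch ℬ z, ⊤)] RS (bmap ℬ πk).appTop.hom (D.N k) ≃+
        PullT (bmap ℬ p₂).appTop.hom (D.N k))
      (ℓ : ∀ m, PullT (bmap ℬ p₂).appTop.hom (D.N k) →ₛₗ[(bmap ℬ (C.κ m)).appTop.hom] D.N (C.i m)),
      (∀ m, IsBC (ℓ m)) ∧ (∀ m x, ℓ m (pullUnit (bmap ℬ p₂).appTop.hom (D.N k) x) = D.T (C.κ m ≫ p₂) x) ∧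
      ∀ m x, ℓ m (E x) = D.ev πj πk (C.κ m ≫ p₁) (C.κ m ≫ p₂) (by rw [Category.assoc, Category.assoc, hc]) x := by
  obtain ⟨E₀, hE₀⟩ := isBC_restrict (g := (bmap ℬ πj).appTop.hom) (sB := (bmap ℬ πk).appTop.hom)
    (κB := (bmap ℬ p₂).appTop.hom) (sB' := (bmap ℬ p₁).appTop.hom) (isPushout_appTop_of_isPullback sq.flip)
    (isBC_pullUnit (bmap ℬ p₂).appTop.hom (D.N k))
  have hℓ := fun m => (isBC_pullUnit (bmap ℬ p₂).appTop.hom (D.N k)).exists_semilift (bmap ℬ (C.κ m)).appTop.hom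
    (appTop_bmap_comp (C.κ m) p₂) (D.T (C.κ m ≫ p₂))
  choose ℓ hℓ' using hℓ
  refine ⟨E₀, ℓ, fun m => IsBC.of_comp (appTop_bmap_comp (C.κ m) p₂) (isBC_pullUnit _ _) (D.isBC _) (hℓ' m),
    hℓ', fun m x => ?_⟩
  induction x using TensorProduct.induction_on with
  | zero => exact (congrArg (ℓ m) (_root_.map_zero E₀)).trans ((_root_.map_zero _).trans (_root_.map_zero _).symm)
  | tmul b x =>
    refine (congrArg (ℓ m) (hE₀ b x)).trans ?_
    rw [LinearMap.map_smulₛₗ]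
    refine (congr_arg₂ (· • ·) ?_ (hℓ' m (RS.val x))).trans (D.ev_tmul πj πk _ _ _ b (RS.val x)).symm
    exact RingHom.congr_fun (appTop_bmap_comp (C.κ m) p₁) (RA.val b)
  | add a b ha hb =>
    exact (congrArg (ℓ m) (_root_.map_add E₀ a b)).trans ((_root_.map_add _ _ _).trans
      ((congr_arg₂ (· + ·) ha hb).trans (_root_.map_add _ _ _).symm))

/-- The evaluations separate. -/
theorem BasMod.eq_of_ev {x y : RA (bmap ℬ πj).appTop.hom ⊗[Γ(sch ℬ z, ⊤)] RS (bmap ℬ πk).appTop.hom (D.N k)}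
    (h : ∀ (s : B.ι) (u : B.o s ⟶ B.o j) (v : B.o s ⟶ B.o k) (e : u ≫ πj = v ≫ πk),
      D.ev πj πk u v e x = D.ev πj πk u v e y) : x = y := by
  obtain ⟨ζ, p₁, p₂, hζ, hc, sq⟩ := exists_pullback B.grpd πj πk
  obtain ⟨C⟩ := exists_bcov (B := B) ζ
  obtain ⟨E, ℓ, hℓ, -, hE⟩ := D.exists_chart πj πk hc sq C
  refine E.injective (eq_of_local (fun m => B.o (C.i m)) C.κ C.flat C.surj (N := fun m => D.N (C.i m)) (f := ℓ)
    hℓ _ _ fun m => ?_)
  rw [hE, hE]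
  exact h _ _ _ _

end Pair

section Exists

variable {z : ℬ.obj} [IsAffine (sch ℬ z)] (C : BCov B z) {M : Type u} [AddCommGroup M] [Module Γ(sch ℬ z, ⊤) M]

/-- Descent of elements along a cover. -/
theorem BasMod.exists_of_compat {f : ∀ k, M →ₛₗ[(bmap ℬ (C.κ k)).appTop.hom] D.N (C.i k)} (hf : ∀ k, IsBC (f k))
    (hnat : ∀ (j k : Fin C.n) (s : B.ι) (a : B.o s ⟶ B.o (C.i j)) (b : B.o s ⟶ B.o (C.i k)),
      a ≫ C.κ j = b ≫ C.κ k → ∀ m, D.T a (f j m) = D.T b (f k m))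
    (x : ∀ k, D.N (C.i k))
    (hx : ∀ (j k : Fin C.n) (s : B.ι) (a : B.o s ⟶ B.o (C.i j)) (b : B.o s ⟶ B.o (C.i k)),
      a ≫ C.κ j = b ≫ C.κ k → D.T a (x j) = D.T b (x k)) : ∃ m, ∀ k, f k m = x k := by
  classical
  let δ : M →ₗ[Γ(sch ℬ z, ⊤)] ∀ k, RS (bmap ℬ (C.κ k)).appTop.hom (D.N (C.i k)) :=
    LinearMap.pi fun k =>
      { toFun := fun m => RS.mk (f k m)
        map_add' := fun a b => (congrArg RS.mk ((f k).map_add a b)).trans (RS.mk.map_add _ _)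
        map_smul' := fun c m => (congrArg RS.mk ((f k).map_smulₛₗ c m)) }
  let Q := ∀ k, RS (bmap ℬ (C.κ k)).appTop.hom (D.N (C.i k))
  let xq : Q := fun k => RS.mk (x k)
  suffices h : Submodule.Quotient.mk (p := LinearMap.range δ) xq = 0 by
    obtain ⟨m, hm⟩ := (Submodule.Quotient.mk_eq_zero _).1 h
    exact ⟨m, fun k => congrArg RS.val (congrFun hm k)⟩
  refine eq_zero_of_family (σ := fun k => (bmap ℬ (C.κ k)).appTop.hom) (fun k => ?_) ?_
    (N := fun k => PullT (bmap ℬ (C.κ k)).appTop.hom (Q ⧸ LinearMap.range δ))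
    (f := fun k => pullUnit _ _) (fun k => isBC_pullUnit _ _) _ fun j => ?_
  · haveI := C.flat k
    exact flat_appTop _
  · intro p
    obtain ⟨y, rfl⟩ := (sch ℬ z).isoSpec.hom.surjective p
    obtain ⟨k, s, hs⟩ := C.surj y
    refine ⟨k, (sch ℬ _).isoSpec.hom s, ?_⟩
    rw [← hs]
    exact congr($(Scheme.isoSpec_hom_naturality (bmap ℬ (C.κ k))) s)
  show ((1 : RA (bmap ℬ (C.κ j)).appTop.hom) ⊗ₜ[Γ(sch ℬ z, ⊤)] Submodule.Quotient.mk (p := LinearMap.range δ) xq :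
    RA (bmap ℬ (C.κ j)).appTop.hom ⊗[Γ(sch ℬ z, ⊤)] (Q ⧸ LinearMap.range δ)) = 0
  obtain ⟨e, he⟩ := (hf j).exists_equiv
  obtain ⟨w, hw⟩ := e.surjective (x j)
  have key : δ.lTensor (RA (bmap ℬ (C.κ j)).appTop.hom) w = 1 ⊗ₜ xq := by
    refine (TensorProduct.piRight Γ(sch ℬ z, ⊤) Γ(sch ℬ z, ⊤) _ _).injective (funext fun k => ?_)
    refine D.eq_of_ev (C.κ j) (C.κ k) fun s u v huv => ?_
    have e1 : ∀ w', D.ev (C.κ j) (C.κ k) u v huv (TensorProduct.piRight Γ(sch ℬ z, ⊤) Γ(sch ℬ z, ⊤) _ _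
        (δ.lTensor (RA (bmap ℬ (C.κ j)).appTop.hom) w') k) = D.T u (e w') := fun w' => by
      induction w' using TensorProduct.induction_on with
      | zero => simp
      | tmul b m =>
        rw [LinearMap.lTensor_tmul, TensorProduct.piRight_apply, TensorProduct.piRightHom_tmul, he,
          LinearMap.map_smulₛₗ]
        refine (D.ev_tmul (C.κ j) (C.κ k) u v huv b (f k m)).trans ?_
        rw [hnat j k s u v huv m]
      | add a b ha hb => simp only [_root_.map_add, Pi.add_apply, ha, hb]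
    rw [e1, hw, hx j k s u v huv, TensorProduct.piRight_apply, TensorProduct.piRightHom_tmul]
    exact (D.ev_one_tmul (C.κ j) (C.κ k) u v huv (x k)).symm
  have h2 := congrArg ((LinearMap.range δ).mkQ.lTensor (RA (bmap ℬ (C.κ j)).appTop.hom)) key
  rw [LinearMap.lTensor_tmul, ← LinearMap.lTensor_comp_apply, LinearMap.range_mkQ_comp, LinearMap.lTensor_zero,
    LinearMap.zero_apply] at h2
  exact h2.symm

end Exists

end Groth.Agent.StQC14
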