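import Groth.Agent.Lib.StQC14.GdSec
import Groth.Agent.Lib.PullBC11.Crit
import Groth.Agent.Lib.ModM1.QcohCrit

/-!
# The quasi-coherent module extended from a covering class
-/

universe t w v u

open CategoryTheory CategoryTheory.Functor CategoryTheory.Limits AlgebraicGeometry Opposite TopologicalSpace
open scoped TensorProduct

set_option linter.style.haveILetI false
set_option linter.unusedSectionVars false
set_option backward.isDefEq.respectTransparency false
set_option backward.isDefEq.respectTransparency.types false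

namespace Groth.Agent.StQC14

open StMod

variable {S : Scheme.{u}} {ℬ : BasedCategory.{v, w} (Over S)} {B : Bas.{t} ℬ} (D : BasMod B) (ξ : ℬ.obj)

/-- Restriction of sections to a smaller open. -/
noncomputable def gsRes {W W' : (sch ℬ ξ).Opens} (h : W' ≤ W) : GSec D ξ W →+ GSec D ξ W' :=
  (gsMap (𝟙 ξ) (le_id_preimage h)).toAddMonoidHom

variable {D ξ}

theorem gsRes_eq {W W' : (sch ℬ ξ).Opens} (h : W' ≤ W) (a : GSec D ξ W) :
    gsRes D ξ h a = gsMap (𝟙 ξ) (le_id_preimage h) a := rfl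

theorem gsRes_smul {W W' : (sch ℬ ξ).Opens} (h : W' ≤ W) (c : Γ(sch ℬ ξ, W)) (a : GSec D ξ W) :
    gsRes D ξ h (c • a) = (sch ℬ ξ).presheaf.map (homOfLE h).op c • gsRes D ξ h a := by
  rw [gsRes_eq, gsRes_eq, LinearMap.map_smulₛₗ]
  refine congrArg (· • _) ((appLE_eq_of_eq (bmap_id ξ) _ c).trans ?_)
  rw [Scheme.Hom.appLE, Scheme.Hom.id_app]
  rfl

theorem toG_gsRes_at {W W' : (sch ℬ ξ).Opens} (h : W' ≤ W) (a : GSec D ξ W) (i : B.ι) (g : B.o i ⟶ ξ)
    (hU : ⊤ ≤ bmap ℬ g ⁻¹ᵁ W') :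
    (toG (gsRes D ξ h a)).at i g hU = (toG a).at i g (hU.trans ((bmap ℬ g).preimage_mono h)) := by
  rw [gsRes_eq, toG_gsMap, gMap_at]
  exact (toG a).at_congr (Category.comp_id g) _

variable (D ξ)

/-- The presheaf of sections on an object. -/
noncomputable def gdAb : (Opens (sch ℬ ξ))ᵒᵖ ⥤ AddCommGrpCat.{u} where
  obj W := AddCommGrpCat.of (GSec D ξ W.unop)
  map {W W'} g := AddCommGrpCat.ofHom (gsRes D ξ g.unop.le)
  map_id W := AddCommGrpCat.hom_ext (AddMonoidHom.ext fun a => gsMap_id _ a)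
  map_comp {W W' W''} f g := AddCommGrpCat.hom_ext (AddMonoidHom.ext fun a =>
    (gsMap_comp (𝟙 ξ) (𝟙 ξ) (Category.comp_id _) (le_id_preimage f.unop.le) (le_id_preimage g.unop.le) _ a).symm)

noncomputable instance gdModule (W : (Opens (sch ℬ ξ))ᵒᵖ) :
    Module ((sch ℬ ξ).ringCatSheaf.obj.obj W) ((gdAb D ξ).obj W) :=
  inferInstanceAs (Module Γ(sch ℬ ξ, W.unop) (GSec D ξ W.unop))

theorem gdAb_isSheaf : TopCat.Presheaf.IsSheaf (gdAb D ξ : TopCat.Presheaf AddCommGrpCat.{u} _) := by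
  rw [TopCat.Presheaf.isSheaf_iff_isSheafUniqueGluing]
  intro κ U sf hsf
  let a : ∀ k, GFam D ξ (U k) := fun k => toG (show GSec D ξ (U k) from sf k)
  have hc : ∀ j k (i : B.ι) (g : B.o i ⟶ ξ) (hj : ⊤ ≤ bmap ℬ g ⁻¹ᵁ U j) (hk : ⊤ ≤ bmap ℬ g ⁻¹ᵁ U k),
      (a j).at i g hj = (a k).at i g hk := by
    intro j k i g hj hk
    have hjk : ⊤ ≤ bmap ℬ g ⁻¹ᵁ (U j ⊓ U k) := by
      rw [Scheme.Hom.preimage_inf]
      exact le_inf hj hk
    have h := congrArg (fun t : GSec D ξ (U j ⊓ U k) => (toG t).at i g hjk) (hsf j k)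
    exact (toG_gsRes_at inf_le_left (show GSec D ξ (U j) from sf j) i g hjk).symm.trans
      (h.trans (toG_gsRes_at inf_le_right (show GSec D ξ (U k) from sf k) i g hjk))
  obtain ⟨b, hb⟩ := exists_glue_gfam U a hc
  refine ⟨toG.symm b, fun k => toG.injective (GFam.ext fun i g hU => ?_), fun c hcu =>
    toG.injective (GFam.ext fun i g hU => ?_)⟩
  · refine (toG_gsRes_at (le_iSup U k) _ i g hU).trans ?_
    rw [LinearEquiv.apply_symm_apply]
    exact hb k i g hU _
  · rw [LinearEquiv.apply_symm_apply]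
    obtain ⟨C, hC⟩ := exists_bcov_le (B := B) (fun k => bmap ℬ g ⁻¹ᵁ U k) fun x => by
      obtain ⟨k, hk⟩ := TopologicalSpace.Opens.mem_iSup.1
        (show bmap ℬ g x ∈ iSup U from hU (Set.mem_univ x))
      exact ⟨k, hk⟩
    refine D.eq_of_lifts C (𝟙 _) fun l w d e he => ?_
    rw [Category.comp_id] at he
    obtain ⟨k, hk⟩ := hC l
    have h₁ : ⊤ ≤ bmap ℬ (d ≫ g) ⁻¹ᵁ U k := top_le_comp rfl le_rfl (top_le_comp he.symm hk le_top)
    have h₂ : ⊤ ≤ bmap ℬ (d ≫ g) ⁻¹ᵁ iSup U := h₁.trans ((bmap ℬ _).preimage_mono (le_iSup U k))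
    rw [GFam.nat _ d g hU _ h₂ rfl, GFam.nat _ d g hU _ h₂ rfl, hb k w _ h₁ h₂]
    exact (toG_gsRes_at (le_iSup U k) (show GSec D ξ (iSup U) from c) w (d ≫ g) h₁).symm.trans
      (congrArg (fun t : GSec D ξ (U k) => (toG t).at w (d ≫ g) h₁) (hcu k))

/-- The extended module on an object. -/
noncomputable def gdObj : (sch ℬ ξ).Modules :=
  ⟨PresheafOfModules.ofPresheaf (R := (sch ℬ ξ).ringCatSheaf.obj) (gdAb D ξ)
    fun _ _ f r m => gsRes_smul f.unop.le r m, gdAb_isSheaf D ξ⟩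

variable {D ξ}

/-- The comparison map of the extended module. -/
noncomputable def gdMap {ξ' : ℬ.obj} (φ : ξ' ⟶ ξ) {g : sch ℬ ξ' ⟶ sch ℬ ξ} (hg : bmap ℬ φ = g) :
    gdObj D ξ ⟶ (Scheme.Modules.pushforward g).obj (gdObj D ξ') :=
  ⟨PresheafOfModules.homMk
    { app := fun W => AddCommGrpCat.ofHom (gsMap φ (descMap_le φ hg W.unop)).toAddMonoidHom
      naturality := fun W W' f => by
        refine AddCommGrpCat.hom_ext (AddMonoidHom.ext fun a => ?_)
        show gsMap φ (descMap_le φ hg W'.unop) (gsRes D ξ f.unop.le (show GSec D ξ W.unop from a)) =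
          gsRes D ξ' (g.preimage_mono f.unop.le) (gsMap φ (descMap_le φ hg W.unop) a)
        rw [gsRes_eq, gsRes_eq,
          gsMap_comp φ (𝟙 ξ) (Category.comp_id _) (le_id_preimage f.unop.le) (descMap_le φ hg W'.unop)
            ((g.preimage_mono f.unop.le).trans (descMap_le φ hg W.unop)),
          gsMap_comp (𝟙 ξ') φ (Category.id_comp _) (descMap_le φ hg W.unop)
            (le_id_preimage (g.preimage_mono f.unop.le))
            ((g.preimage_mono f.unop.le).trans (descMap_le φ hg W.unop))] }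
    fun W r a => by
      show gsMap φ (descMap_le φ hg W.unop) ((show Γ(sch ℬ ξ, W.unop) from r) • (show GSec D ξ W.unop from a)) =
        g.app W.unop r • gsMap φ (descMap_le φ hg W.unop) a
      rw [LinearMap.map_smulₛₗ]
      refine congrArg (· • _) ?_
      subst hg
      rw [Scheme.Hom.app_eq_appLE]⟩

variable (D)

/-- The module extended from the class. -/
noncomputable def gd : Mod ℬ where
  obj := gdObj D
  map φ _ hg := gdMap φ hg
  map_id ξ := by
    refine Scheme.Modules.hom_ext _ _ fun U => ConcreteCategory.hom_ext _ _ fun s => ?_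
    simp only [Scheme.Modules.Hom.comp_app, Scheme.Modules.pushforwardId_hom_app_app, Category.comp_id,
      Scheme.Modules.Hom.id_app]
    exact gsMap_id _ (show GSec D ξ U from s)
  map_comp {ξ'' ξ' ξ} ψ φ {h g} hh hg := by
    refine Scheme.Modules.hom_ext _ _ fun U => ConcreteCategory.hom_ext _ _ fun s => ?_
    simp only [Scheme.Modules.Hom.comp_app, Scheme.Modules.pushforwardComp_hom_app_app,
      Scheme.Modules.pushforward_map_app, Category.comp_id]
    exact (gsMap_comp ψ φ rfl (descMap_le φ hg U) (descMap_le ψ hh (g ⁻¹ᵁ U)) _ (show GSec D ξ U from s)).symm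

theorem gd_mapTop {ξ' ξ : ℬ.obj} [IsAffine (sch ℬ ξ)] (φ : ξ' ⟶ ξ) (a : GSec D ξ ⊤) :
    (show GSec D ξ' ⊤ from (gd D).mapTop φ a) = gsT φ a := by
  show gsMap φ _ a = gsMap φ _ a
  rfl

variable {D}

/-- Restriction along a piece is bijective. -/
theorem gsMap_piece_bijective {η : ℬ.obj} (φ : η ⟶ ξ) [IsOpenImmersion (bmap ℬ φ)] {W : (sch ℬ ξ).Opens}
    (hW : (bmap ℬ φ).opensRange = W) :
    Function.Bijective (gsMap (D := D) φ (le_preimage φ hW)) := by
  have hmono : ∀ {w : ℬ.obj} (a b : w ⟶ η), a ≫ φ = b ≫ φ → a = b := fun a b e =>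
    factor_unique B.grpd φ e ((cancel_mono (bmap ℬ φ)).1 (by rw [← bmap_comp, e, bmap_comp]))
  have hfac : ∀ t : GTst B ξ W, ∃ l : B.o t.i ⟶ η, l ≫ φ = t.g := fun t => exists_piece_factor B.grpd (by
    rintro _ ⟨y, rfl⟩
    have h : bmap ℬ t.g y ∈ (W : Set _) := t.hU (Set.mem_univ y)
    rw [← Scheme.Hom.coe_opensRange, hW]
    exact h)
  choose l hl using hfac
  constructor
  · intro a b hab
    refine toG.injective (GFam.ext fun i g hU => ?_)
    have h := congrArg (fun c => (toG c).at i (l ⟨i, g, hU⟩) le_top) hab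
    simp only [toG_gsMap, gMap_at] at h
    exact ((toG a).at_congr (hl ⟨i, g, hU⟩) (top_le_comp rfl (le_preimage φ hW) le_top)).symm.trans
      (h.trans ((toG b).at_congr (hl ⟨i, g, hU⟩) (top_le_comp rfl (le_preimage φ hW) le_top)))
  · intro n
    let n' := toG n
    refine ⟨toG.symm ⟨fun t => RS.mk (n'.at t.i (l t) le_top), fun t t' b e => ?_⟩, toG.injective ?_⟩
    · have e' : b ≫ l t = l t' := hmono _ _ (by rw [Category.assoc, hl, hl, e])
      show D.T b (n'.at t.i (l t) le_top) = n'.at t'.i (l t') le_top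
      exact n'.nat b (l t) le_top (l t') le_top e'
    · rw [toG_gsMap, LinearEquiv.apply_symm_apply]
      refine GFam.ext fun i g hU => ?_
      rw [gMap_at]
      have hU' : ⊤ ≤ bmap ℬ (g ≫ φ) ⁻¹ᵁ W := top_le_comp rfl (le_preimage φ hW) hU
      show n'.at i (l ⟨i, g ≫ φ, hU'⟩) le_top = n'.at i g hU
      have e' : l ⟨i, g ≫ φ, hU'⟩ = g := hmono _ _ (hl ⟨i, g ≫ φ, hU'⟩)
      exact n'.at_congr e' le_top

variable (D)

theorem isLocQCoh_gd : (gd D).IsLocQCoh := by
  intro ξ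
  refine M1.isQCoh_of_loc_affine _ (fun U hU r t => ?_) fun U hU r t ht => ?_
  all_goals
    obtain ⟨η, φ, hη, hi, hr⟩ := exists_piece B.grpd ξ hU
    obtain ⟨η', φ', hη', hi', hr'⟩ := exists_piece B.grpd ξ (hU.basicOpen r)
    have hle : (sch ℬ ξ).basicOpen r ≤ U := (sch ℬ ξ).basicOpen_le r
    obtain ⟨l, hl⟩ := exists_piece_factor B.grpd (ψ := φ') (φ' := φ) (by
      rw [← Scheme.Hom.coe_opensRange, ← Scheme.Hom.coe_opensRange, hr, hr']
      exact hle)
    haveI : IsOpenImmersion (bmap ℬ l) := by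
      haveI : IsOpenImmersion (bmap ℬ l ≫ bmap ℬ φ) := by rw [← bmap_comp, hl]; infer_instance
      exact IsOpenImmersion.of_comp _ (bmap ℬ φ)
    let c : Γ(sch ℬ η, ⊤) := (bmap ℬ φ).appLE U ⊤ (le_preimage φ hr) r
    have hlr : (bmap ℬ l).opensRange = (sch ℬ η).basicOpen c := by
      rw [Scheme.basicOpen_appLE, top_inf_eq]
      refine Opens.ext ?_
      show Set.range (bmap ℬ l) = bmap ℬ φ ⁻¹' ((sch ℬ ξ).basicOpen r : Set _)
      rw [← hr', Scheme.Hom.coe_opensRange, ← hl, bmap_comp]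
      show Set.range (bmap ℬ l) = bmap ℬ φ ⁻¹' Set.range (bmap ℬ φ ∘ bmap ℬ l)
      rw [Set.range_comp, Set.preimage_image_eq _ (bmap ℬ φ).isOpenEmbedding.injective]
    have hloc := isLocalization_piece l c hlr
    have hbc := isBC_gsT (D := D) l
    have hb := gsMap_piece_bijective (D := D) φ hr
    have hb' := gsMap_piece_bijective (D := D) φ' hr'
    have hsq : ∀ m : GSec D ξ U, gsMap φ' (le_preimage φ' hr') (gsRes D ξ hle m) =
        gsT l (gsMap φ (le_preimage φ hr) m) := fun m => by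
      rw [gsRes_eq, gsMap_comp φ' (𝟙 ξ) (Category.comp_id _) (le_id_preimage hle) (le_preimage φ' hr')
        ((le_preimage φ' hr').trans ((bmap ℬ φ').preimage_mono hle))]
      exact (gsMap_comp l φ hl (le_preimage φ hr) le_top _ m).symm
    have hsc : ∀ n : ℕ, (bmap ℬ φ').appLE _ ⊤ (le_preimage φ' hr') (M1.ores hle r ^ n) =
        (bmap ℬ l).appTop (c ^ n) := fun n => by
      rw [map_pow, map_pow]
      congr 1
      have e₁ := congr($((bmap ℬ φ').map_appLE (le_preimage φ' hr') (homOfLE hle).op) r)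
      refine e₁.trans ?_
      rw [← appLE_top (bmap ℬ l) le_top]
      exact (appLE_bmap_comp l φ hl (le_preimage φ hr) le_top _ r).symm
  · obtain ⟨n, m, hm⟩ := hbc.loc_surj hloc (gsMap φ' (le_preimage φ' hr') (show GSec D ξ _ from t))
    obtain ⟨t₀, ht₀⟩ := hb.2 m
    refine ⟨n, t₀, hb'.1 ?_⟩
    show gsMap φ' (le_preimage φ' hr') (gsRes D ξ hle t₀) =
      gsMap φ' (le_preimage φ' hr') ((M1.ores hle r ^ n) • (show GSec D ξ _ from t))
    rw [hsq, ht₀, LinearMap.map_smulₛₗ, hm, ← map_pow]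
    erw [hsc]
  · obtain ⟨k, hk⟩ := hbc.loc_inj hloc (gsMap φ (le_preimage φ hr) (show GSec D ξ _ from t)) (by
      rw [← hsq]
      show gsMap φ' (le_preimage φ' hr') (show GSec D ξ _ from M1.mres (gdObj D ξ) hle t) = 0
      erw [ht]
      exact _root_.map_zero _)
    refine ⟨k, hb.1 ?_⟩
    show gsMap φ (le_preimage φ hr) (r ^ k • (show GSec D ξ U from t)) = gsMap φ (le_preimage φ hr) 0
    rw [LinearMap.map_smulₛₗ, map_pow, _root_.map_zero]
    exact hk

theorem isCartesian_gd : (gd D).IsCartesian := by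
  intro ξ' ξ φ g hg
  subst hg
  refine PullBC11.isIso_of_isBC _ (isLocQCoh_gd D ξ) (isLocQCoh_gd D ξ') fun y => ?_
  obtain ⟨_, ⟨W, hW, rfl⟩, hyW, -⟩ :=
    (sch ℬ ξ).isBasis_affineOpens.exists_subset_of_mem_open (Set.mem_univ (bmap ℬ φ y)) isOpen_univ
  obtain ⟨_, ⟨V, hV, rfl⟩, hyV, hVW⟩ := (sch ℬ ξ').isBasis_affineOpens.exists_subset_of_mem_open
    (show y ∈ ((bmap ℬ φ ⁻¹ᵁ W : (sch ℬ ξ').Opens) : Set _) from hyW) (bmap ℬ φ ⁻¹ᵁ W).isOpen
  have hle : V ≤ bmap ℬ φ ⁻¹ᵁ W := hVW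
  refine ⟨W, hW, V, hV, hle, hyV, ?_⟩
  obtain ⟨η, ψ, hη, hi, hr⟩ := exists_piece B.grpd ξ hW
  obtain ⟨η', ψ', hη', hi', hr'⟩ := exists_piece B.grpd ξ' hV
  obtain ⟨l, hl⟩ := exists_piece_factor B.grpd (ψ := ψ' ≫ φ) (φ' := ψ) (by
    rintro _ ⟨q, rfl⟩
    rw [← Scheme.Hom.coe_opensRange, hr, bmap_comp]
    refine hle ?_
    rw [← hr']
    exact ⟨q, rfl⟩)
  have hW' : ⊤ ≤ bmap ℬ (ψ' ≫ φ) ⁻¹ᵁ W := top_le_comp rfl hle (le_preimage ψ' hr')
  have hc : IsBC (gsMap (D := D) (ψ' ≫ φ) hW') := by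
    refine IsBC.comp ?_ (isBC_of_bijective' (appLE_piece_bijective ψ hr) (gsMap_piece_bijective ψ hr))
      (isBC_gsT l) fun a => gsMap_comp l ψ hl (le_preimage ψ hr) le_top hW' a
    refine RingHom.ext fun a => ?_
    rw [RingHom.comp_apply]
    erw [← appLE_top (bmap ℬ l) le_top]
    exact appLE_bmap_comp l ψ hl (le_preimage ψ hr) le_top hW' a
  have hb := appLE_piece_bijective ψ' hr'
  have h : IsBC (gsMap (D := D) φ hle) := by
    refine IsBC.of_comp_right ?_ (isBC_of_bijective' hb (gsMap_piece_bijective ψ' hr')) hc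
      (RingHom.Flat.of_bijective hb) (fun p => ?_) fun a => gsMap_comp ψ' φ rfl hle (le_preimage ψ' hr') hW' a
    · exact RingHom.ext fun a => appLE_bmap_comp ψ' φ rfl hle (le_preimage ψ' hr') hW' a
    · exact (PrimeSpectrum.comapEquiv (RingEquiv.ofBijective _ hb)).symm.surjective p
  unfold PullBC11.IsBC
  letI := ((bmap ℬ φ).appLE W V hle).hom.toAlgebra
  letI := PullBC11.baseModule (g := bmap ℬ φ) (gdObj D ξ') hle
  haveI : IsScalarTower Γ(sch ℬ ξ, W) Γ(sch ℬ ξ', V) Γ(gdObj D ξ', V) :=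
    IsScalarTower.of_algebraMap_smul fun _ _ => rfl
  have e : PullBC11.sect (gdMap (D := D) φ rfl) hle =
      ({ toFun := fun s => gsMap φ hle (show GSec D ξ W from s)
         map_add' := fun a b => (gsMap φ hle).map_add a b
         map_smul' := fun c a => (gsMap φ hle).map_smulₛₗ c a } :
        Γ(gdObj D ξ, W) →ₗ[Γ(sch ℬ ξ, W)] Γ(gdObj D ξ', V)) := by
    refine LinearMap.ext fun s => ?_
    show gsRes D ξ' hle (gsMap φ (descMap_le φ rfl W) (show GSec D ξ W from s)) = gsMap φ hle _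
    rw [gsRes_eq]
    exact gsMap_comp (𝟙 ξ') φ (Category.id_comp _) _ _ _ _
  show IsBaseChange _ (PullBC11.sect (gdMap (D := D) φ rfl) hle)
  rw [e]
  exact h

/-- The extended quasi-coherent module. -/
noncomputable def gdQ : QCoh ℬ := ⟨gd D, isCartesian_gd D, isLocQCoh_gd D⟩

/-- On the members the extended module has the given values. -/
theorem gd_value : ∃ e : ∀ i, Γ((gdQ D).obj.obj (B.o i), ⊤) ≃ₗ[Γ(sch ℬ (B.o i), ⊤)] D.N i,
    ∀ {i j : B.ι} (b : B.o i ⟶ B.o j) (x : Γ((gdQ D).obj.obj (B.o j), ⊤)),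
      e i ((gdQ D).obj.mapTop b x) = D.T b (e j x) := by
  let el : ∀ i, GSec D (B.o i) ⊤ →ₗ[Γ(sch ℬ (B.o i), ⊤)] D.N i := fun i =>
    { toFun := fun a => gEv (𝟙 (B.o i)) a
      map_add' := fun a b => _root_.map_add _ a b
      map_smul' := fun c a => by
        refine ((gEv (𝟙 (B.o i))).map_smulₛₗ c a).trans (congrArg (· • _) ?_)
        rw [bmap_id]
        rfl }
  refine ⟨fun i => LinearEquiv.ofBijective (el i) (gEv_id_bijective i), fun {i j} b x => ?_⟩
  show gEv (𝟙 (B.o i)) (show GSec D (B.o i) ⊤ from (gd D).mapTop b x) = D.T b (gEv (𝟙 (B.o j)) x)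
  rw [gd_mapTop, gEv_gsT, T_gEv b (𝟙 _) _ rfl]
  exact (toG (show GSec D (B.o j) ⊤ from x)).at_congr (by rw [Category.id_comp, Category.comp_id]) le_top

end Groth.Agent.StQC14
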