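import Groth.Agent.Lib.StQC14.GdBas
import Groth.Agent.Lib.StQC14.Desc2

/-!
# Families over test objects from a covering class
-/

universe t w v u

open CategoryTheory CategoryTheory.Functor CategoryTheory.Limits AlgebraicGeometry Opposite
open scoped TensorProduct

set_option linter.style.haveILetI false
set_option linter.unusedSectionVars false
set_option backward.isDefEq.respectTransparency false
set_option backward.isDefEq.respectTransparency.types false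

namespace Groth.Agent.StQC14

open StMod

section Alg

variable {A B : Type u} [CommRing A] [CommRing B] {σ : A →+* B}
  {M N : Type u} [AddCommGroup M] [Module A M] [AddCommGroup N] [Module B N]

/-- Being a base change is local for finite or infinite flat jointly surjective families on the target. -/
theorem IsBC.of_cover (f : M →ₛₗ[σ] N) {κ : Type*} {C : κ → Type u} [∀ k, CommRing (C k)] {τ : ∀ k, B →+* C k}
    (hflat : ∀ k, (τ k).Flat) (hcov : ∀ p : PrimeSpectrum B, ∃ k q, PrimeSpectrum.comap (τ k) q = p)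
    {P : κ → Type u} [∀ k, AddCommGroup (P k)] [∀ k, Module (C k) (P k)] {g : ∀ k, N →ₛₗ[τ k] P k}
    (hg : ∀ k, IsBC (g k)) {ρ : ∀ k, A →+* C k} (hρ : ∀ k, (τ k).comp σ = ρ k)
    {h : ∀ k, M →ₛₗ[ρ k] P k} (hh : ∀ k, IsBC (h k)) (e : ∀ k x, g k (f x) = h k x) : IsBC f := by
  obtain ⟨L, hL⟩ := (isBC_pullUnit σ M).exists_lift f
  let l : ∀ k, PullT σ M →ₛₗ[τ k] P k := fun k =>
    { toFun := fun x => g k (L x)
      map_add' := fun x y => by rw [_root_.map_add, _root_.map_add]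
      map_smul' := fun b x => by rw [_root_.map_smul, LinearMap.map_smulₛₗ] }
  have hl : ∀ k, IsBC (l k) := fun k => IsBC.of_comp (hρ k) (isBC_pullUnit σ M) (hh k) fun x => by
    show g k (L (pullUnit σ M x)) = h k x
    rw [hL, e]
  have hinj : Function.Injective L := (injective_iff_map_eq_zero L).2 fun x hx =>
    eq_zero_of_family hflat hcov hl x fun k => by
      show g k (L x) = 0
      rw [hx, _root_.map_zero]
  have hsur : Function.Surjective L := fun y => by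
    suffices h0 : Submodule.Quotient.mk (p := LinearMap.range L) y = 0 from
      (Submodule.Quotient.mk_eq_zero _).1 h0
    refine eq_zero_of_family hflat hcov (N := fun k => PullT (τ k) (N ⧸ LinearMap.range L))
      (f := fun k => pullUnit _ _) (fun k => isBC_pullUnit _ _) _ fun k => ?_
    obtain ⟨e₁, he₁⟩ := (hl k).exists_equiv
    obtain ⟨e₂, he₂⟩ := (hg k).exists_equiv
    obtain ⟨w, hw⟩ := e₁.surjective (g k y)
    have key : L.lTensor (RA (τ k)) w = 1 ⊗ₜ y := e₂.injective (by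
      rw [he₂, RA.val_one, one_smul, ← hw]
      clear hw
      induction w using TensorProduct.induction_on with
      | zero => rw [_root_.map_zero, _root_.map_zero, _root_.map_zero]
      | tmul b m =>
        rw [LinearMap.lTensor_tmul, he₂, he₁]
        rfl
      | add a b ha hb => rw [_root_.map_add, _root_.map_add, _root_.map_add, ha, hb])
    have h2 := congrArg ((LinearMap.range L).mkQ.lTensor (RA (τ k))) key
    rw [LinearMap.lTensor_tmul, ← LinearMap.lTensor_comp_apply, LinearMap.range_mkQ_comp, LinearMap.lTensor_zero,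
      LinearMap.zero_apply] at h2
    exact h2.symm
  exact IsBC.comp (RingHom.id_comp σ) (isBC_pullUnit σ M) (isBC_of_bijective L ⟨hinj, hsur⟩) hL

end Alg

variable {S : Scheme.{u}} {ℬ : BasedCategory.{v, w} (Over S)} {B : Bas.{t} ℬ}

theorem comap_appTop_cov {η : ℬ.obj} [IsAffine (sch ℬ η)] (C : BCov B η) (p : PrimeSpectrum Γ(sch ℬ η, ⊤)) :
    ∃ k q, PrimeSpectrum.comap (bmap ℬ (C.κ k)).appTop.hom q = p := by
  obtain ⟨y, rfl⟩ := (sch ℬ η).isoSpec.hom.surjective p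
  obtain ⟨k, s, hs⟩ := C.surj y
  refine ⟨k, (sch ℬ _).isoSpec.hom s, ?_⟩
  rw [← hs]
  exact congr($(Scheme.isoSpec_hom_naturality (bmap ℬ (C.κ k))) s)

theorem flat_appTop_cov {η : ℬ.obj} [IsAffine (sch ℬ η)] (C : BCov B η) (k : Fin C.n) :
    (bmap ℬ (C.κ k)).appTop.hom.Flat := by
  haveI := C.flat k
  exact flat_appTop _

/-- A member covers itself. -/
def BCov.self (i : B.ι) : BCov B (B.o i) where
  n := 1
  i _ := i
  κ _ := 𝟙 (B.o i)
  flat _ := by rw [bmap_id]; infer_instance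
  surj x := ⟨0, x, by rw [bmap_id]; rfl⟩

/-- Covers through a cover of another object. -/
theorem exists_bcov_over {η : ℬ.obj} [IsAffine (sch ℬ η)] (C : BCov B η) {z : ℬ.obj} [IsAffine (sch ℬ z)] (g : z ⟶ η) :
    ∃ C' : BCov B z, ∀ l, ∃ (k : Fin C.n) (b : B.o (C'.i l) ⟶ B.o (C.i k)), C'.κ l ≫ g = b ≫ C.κ k := by
  classical
  choose ζ p₁ p₂ hζ hc sq using fun k => exists_pullback B.grpd g (C.κ k)
  haveI := hζ
  let D := fun k => (exists_bcov (B := B) (ζ k)).some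
  let e := (Fintype.equivFin (Σ k, Fin (D k).n)).symm
  refine ⟨⟨_, fun l => (D (e l).1).i (e l).2, fun l => (D (e l).1).κ (e l).2 ≫ p₁ (e l).1, fun l => ?_, fun x => ?_⟩,
    fun l => ⟨(e l).1, (D (e l).1).κ (e l).2 ≫ p₂ (e l).1, ?_⟩⟩
  · haveI := C.flat (e l).1
    haveI : Flat (bmap ℬ (p₁ (e l).1)) := MorphismProperty.of_isPullback (sq _).flip inferInstance
    haveI := (D (e l).1).flat (e l).2
    rw [bmap_comp]
    infer_instance
  · obtain ⟨k, s, hs⟩ := C.surj (bmap ℬ g x)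
    obtain ⟨z', hz₁, -⟩ := Scheme.exists_preimage_of_isPullback (sq k) x s hs.symm
    obtain ⟨m, s', hs'⟩ := (D k).surj z'
    obtain ⟨l, hl⟩ := e.surjective ⟨k, m⟩
    rw [show x = bmap ℬ ((D k).κ m ≫ p₁ k) s' by rw [bmap_comp, Scheme.Hom.comp_apply, hs', hz₁]]
    refine ⟨l, ?_⟩
    show _ ∈ Set.range (bmap ℬ ((D (e l).1).κ (e l).2 ≫ p₁ (e l).1))
    rw [hl]
    exact ⟨s', rfl⟩
  · show ((D (e l).1).κ (e l).2 ≫ p₁ (e l).1) ≫ g = _
    rw [Category.assoc, Category.assoc, hc]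

/-- Covers subordinate to open sets. -/
theorem exists_bcov_le {z : ℬ.obj} [IsAffine (sch ℬ z)] {κ : Type*} (V : κ → (sch ℬ z).Opens)
    (hV : ∀ x, ∃ k, x ∈ V k) : ∃ C : BCov B z, ∀ l, ∃ k, ⊤ ≤ bmap ℬ (C.κ l) ⁻¹ᵁ V k := by
  classical
  have hW : ∀ x : ↥(sch ℬ z), ∃ W : (sch ℬ z).Opens, IsAffineOpen W ∧ x ∈ W ∧ ∃ k, W ≤ V k := fun x => by
    obtain ⟨k, hk⟩ := hV x
    obtain ⟨W, hW, hx, hle⟩ := exists_isAffineOpen_mem_and_subset (x := x) (U := V k) hk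
    exact ⟨W, hW, hx, k, hle⟩
  choose W hW hxW k hk using hW
  obtain ⟨s, hs⟩ := isCompact_univ.elim_finite_subcover (fun x => (W x : Set (sch ℬ z))) (fun x => (W x).isOpen)
    fun x _ => Set.mem_iUnion.2 ⟨x, hxW x⟩
  choose η φ hη hi hr using fun x : s => exists_piece B.grpd z (hW x.1)
  haveI := hη
  let D := fun x => (exists_bcov (B := B) (η x)).some
  let e := (Fintype.equivFin (Σ x, Fin (D x).n)).symm
  refine ⟨⟨_, fun l => (D (e l).1).i (e l).2, fun l => (D (e l).1).κ (e l).2 ≫ φ (e l).1, fun l => ?_, fun y => ?_⟩,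
    fun l => ⟨k (e l).1.1, ?_⟩⟩
  · haveI := hi (e l).1
    haveI := (D (e l).1).flat (e l).2
    rw [bmap_comp]
    infer_instance
  · obtain ⟨x, hxs, hy⟩ := Set.mem_iUnion₂.1 (hs (Set.mem_univ y))
    have : y ∈ Set.range (bmap ℬ (φ ⟨x, hxs⟩)) := by
      haveI := hi ⟨x, hxs⟩
      rw [← Scheme.Hom.coe_opensRange, hr ⟨x, hxs⟩]
      exact hy
    obtain ⟨y', rfl⟩ := this
    obtain ⟨m, s', hs'⟩ := (D ⟨x, hxs⟩).surj y'
    obtain ⟨l, hl⟩ := e.surjective ⟨⟨x, hxs⟩, m⟩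
    refine ⟨l, ?_⟩
    show _ ∈ Set.range (bmap ℬ ((D (e l).1).κ (e l).2 ≫ φ (e l).1))
    rw [hl]
    exact ⟨s', by rw [bmap_comp, Scheme.Hom.comp_apply, hs']⟩
  · haveI := hi (e l).1
    exact top_le_comp rfl ((le_preimage (φ (e l).1) (hr _)).trans ((bmap ℬ _).preimage_mono (hk _))) le_top

/-- A member mapping into an open of an object. -/
structure GTst (B : Bas.{t} ℬ) (η : ℬ.obj) (U : (sch ℬ η).Opens) where
  i : B.ι
  g : B.o i ⟶ η
  hU : ⊤ ≤ bmap ℬ g ⁻¹ᵁ U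

/-- Functions on the open acting on a test. -/
noncomputable abbrev GTst.sc {η : ℬ.obj} {U : (sch ℬ η).Opens} (t : GTst B η U) :
    Γ(sch ℬ η, U) →+* Γ(sch ℬ (B.o t.i), ⊤) :=
  ((bmap ℬ t.g).appLE U ⊤ t.hU).hom

variable (D : BasMod B)

/-- The compatible families over tests. -/
noncomputable def gfam (η : ℬ.obj) (U : (sch ℬ η).Opens) :
    Submodule Γ(sch ℬ η, U) (∀ t : GTst B η U, RS t.sc (D.N t.i)) where
  carrier := {x | ∀ (t t' : GTst B η U) (b : B.o t'.i ⟶ B.o t.i), b ≫ t.g = t'.g →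
    D.T b (RS.val (x t)) = RS.val (x t')}
  zero_mem' := fun t t' b _ => _root_.map_zero (D.T b)
  add_mem' := fun {x y} hx hy t t' b e =>
    (_root_.map_add (D.T b) _ _).trans (congr_arg₂ (· + ·) (hx t t' b e) (hy t t' b e))
  smul_mem' := fun c x hx t t' b e => by
    refine ((D.T b).map_smulₛₗ (t.sc c) (RS.val (x t))).trans ?_
    refine congr_arg₂ (· • ·) ?_ (hx t t' b e)
    rw [← appLE_top (bmap ℬ b) le_top]
    exact appLE_bmap_comp b t.g e t.hU le_top t'.hU c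

/-- The compatible families over tests. -/
abbrev GFam (η : ℬ.obj) (U : (sch ℬ η).Opens) : Type (max t v u) := ↥(gfam D η U)

variable {D} {η η' η'' : ℬ.obj} {U : (sch ℬ η).Opens} {U' : (sch ℬ η').Opens} {U'' : (sch ℬ η'').Opens}

/-- The value of a family at a test. -/
noncomputable def GFam.at (x : GFam D η U) (i : B.ι) (g : B.o i ⟶ η) (hU : ⊤ ≤ bmap ℬ g ⁻¹ᵁ U) : D.N i :=
  RS.val (x.1 ⟨i, g, hU⟩)

theorem GFam.ext {x y : GFam D η U} (h : ∀ i g hU, x.at i g hU = y.at i g hU) : x = y :=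
  Subtype.ext (funext fun t => h t.i t.g t.hU)

theorem GFam.nat (x : GFam D η U) {i j : B.ι} (b : B.o j ⟶ B.o i) (g : B.o i ⟶ η) (hU : ⊤ ≤ bmap ℬ g ⁻¹ᵁ U)
    (g' : B.o j ⟶ η) (hU' : ⊤ ≤ bmap ℬ g' ⁻¹ᵁ U) (e : b ≫ g = g') : D.T b (x.at i g hU) = x.at j g' hU' :=
  x.2 ⟨i, g, hU⟩ ⟨j, g', hU'⟩ b e

theorem GFam.at_congr (x : GFam D η U) {i : B.ι} {g g' : B.o i ⟶ η} (e : g = g') (hU : ⊤ ≤ bmap ℬ g ⁻¹ᵁ U) :
    x.at i g hU = x.at i g' (e ▸ hU) := by
  subst e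
  rfl

theorem GFam.at_add (x y : GFam D η U) (i : B.ι) (g : B.o i ⟶ η) (hU : ⊤ ≤ bmap ℬ g ⁻¹ᵁ U) :
    (x + y).at i g hU = x.at i g hU + y.at i g hU := rfl

theorem GFam.at_smul (c : Γ(sch ℬ η, U)) (x : GFam D η U) (i : B.ι) (g : B.o i ⟶ η)
    (hU : ⊤ ≤ bmap ℬ g ⁻¹ᵁ U) : (c • x).at i g hU = (bmap ℬ g).appLE U ⊤ hU c • x.at i g hU := rfl

/-- Restriction of families. -/
noncomputable def gMap (φ : η' ⟶ η) (h : U' ≤ bmap ℬ φ ⁻¹ᵁ U) :
    GFam D η U →ₛₗ[((bmap ℬ φ).appLE U U' h).hom] GFam D η' U' where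
  toFun x := ⟨fun t => RS.mk (x.at t.i (t.g ≫ φ) (top_le_comp rfl h t.hU)), fun t t' b e =>
    x.nat b _ (top_le_comp rfl h t.hU) _ (top_le_comp rfl h t'.hU) (by rw [← Category.assoc, e])⟩
  map_add' x y := GFam.ext fun i g hU => x.at_add y i (g ≫ φ) (top_le_comp rfl h hU)
  map_smul' c x := GFam.ext fun i g hU => by
    refine (x.at_smul c i (g ≫ φ) (top_le_comp rfl h hU)).trans ?_
    exact congrArg (· • _) (appLE_bmap_comp g φ rfl h hU _ c).symm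

theorem gMap_at (φ : η' ⟶ η) (h : U' ≤ bmap ℬ φ ⁻¹ᵁ U) (x : GFam D η U) (i : B.ι) (g : B.o i ⟶ η')
    (hU : ⊤ ≤ bmap ℬ g ⁻¹ᵁ U') : (gMap φ h x).at i g hU = x.at i (g ≫ φ) (top_le_comp rfl h hU) := rfl

theorem gMap_comp (ψ : η'' ⟶ η') (φ : η' ⟶ η) {j : η'' ⟶ η} (e : ψ ≫ φ = j)
    (h : U' ≤ bmap ℬ φ ⁻¹ᵁ U) (h' : U'' ≤ bmap ℬ ψ ⁻¹ᵁ U') (hj : U'' ≤ bmap ℬ j ⁻¹ᵁ U) (x : GFam D η U) :
    gMap ψ h' (gMap φ h x) = gMap j hj x :=
  GFam.ext fun i g hU => by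
    rw [gMap_at, gMap_at, gMap_at]
    exact x.at_congr (by rw [Category.assoc, e]) _

theorem gMap_id (h : U ≤ bmap ℬ (𝟙 η) ⁻¹ᵁ U) (x : GFam D η U) : gMap (𝟙 η) h x = x :=
  GFam.ext fun i g hU => by
    rw [gMap_at]
    exact x.at_congr (Category.comp_id _) _

variable (D) in
/-- Locally defined elements at a member glue. -/
theorem exists_of_local {i : B.ι} (R : ∀ (s : B.ι), (B.o s ⟶ B.o i) → D.N s → Prop)
    (hcov : ∃ C : BCov B (B.o i), ∀ l, ∃ y, R (C.i l) (C.κ l) y)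
    (hfun : ∀ s c y y', R s c y → R s c y' → y = y')
    (hst : ∀ s s' (a : B.o s' ⟶ B.o s) c y, R s c y → R s' (a ≫ c) (D.T a y)) :
    ∃ v : D.N i, ∀ s c y, R s c y → D.T c v = y := by
  obtain ⟨C, hC⟩ := hcov
  choose x hx using hC
  obtain ⟨v, hv⟩ := D.exists_of_compat C (f := fun k => D.T (C.κ k)) (fun k => D.isBC _)
    (fun j k s a b e m => by rw [← D.T_comp, ← D.T_comp, D.T_congr e]) x
    fun j k s a b e => hfun _ _ _ _ (hst _ _ a _ _ (hx j)) (e ▸ hst _ _ b _ _ (hx k))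
  refine ⟨v, fun s c y hy => D.eq_of_lifts C c fun k w a b e => ?_⟩
  refine Eq.trans ?_ (hfun _ _ _ _ (e ▸ hst _ _ b _ _ (hx k)) (hst _ _ a _ _ hy))
  rw [← D.T_comp, D.T_congr e, D.T_comp, hv]

theorem GFam.ext_cover {η : ℬ.obj} [IsAffine (sch ℬ η)] (C : BCov B η) {x y : GFam D η ⊤}
    (h : ∀ k, x.at (C.i k) (C.κ k) le_top = y.at (C.i k) (C.κ k) le_top) : x = y := by
  refine GFam.ext fun i g hU => D.eq_of_lifts C g fun k w a b e => ?_
  rw [x.nat a g hU _ le_top e, y.nat a g hU _ le_top e, ← x.nat b (C.κ k) le_top _ le_top rfl, h,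
    y.nat b (C.κ k) le_top _ le_top rfl]

variable (D) in
/-- Families on an affine object from compatible values on a cover. -/
theorem exists_gfam {η : ℬ.obj} [IsAffine (sch ℬ η)] (C : BCov B η) (x : ∀ k, D.N (C.i k))
    (hx : ∀ (j k : Fin C.n) (s : B.ι) (a : B.o s ⟶ B.o (C.i j)) (b : B.o s ⟶ B.o (C.i k)),
      a ≫ C.κ j = b ≫ C.κ k → D.T a (x j) = D.T b (x k)) :
    ∃ X : GFam D η ⊤, ∀ k, X.at (C.i k) (C.κ k) le_top = x k := by
  let R : ∀ (i : B.ι) (g : B.o i ⟶ η) (s : B.ι), (B.o s ⟶ B.o i) → D.N s → Prop := fun i g s c y =>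
    ∃ (k : Fin C.n) (b : B.o s ⟶ B.o (C.i k)), c ≫ g = b ≫ C.κ k ∧ y = D.T b (x k)
  have hfun : ∀ i g s c y y', R i g s c y → R i g s c y' → y = y' := by
    rintro i g s c y y' ⟨k, b, e, rfl⟩ ⟨k', b', e', rfl⟩
    exact hx k k' s b b' (e.symm.trans e')
  have hst : ∀ i g s s' (a : B.o s' ⟶ B.o s) c y, R i g s c y → R i g s' (a ≫ c) (D.T a y) := by
    rintro i g s s' a c y ⟨k, b, e, rfl⟩
    exact ⟨k, a ≫ b, by rw [Category.assoc, e, Category.assoc], (D.T_comp a b (x k)).symm⟩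
  have hcov : ∀ i (g : B.o i ⟶ η), ∃ C' : BCov B (B.o i), ∀ l, ∃ y, R i g (C'.i l) (C'.κ l) y := fun i g => by
    obtain ⟨C', hC'⟩ := exists_bcov_over C g
    exact ⟨C', fun l => let ⟨k, b, e⟩ := hC' l; ⟨_, k, b, e, rfl⟩⟩
  choose v hv using fun (t : GTst B η ⊤) =>
    exists_of_local D (R t.i t.g) (hcov _ _) (hfun _ _) (hst _ _)
  refine ⟨⟨fun t => RS.mk (v t), fun t t' b e => ?_⟩, fun k => ?_⟩
  · obtain ⟨C', hC'⟩ := hcov t'.i t'.g
    show D.T b (v t) = v t'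
    refine D.eq_of_lifts C' (𝟙 _) fun l w a c ec => ?_
    rw [Category.comp_id] at ec
    obtain ⟨y, hy⟩ := hC' l
    have h' := hst _ _ _ _ c _ _ hy
    rw [← ec] at h'
    have h'' : R t.i t.g w (a ≫ b) (D.T c y) := by
      obtain ⟨k, d, ed, rfl⟩ := hy
      exact ⟨k, c ≫ d, by rw [Category.assoc, e, ec, Category.assoc, ed, Category.assoc],
        (D.T_comp c d (x k)).symm⟩
    rw [hv t' _ _ _ h', ← D.T_comp, hv t w (a ≫ b) _ h'']
  · show v ⟨C.i k, C.κ k, le_top⟩ = x k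
    refine (D.T_id _ _).symm.trans (hv ⟨C.i k, C.κ k, le_top⟩ _ (𝟙 _) _ ⟨k, 𝟙 _, rfl, (D.T_id _ _).symm⟩)

/-- Families are glued from an open cover. -/
theorem exists_glue_gfam {κ : Type*} (V : κ → (sch ℬ η).Opens) (a : ∀ k, GFam D η (V k))
    (hc : ∀ j k (i : B.ι) (g : B.o i ⟶ η) (hj : ⊤ ≤ bmap ℬ g ⁻¹ᵁ V j) (hk : ⊤ ≤ bmap ℬ g ⁻¹ᵁ V k),
      (a j).at i g hj = (a k).at i g hk) :
    ∃ X : GFam D η (iSup V), ∀ k i g (hk : ⊤ ≤ bmap ℬ g ⁻¹ᵁ V k) h, X.at i g h = (a k).at i g hk := by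
  let R : ∀ (i : B.ι) (g : B.o i ⟶ η) (s : B.ι), (B.o s ⟶ B.o i) → D.N s → Prop := fun i g s c y =>
    ∃ (k : κ) (h : ⊤ ≤ bmap ℬ (c ≫ g) ⁻¹ᵁ V k), y = (a k).at s (c ≫ g) h
  have hfun : ∀ i g s c y y', R i g s c y → R i g s c y' → y = y' := by
    rintro i g s c y y' ⟨k, h, rfl⟩ ⟨k', h', rfl⟩
    exact hc k k' _ _ h h'
  have hst : ∀ i g s s' (d : B.o s' ⟶ B.o s) c y, R i g s c y → R i g s' (d ≫ c) (D.T d y) := by
    rintro i g s s' d c y ⟨k, h, rfl⟩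
    exact ⟨k, top_le_comp (Category.assoc d c g).symm h le_top,
      (a k).nat d _ h _ _ (Category.assoc d c g).symm⟩
  have hcov : ∀ (t : GTst B η (iSup V)),
      ∃ C' : BCov B (B.o t.i), ∀ l, ∃ y, R t.i t.g (C'.i l) (C'.κ l) y := fun t => by
    obtain ⟨C', hC'⟩ := exists_bcov_le (B := B) (fun k => bmap ℬ t.g ⁻¹ᵁ V k) fun x => by
      have hx := t.hU (Set.mem_univ x)
      obtain ⟨k, hk⟩ := TopologicalSpace.Opens.mem_iSup.1 (show bmap ℬ t.g x ∈ iSup V from hx)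
      exact ⟨k, hk⟩
    exact ⟨C', fun l => let ⟨k, h⟩ := hC' l; ⟨_, k, top_le_comp rfl le_rfl h, rfl⟩⟩
  choose v hv using fun t => exists_of_local D (R t.i t.g) (hcov t) (hfun _ _) (hst _ _)
  refine ⟨⟨fun t => RS.mk (v t), fun t t' b e => ?_⟩, fun k i g hk h => ?_⟩
  · obtain ⟨C', hC'⟩ := hcov t'
    show D.T b (v t) = v t'
    refine D.eq_of_lifts C' (𝟙 _) fun l w d c ec => ?_
    rw [Category.comp_id] at ec
    obtain ⟨y, hy⟩ := hC' l
    have h' := hst _ _ _ _ c _ _ hy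
    rw [← ec] at h'
    have h'' : R t.i t.g w (d ≫ b) (D.T c y) := by
      obtain ⟨k, hk, rfl⟩ := hy
      have e2 : (d ≫ b) ≫ t.g = c ≫ C'.κ l ≫ t'.g := by rw [Category.assoc, e, ec, Category.assoc]
      exact ⟨k, top_le_comp e2.symm hk le_top, (a k).nat c _ hk _ _ e2.symm⟩
    rw [hv t' _ _ _ h', ← D.T_comp, hv t w (d ≫ b) _ h'']
  · show v ⟨i, g, h⟩ = (a k).at i g hk
    exact (D.T_id _ _).symm.trans (hv ⟨i, g, h⟩ _ (𝟙 _) _
      ⟨k, (Category.id_comp g).symm ▸ hk, (a k).at_congr (Category.id_comp g).symm _⟩)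

end Groth.Agent.StQC14
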