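import Groth.Agent.Lib.StQC14.GenPush
import Groth.Agent.Lib.ModM1.Coh

/-!
# Generating families along functors
-/

universe t' t w' v' w v u

open CategoryTheory CategoryTheory.Functor CategoryTheory.Limits AlgebraicGeometry Opposite

set_option linter.style.haveILetI false
set_option linter.unusedSectionVars false
set_option backward.isDefEq.respectTransparency false
set_option backward.isDefEq.respectTransparency.types false

namespace Groth.Agent.StQC14

open StMod

section Cast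

variable {X X' T T' : Scheme.{u}}

/-- Sections of a transported module. -/
noncomputable def castT (hX : X = T) (M : X.Modules) :
    Γ(castMod hX M, ⊤) →ₛₗ[(eqToHom hX).appTop.hom] Γ(M, ⊤) := by
  subst hX
  exact { toFun := fun x => x, map_add' := fun _ _ => rfl, map_smul' := fun c x => by simp }

theorem castT_bijective (hX : X = T) (M : X.Modules) : Function.Bijective (castT hX M) := by
  subst hX
  exact Function.bijective_id

theorem castT_castMap (hX : X = T) (hX' : X' = T') {g₁ : X' ⟶ X} {g : T' ⟶ T}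
    (hg : g₁ ≫ eqToHom hX = eqToHom hX' ≫ g) {M : X.Modules} {N : X'.Modules}
    (m : M ⟶ (Scheme.Modules.pushforward g₁).obj N) (x : Γ(castMod hX M, ⊤)) :
    castT hX' N ((castMap hX hX' hg m).app ⊤ x) = m.app ⊤ (castT hX M x) := by
  subst hX hX'
  obtain rfl : g₁ = g := by simpa using hg
  rw [castMap_rfl_self]
  rfl

theorem castT_castHom (hX : X = T) {M N : X.Modules} (a : M ⟶ N) (x : Γ(castMod hX M, ⊤)) :
    castT hX N ((castHom hX a).app ⊤ x) = a.app ⊤ (castT hX M x) := by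
  subst hX
  rfl

/-- A linear map between transported modules, transported back. -/
theorem exists_castLin (hX : X = T) {M N : X.Modules}
    (l : Γ(castMod hX M, ⊤) →ₗ[Γ(T, ⊤)] Γ(castMod hX N, ⊤)) :
    ∃ l₀ : Γ(M, ⊤) →ₗ[Γ(X, ⊤)] Γ(N, ⊤), ∀ x, castT hX N (l x) = l₀ (castT hX M x) := by
  subst hX
  exact ⟨l, fun x => rfl⟩

end Cast

variable {S : Scheme.{u}} {𝒳 : BasedCategory.{v, w} (Over S)} {𝒴 : BasedCategory.{v', w'} (Over S)}

theorem castT_mapTop (h : 𝒳 ⥤ᵇ 𝒴) (F : Mod 𝒴) {x' x : 𝒳.obj} (k : x' ⟶ x)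
    (m : Γ((Mod.comap h F).obj x, ⊤)) :
    castT (sch_obj_eq h x') (F.obj (h.obj x')) ((Mod.comap h F).mapTop k m) =
      F.mapTop (h.map k) (castT (sch_obj_eq h x) (F.obj (h.obj x)) m) :=
  castT_castMap (sch_obj_eq h x) (sch_obj_eq h x') (bmap_map_comm h k rfl) _ m

/-- Isomorphic families generate together. -/
theorem isGenFam_of_iso {ι : Type t} {E E' : ι → QCoh 𝒳} (e : ∀ i, (E i).obj ≅ (E' i).obj) (hE : IsGenFam E) :
    IsGenFam E' := by
  refine (isGenFam_iff _).2 fun M N u hu => (isGenFam_iff _).1 hE u fun i φ => ?_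
  have h := hu i ((e i).inv ≫ φ)
  simpa using congrArg ((e i).hom ≫ ·) h

/-- Generation passes along a full essentially surjective functor. -/
theorem isGenFam_of_equiv (Φ : 𝒳 ⥤ᵇ 𝒴) [Φ.toFunctor.Full] [Φ.toFunctor.EssSurj] (h₁ : FibCat.IsFibGrpd 𝒳.p)
    (h₂ : FibCat.IsFibGrpd 𝒴.p) {ι : Type t} (E : ι → QCoh 𝒴)
    (hE : IsGenFam (fun i => (comapQ Φ).obj (E i))) : IsGenFam E := by
  refine (isGenFam_iff _).2 fun M N u hu => ?_
  have hu' : (comapQ Φ).map u = 0 := by
    refine (isGenFam_iff _).1 hE _ fun i ψ => ?_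
    have hL : ∀ (a : 𝒳.obj), IsAffine (sch 𝒳 a) → ∃ l : Lin (E i).obj M.obj (Φ.obj a),
        ∀ x, castT (sch_obj_eq Φ a) _ ((ψ.app a).app ⊤ x) = l (castT (sch_obj_eq Φ a) _ x) := fun a _ =>
      exists_castLin (sch_obj_eq Φ a) (appL ψ a)
    choose L hL using hL
    have hnat : ∀ {a' a : 𝒳.obj} (ha' : IsAffine (sch 𝒳 a')) (ha : IsAffine (sch 𝒳 a))
        [IsAffine (sch 𝒴 (Φ.obj a'))] [IsAffine (sch 𝒴 (Φ.obj a))] (k : a' ⟶ a),
        push (E i).property (Φ.map k) (L a ha) = L a' ha' := by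
      intro a' a ha' ha _ _ k
      refine (eq_push (E i).property _ _ _ fun z => ?_).symm
      obtain ⟨y, rfl⟩ := (castT_bijective (sch_obj_eq Φ a) ((E i).obj.obj (Φ.obj a))).2 z
      exact ((congrArg (L a' ha') (castT_mapTop Φ (E i).obj k y)).symm.trans (hL a' ha' _).symm).trans
        ((congrArg (castT (sch_obj_eq Φ a') _) (Mod.mapTop_app ψ k y).symm).trans
          ((castT_mapTop Φ M.obj k _).trans (congrArg (M.obj.mapTop (Φ.map k)) (hL a ha y))))
    have hex : ∀ b : 𝒴.obj, IsAffine (sch 𝒴 b) → ∃ l : Lin (E i).obj M.obj b,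
        ∀ (a : 𝒳.obj) (ha : IsAffine (sch 𝒳 a)) [IsAffine (sch 𝒴 (Φ.obj a))] [IsAffine (sch 𝒴 b)] (e : b ⟶ Φ.obj a),
          push (E i).property e (L a ha) = l := by
      intro b hb
      let e₀ := Φ.toFunctor.objObjPreimageIso b
      haveI := bmap_isAffine_of_iso e₀
      haveI ha₀ : IsAffine (sch 𝒳 (Φ.toFunctor.objPreimage b)) := isAffine_of_map Φ _
      refine ⟨push (E i).property e₀.inv (L _ ha₀), fun a ha _ _ e => ?_⟩
      obtain ⟨k, hk⟩ := Φ.toFunctor.map_surjective (e₀.hom ≫ e)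
      rw [← hnat ha₀ ha k, push_comp, hk, Iso.inv_hom_id_assoc]
    choose l hl using hex
    obtain ⟨φ, hφ⟩ := exists_hom_of_affine h₂ (E i).property M.property l fun {b' b} hb' hb k z => by
      rw [← push_spec (E i).property k (l b hb) z]
      refine LinearMap.congr_fun ?_ _
      let e₀ := Φ.toFunctor.objObjPreimageIso b
      haveI := bmap_isAffine_of_iso e₀
      haveI ha₀ : IsAffine (sch 𝒳 (Φ.toFunctor.objPreimage b)) := isAffine_of_map Φ _
      rw [← hl b hb _ ha₀ e₀.inv, ← hl b' hb' _ ha₀ (k ≫ e₀.inv), push_comp]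
    refine hom_ext_affine h₁ ((comapQ Φ).obj (E i)).property ((comapQ Φ).obj N).property fun a ha x => ?_
    rw [Mod.zero_app]
    haveI := isAffine_map Φ a
    refine (castT_bijective (sch_obj_eq Φ a) (N.obj.obj (Φ.obj a))).1 (Eq.trans ?_ (_root_.map_zero _).symm)
    show castT (sch_obj_eq Φ a) _ ((castHom (sch_obj_eq Φ a) (u.hom.app (Φ.obj a))).app ⊤ ((ψ.app a).app ⊤ x)) = 0
    rw [castT_castHom]
    refine (congrArg ((u.hom.app (Φ.obj a)).app ⊤) (hL a ha x)).trans ?_
    rw [show L a ha = l _ inferInstance from (push_id (E i).property _).symm.trans (hl _ inferInstance a ha (𝟙 _)), ← hφ]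
    exact congr((($(hu i φ)).app (Φ.obj a)).app ⊤ (castT (sch_obj_eq Φ a) _ x))
  refine InducedCategory.hom_ext (hom_ext_affine h₂ M.property N.property fun b hb x => ?_)
  show (u.hom.app b).app ⊤ x = ((0 : M.obj ⟶ N.obj).app b).app ⊤ x
  rw [Mod.zero_app]
  show (u.hom.app b).app ⊤ x = 0
  let e₀ := Φ.toFunctor.objObjPreimageIso b
  haveI := bmap_isAffine_of_iso e₀
  haveI ha₀ : IsAffine (sch 𝒳 (Φ.toFunctor.objPreimage b)) := isAffine_of_map Φ _
  obtain ⟨y, hy⟩ := (castT_bijective (sch_obj_eq Φ (Φ.toFunctor.objPreimage b))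
    (M.obj.obj (Φ.obj (Φ.toFunctor.objPreimage b)))).2 (M.obj.mapTop e₀.hom x)
  have h0 : (u.hom.app (Φ.obj (Φ.toFunctor.objPreimage b))).app ⊤ (M.obj.mapTop e₀.hom x) = 0 := by
    rw [← hy, ← castT_castHom, show castHom (sch_obj_eq Φ (Φ.toFunctor.objPreimage b))
      (u.hom.app (Φ.obj (Φ.toFunctor.objPreimage b))) = 0 from congr((($hu').hom).app _)]
    exact _root_.map_zero _
  rw [← Mod.mapTop_app] at h0
  have h1 := congrArg (N.obj.mapTop e₀.inv) h0
  rwa [← Mod.mapTop_comp, Iso.inv_hom_id, Mod.mapTop_id, Mod.mapTop_zero] at h1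

/-- The structure sheaf on the fibres and a generating family on the target give a generating family. -/
theorem isGenFam_comapQ_of_push (h : 𝒳 ⥤ᵇ 𝒴) (D : HData h) (P : FPres 𝒴)
    (hgenO : IsRelGenFam h (fun _ : PUnit.{u + 1} => OQ 𝒳)) {κ : Type t'} (G : κ → QCoh 𝒴) (hG : IsGenFam G) :
    IsGenFam (fun j => (comapQ h).obj (G j)) := by
  refine (isGenFam_iff _).2 fun M N u hu => ?_
  refine eq_zero_of_pairings u (fun _ : PUnit.{u + 1} => OQ 𝒳) (fun _ ξ => ?_) hgenO G hG
    (fun i j B x _ f z => ?_) D P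
  · exact M1.isFP_of_finitePresentation_sections (StMod.isQCoh_structureModule _)
      fun U _ => inferInstanceAs (Module.FinitePresentation Γ(sch 𝒳 ξ, U) Γ(sch 𝒳 ξ, U))
  · let one : ∀ x : 𝒳.obj, Γ((OQ 𝒳).obj.obj x, ⊤) := fun x => M1.one ⊤
    have hone : ∀ {x' x : 𝒳.obj} (k : x' ⟶ x), (OQ 𝒳).obj.mapTop k (one x) = one x' := fun {x' x} k =>
      map_one ((bmap 𝒳 k).app ⊤).hom
    have hσ : ∀ (x : 𝒳.obj) (c : Γ(sch 𝒳 x, ⊤)),
        (st h (𝟙 (h.obj x))).appTop ((eqToHom (sch_obj_eq h x)).appTop c) = c := fun x c => by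
      refine (appTop_comp_apply (k := 𝟙 (sch 𝒳 x)) ?_ c).trans (by simp)
      show (eqToHom (h.w_obj x).symm ≫ 𝒴.p.map (𝟙 (h.obj x))).left ≫ _ = _
      simp
      rfl
    let lin : ∀ x : 𝒳.obj, IsAffine (sch 𝒳 x) → Lin (Mod.comap h (G j).obj) M.obj x := fun x _ =>
      { toFun := fun m => B.β x (castT (sch_obj_eq h x) _ m) (one x)
        map_add' := fun a b => by rw [_root_.map_add, B.add, LinearMap.add_apply]
        map_smul' := fun c a => by rw [LinearMap.map_smulₛₗ, B.smul, LinearMap.smul_apply, hσ, RingHom.id_apply] }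
    obtain ⟨φ, hφ⟩ := exists_hom_of_affine D.grpdX ((comapQ h).obj (G j)).property M.property lin
      fun {x' x} hx' hx k m => by
        show M.obj.mapTop k (B.β x (castT (sch_obj_eq h x) _ m) (one x)) =
          B.β x' (castT (sch_obj_eq h x') _ ((Mod.comap h (G j).obj).mapTop k m)) (one x')
        rw [castT_mapTop, ← B.nat k, ← hone k]
        exact (push_spec _ k _ _).symm
    obtain ⟨m, rfl⟩ := (castT_bijective (sch_obj_eq h x) ((G j).obj.obj (h.obj x))).2 f
    have h0 : (u.hom.app x).app ⊤ (B.β x (castT (sch_obj_eq h x) _ m) (one x)) = 0 := by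
      rw [show B.β x (castT (sch_obj_eq h x) _ m) (one x) = (φ.app x).app ⊤ m from (hφ x inferInstance m).symm]
      exact congr((($(hu j φ)).app x).app ⊤ m)
    have hz : z = (show Γ(sch 𝒳 x, ⊤) from z) • one x := (mul_one (show Γ(sch 𝒳 x, ⊤) from z)).symm
    rw [hz, _root_.map_smul, Scheme.Modules.Hom.app_smul, h0, smul_zero]

/-- A family generating on the fibres and the structure sheaf generating on the target. -/
theorem isGenFam_of_push (h : 𝒳 ⥤ᵇ 𝒴) (D : HData h) (P : FPres 𝒴)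
    {ι : Type t} (E : ι → QCoh 𝒳) (hE : ∀ i, (E i).obj.IsFinPres) (hgenE : IsRelGenFam h E)
    (hG : IsGenFam (fun _ : PUnit.{u + 1} => OQ 𝒴)) : IsGenFam E := by
  refine (isGenFam_iff _).2 fun M N u hu => ?_
  refine eq_zero_of_pairings u E hE hgenE (fun _ : PUnit.{u + 1} => OQ 𝒴) hG (fun i j B x _ f z => ?_) D P
  let one : ∀ x : 𝒳.obj, Γ((O 𝒴).obj (h.obj x), ⊤) := fun x => M1.one ⊤
  have hone : ∀ {x' x : 𝒳.obj} (k : x' ⟶ x), (O 𝒴).mapTop (h.map k) (one x) = one x' := fun {x' x} k =>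
    map_one ((bmap 𝒴 (h.map k)).app ⊤).hom
  obtain ⟨φ, hφ⟩ := exists_hom_of_affine D.grpdX (E i).property M.property
    (fun x _ => B.β x (one x)) fun {x' x} hx' hx k m => by
      show M.obj.mapTop k (B.β x (one x) m) = B.β x' (one x') ((E i).obj.mapTop k m)
      have e : push (E i).property k (B.β x (one x)) = B.β x' (one x') :=
        (B.nat k (one x)).trans (congrArg (B.β x') (hone k))
      rw [← e, push_spec]
  have h0 : (u.hom.app x).app ⊤ (B.β x (one x) z) = 0 := by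
    rw [show B.β x (one x) z = (φ.app x).app ⊤ z from (hφ x inferInstance z).symm]
    exact congr((($(hu i φ)).app x).app ⊤ z)
  have hf : f = (show Γ(sch 𝒴 (h.obj x), ⊤) from f) • one x := (mul_one (show Γ(sch 𝒴 (h.obj x), ⊤) from f)).symm
  rw [hf, B.smul, LinearMap.smul_apply, Scheme.Modules.Hom.app_smul, h0, smul_zero]

end Groth.Agent.StQC14
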