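import Groth.Agent.Lib.StQC14.LocFreeDesc
import Groth.Agent.Lib.AlgSpace.Base
import Groth.Prelude.Def_TwSh
import Groth.Prelude.Def_StMod3

/-!
# Finite type, finite presentation and local freeness along fppf gerbes
-/

universe u

open CategoryTheory CategoryTheory.Limits AlgebraicGeometry Opposite TopologicalSpace

set_option linter.style.haveILetI false
set_option linter.unusedSectionVars false
set_option backward.isDefEq.respectTransparency false
set_option backward.isDefEq.respectTransparency.types false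

namespace Groth.Agent.StQC14

/-- A property of modules on schemes that is stable under isomorphisms and pullbacks and is fppf local. -/
structure FppfLocalModProp (Q : ∀ X : Scheme.{u}, X.Modules → Prop) : Prop where
  of_iso : ∀ {X : Scheme.{u}} {M N : X.Modules}, (M ≅ N) → Q X M → Q X N
  pull : ∀ {X Y : Scheme.{u}} (g : Y ⟶ X) {M : X.Modules}, Q X M → Q Y ((Scheme.Modules.pullback g).obj M)
  desc : ∀ {X Y : Scheme.{u}} (g : Y ⟶ X) [Flat g] [Surjective g] [QuasiCompact g] {M : X.Modules},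
    Coh.IsQCoh M → Q Y ((Scheme.Modules.pullback g).obj M) → Q X M
  of_opens : ∀ {X : Scheme.{u}} {M : X.Modules},
    (∀ x : X, ∃ D : X.Opens, x ∈ D ∧ Q (D : Scheme.{u}) (M.restrict D.ι)) → Q X M

theorem fppfLocalModProp_isFT : FppfLocalModProp @CohB1.IsFT.{u} where
  of_iso e h := M1.isFT_of_isIso e h
  pull g _ h := M1.isFT_pullback g h
  desc g _ _ _ _ hM h := M1.isFT_of_pullback_fpqc g hM h
  of_opens h := by
    choose D hD hQ using h
    exact M1.isFT_of_openImmersion_cover (fun x => (D x).ι)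
      (fun x => ⟨x, by rw [Scheme.Opens.range_ι]; exact hD x⟩) hQ

theorem fppfLocalModProp_isFP : FppfLocalModProp @CohB1.IsFP.{u} where
  of_iso e h := M1.isFP_of_isIso e h
  pull g _ h := M1.isFP_pullback g h
  desc g _ _ _ _ hM h := M1.isFP_of_pullback_fpqc g hM h
  of_opens h := by
    choose D hD hQ using h
    exact M1.isFP_of_openImmersion_cover (fun x => (D x).ι)
      (fun x => ⟨x, by rw [Scheme.Opens.range_ι]; exact hD x⟩) hQ

theorem fppfLocalModProp_isFinLocFree : FppfLocalModProp @FlatMod.IsFinLocFree.{u} where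
  of_iso e h := M2.isFinLocFree_of_iso e h
  pull g _ h := M2.isFinLocFree_pullback g h
  desc g _ _ _ _ hM h := M1.isFinLocFree_of_pullback_fpqc g hM h
  of_opens h := isFinLocFree_of_opens h

variable {Q : ∀ X : Scheme.{u}, X.Modules → Prop}

theorem FppfLocalModProp.of_cover (hQ : FppfLocalModProp Q) {X : Scheme.{u}} {M : X.Modules}
    (hM : Coh.IsQCoh M)
    (h : ∀ x : X, ∃ (W : Scheme.{u}) (g : W ⟶ X), Flat g ∧ LocallyOfFinitePresentation g ∧ x ∈ Set.range g ∧
      Q W ((Scheme.Modules.pullback g).obj M)) : Q X M := by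
  refine hQ.of_opens fun x => ?_
  obtain ⟨W, g, hg, hg', ⟨w, rfl⟩, hW⟩ := h x
  haveI := hg
  haveI := hg'
  obtain ⟨V, hV, hxV, -⟩ := exists_isAffineOpen_mem_and_subset (x := g w) (U := ⊤) trivial
  obtain ⟨A, hA, hwA, hAV⟩ := exists_isAffineOpen_mem_and_subset (x := w) (U := g ⁻¹ᵁ V) hxV
  have hopen : IsOpen (g '' A) := g.isOpenMap _ A.isOpen
  obtain ⟨f, hfD, hwD⟩ := hV.exists_basicOpen_le (V := ⟨g '' A, hopen⟩) ⟨g w, ⟨w, hwA, rfl⟩⟩ hxV
  let D := X.basicOpen f
  have hD : IsAffineOpen D := hV.basicOpen f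
  let A' : W.Opens := W.basicOpen (g.appLE V A hAV f)
  have hA' : IsAffineOpen A' := hA.basicOpen _
  have hA'eq : A' = A ⊓ g ⁻¹ᵁ D := by
    show W.basicOpen _ = _
    rw [Scheme.Hom.appLE, CommRingCat.comp_apply, Scheme.basicOpen_res, ← Scheme.preimage_basicOpen]
  have hle : A' ≤ g ⁻¹ᵁ D := hA'eq.le.trans inf_le_right
  let g₀ : (A' : Scheme.{u}) ⟶ (D : Scheme.{u}) := g.resLE D A' hle
  haveI : IsAffine (A' : Scheme.{u}) := hA'
  haveI : IsAffine (D : Scheme.{u}) := hD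
  haveI : Surjective g₀ := ⟨fun d => by
    obtain ⟨a, ha, hae⟩ := hfD d.2
    refine ⟨⟨a, ?_⟩, ?_⟩
    · rw [hA'eq]
      exact ⟨ha, by show g a ∈ D; rw [hae]; exact d.2⟩
    · apply D.ι.isOpenEmbedding.injective
      rw [← Scheme.Hom.comp_apply, Scheme.Hom.resLE_comp_ι]
      exact hae⟩
  refine ⟨D, hwD, hQ.desc g₀ (M1.isQCoh_restrict hM D.ι) ?_⟩
  have h1 : Q _ ((Scheme.Modules.pullback (g₀ ≫ D.ι)).obj M) := by
    rw [show g₀ ≫ D.ι = A'.ι ≫ g from Scheme.Hom.resLE_comp_ι _ _]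
    exact hQ.of_iso ((Scheme.Modules.pullbackComp A'.ι g).app M) (hQ.pull A'.ι hW)
  exact hQ.of_iso
    (((Scheme.Modules.pullbackComp g₀ D.ι).app M).symm ≪≫
      (Scheme.Modules.pullback g₀).mapIso ((Scheme.Modules.restrictFunctorIsoPullback D.ι).app M).symm) h1

open StMod

variable {S : Scheme.{u}} {𝒳 𝒴 : AlgSt.Cat S}

theorem castMod_iff {X T : Scheme.{u}} (e : X = T) (M : X.Modules) : Q T (castMod e M) ↔ Q X M := by
  subst e
  exact Iff.rfl

theorem pullback_obj_of_eq {X T : Scheme.{u}} (e : T = X) (M : X.Modules) :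
    Nonempty ((Scheme.Modules.pullback (eqToHom e)).obj M ≅ castMod e.symm M) := by
  subst e
  exact ⟨(Scheme.Modules.pullbackId _).app M⟩

/-- Along a functor that is locally surjective on objects, an fppf local property of a quasi-coherent module is detected
by the inverse image. -/
theorem forall_comap_iff (hQ : FppfLocalModProp Q) (π : 𝒳 ⥤ᵇ 𝒴)
    (hloc : Gerb.LocSurjObj (QuotSh.J Scheme.fppfPrecoverage S) π) (G : StMod.QCoh 𝒴) :
    (∀ η : 𝒴.obj, Q (sch 𝒴 η) (G.obj.obj η)) ↔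
      ∀ ξ : 𝒳.obj, Q (sch 𝒳 ξ) (((StMod.comapQ π).obj G).obj.obj ξ) := by
  refine ⟨fun h ξ => ?_, fun h η => hQ.of_cover (G.property.2 η) fun t => ?_⟩
  · show Q (sch 𝒳 ξ) ((Mod.comap π G.obj).obj ξ)
    rw [Mod.comap_obj]
    exact (castMod_iff _ _).2 (h _)
  · obtain ⟨R, hR, hR'⟩ := hloc η
    obtain ⟨𝒰, h𝒰⟩ := (AlgSpace.mem_J_iff (U := 𝒴.p.obj η) R).1 hR
    obtain ⟨i, s, hs⟩ := 𝒰.exists_eq t
    obtain ⟨x, g, hg⟩ := hR' (AlgSpace.overArrow (𝒰.f i)) ((AlgSpace.overEquiv_arrow R (𝒰.f i)).1 (h𝒰 i))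
    have hf : Flat (𝒰.f i) ∧ LocallyOfFinitePresentation (𝒰.f i) := 𝒰.map_prop i
    haveI := hf.1
    haveI := hf.2
    have hdom : (Over.mk (𝒰.f i ≫ (𝒴.p.obj η).hom)) = 𝒴.p.obj (π.obj x) := by
      haveI := hg
      exact (IsHomLift.domain_eq 𝒴.p (AlgSpace.overArrow (𝒰.f i)) g).symm
    have hb : bmap 𝒴 g = eqToHom (congrArg Over.left hdom).symm ≫ 𝒰.f i := by
      haveI := hg
      have := IsHomLift.fac' 𝒴.p (AlgSpace.overArrow (𝒰.f i)) g
      show (𝒴.p.map g).left = _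
      rw [this]
      simp
    haveI : Flat (bmap 𝒴 g) := by rw [hb]; infer_instance
    haveI : LocallyOfFinitePresentation (bmap 𝒴 g) := by rw [hb]; infer_instance
    refine ⟨_, bmap 𝒴 g, inferInstance, inferInstance, ?_, ?_⟩
    · refine ⟨(eqToHom (congrArg Over.left hdom)).base s, ?_⟩
      rw [hb]
      refine (Scheme.Hom.comp_apply _ (𝒰.f i) _).trans ?_
      refine (congrArg (𝒰.f i) ?_).trans hs
      erw [← Scheme.Hom.comp_apply]
      rw [eqToHom_trans, eqToHom_refl]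
      rfl
    · have h1 : Q (sch 𝒳 x) ((Mod.comap π G.obj).obj x) := h x
      rw [Mod.comap_obj] at h1
      haveI := G.property.1 g (g := bmap 𝒴 g) rfl
      exact hQ.of_iso (asIso (((Scheme.Modules.pullbackPushforwardAdjunction (bmap 𝒴 g)).homEquiv
        (G.obj.obj η) (G.obj.obj (π.obj x))).symm (G.obj.map g rfl))).symm ((castMod_iff _ _).1 h1)

end Groth.Agent.StQC14
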