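import Groth.Agent.Lib.StQC14.GdHom
import Groth.Agent.Lib.StQC14.GenConv
import Groth.Agent.Lib.StQC14.GerbDesc

/-!
# Modules along a functor whose image covers, as modules with transport
-/

universe w' v' w v u

open CategoryTheory CategoryTheory.Functor CategoryTheory.Limits AlgebraicGeometry Opposite

set_option linter.style.haveILetI false
set_option linter.unusedSectionVars false
set_option backward.isDefEq.respectTransparency false
set_option backward.isDefEq.respectTransparency.types false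

namespace Groth.Agent.StQC14

open StMod

variable {S : Scheme.{u}} {𝒜 : BasedCategory.{v, w} (Over S)} {ℬ : BasedCategory.{v', w'} (Over S)}

/-- The morphism of schemes under a morphism between images, read at the sources. -/
def lb (h : 𝒜 ⥤ᵇ ℬ) {a' a : 𝒜.obj} (b : h.obj a' ⟶ h.obj a) : sch 𝒜 a' ⟶ sch 𝒜 a :=
  eqToHom (sch_obj_eq h a').symm ≫ bmap ℬ b ≫ eqToHom (sch_obj_eq h a)

theorem lb_map (h : 𝒜 ⥤ᵇ ℬ) {a' a : 𝒜.obj} (k : a' ⟶ a) : lb h (h.map k) = bmap 𝒜 k := by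
  simp [lb, bmap_map]

theorem lb_id (h : 𝒜 ⥤ᵇ ℬ) (a : 𝒜.obj) : lb h (𝟙 (h.obj a)) = 𝟙 _ := by
  simp [lb, bmap_id]

theorem lb_comp (h : 𝒜 ⥤ᵇ ℬ) {a'' a' a : 𝒜.obj} (b' : h.obj a'' ⟶ h.obj a') (b : h.obj a' ⟶ h.obj a) :
    lb h (b' ≫ b) = lb h b' ≫ lb h b := by
  simp [lb, bmap_comp]

theorem lb_castT_comm (h : 𝒜 ⥤ᵇ ℬ) {a' a : 𝒜.obj} (b : h.obj a' ⟶ h.obj a) :
    eqToHom (sch_obj_eq h a') ≫ lb h b = bmap ℬ b ≫ eqToHom (sch_obj_eq h a) := by
  simp [lb]

/-- Transport of the sections of a module along all morphisms between images. -/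
structure Tr (h : 𝒜 ⥤ᵇ ℬ) (F : Mod 𝒜) where
  T : ∀ {a' a : 𝒜.obj} [IsAffine (sch 𝒜 a')] [IsAffine (sch 𝒜 a)] (b : h.obj a' ⟶ h.obj a),
    Γ(F.obj a, ⊤) →ₛₗ[(lb h b).appTop.hom] Γ(F.obj a', ⊤)
  T_map : ∀ {a' a : 𝒜.obj} [IsAffine (sch 𝒜 a')] [IsAffine (sch 𝒜 a)] (k : a' ⟶ a) (x : Γ(F.obj a, ⊤)),
    T (h.map k) x = F.mapTop k x
  T_comp : ∀ {a'' a' a : 𝒜.obj} [IsAffine (sch 𝒜 a'')] [IsAffine (sch 𝒜 a')] [IsAffine (sch 𝒜 a)]
    (b' : h.obj a'' ⟶ h.obj a') (b : h.obj a' ⟶ h.obj a) (x : Γ(F.obj a, ⊤)), T (b' ≫ b) x = T b' (T b x)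
  isBC : ∀ {a' a : 𝒜.obj} [IsAffine (sch 𝒜 a')] [IsAffine (sch 𝒜 a)] (b : h.obj a' ⟶ h.obj a), IsBC (T b)

/-- Images of affine objects cover affine objects. -/
def CovBy (h : 𝒜 ⥤ᵇ ℬ) : Prop :=
  ∀ (η : ℬ.obj) [IsAffine (sch ℬ η)], ∃ (n : ℕ) (a : Fin n → {a : 𝒜.obj // IsAffine (sch 𝒜 a)})
    (κ : ∀ k, h.obj (a k).1 ⟶ η), (∀ k, Flat (bmap ℬ (κ k))) ∧
      ∀ x : ↥(sch ℬ η), ∃ k, x ∈ Set.range (bmap ℬ (κ k))

/-- The class of images of affine objects. -/
def funBas (h : 𝒜 ⥤ᵇ ℬ) (hℬ : FibCat.IsFibGrpd ℬ.p) (hc : CovBy h) : Bas.{w} ℬ where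
  grpd := hℬ
  ι := {a : 𝒜.obj // IsAffine (sch 𝒜 a)}
  o a := h.obj a.1
  aff a := haveI := a.2; isAffine_map h a.1
  cover η _ := hc η

theorem covBy_of_locSurjObj {𝒳 𝒴 : AlgSt.Cat S} (h₀ : FibCat.IsFibGrpd 𝒳.p) (π : 𝒳 ⥤ᵇ 𝒴)
    (hloc : Gerb.LocSurjObj (QuotSh.J Scheme.fppfPrecoverage S) π) : CovBy π := by
  classical
  intro η _
  have key : ∀ t : ↥(sch 𝒴 η), ∃ (a : {a : 𝒳.obj // IsAffine (sch 𝒳 a)}) (g : π.obj a.1 ⟶ η),
      Flat (bmap 𝒴 g) ∧ LocallyOfFinitePresentation (bmap 𝒴 g) ∧ t ∈ Set.range (bmap 𝒴 g) := by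
    intro t
    obtain ⟨R, hR, hR'⟩ := hloc η
    obtain ⟨𝒰, h𝒰⟩ := (AlgSpace.mem_J_iff (U := 𝒴.p.obj η) R).1 hR
    obtain ⟨i, s, hs⟩ := 𝒰.exists_eq t
    obtain ⟨x, g, hg⟩ := hR' (AlgSpace.overArrow (𝒰.f i)) ((AlgSpace.overEquiv_arrow R (𝒰.f i)).1 (h𝒰 i))
    have hf : Flat (𝒰.f i) ∧ LocallyOfFinitePresentation (𝒰.f i) := 𝒰.map_prop i
    haveI := hf.1
    haveI := hf.2
    have hdom : (Over.mk (𝒰.f i ≫ (𝒴.p.obj η).hom)) = 𝒴.p.obj (π.obj x) := by
      haveI := hg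
      exact (IsHomLift.domain_eq 𝒴.p (AlgSpace.overArrow (𝒰.f i)) g).symm
    have hb : bmap 𝒴 g = eqToHom (congrArg Over.left hdom).symm ≫ 𝒰.f i := by
      haveI := hg
      have := IsHomLift.fac' 𝒴.p (AlgSpace.overArrow (𝒰.f i)) g
      show (𝒴.p.map g).left = _
      rw [this]
      simp
    let e : (sch 𝒳 x : Scheme.{u}) ⟶ 𝒰.X i :=
      eqToHom ((sch_obj_eq π x).symm.trans (congrArg Over.left hdom).symm)
    obtain ⟨s', hs'⟩ := e.surjective s
    obtain ⟨W, hW, hsW, -⟩ := exists_isAffineOpen_mem_and_subset (x := s') (U := ⊤) trivial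
    obtain ⟨a, φ, ha, hi, hr⟩ := exists_piece h₀ x hW
    have hs'' : s' ∈ Set.range (bmap 𝒳 φ) := by
      rw [← Scheme.Hom.coe_opensRange, hr]
      exact hsW
    have hcomp : bmap 𝒴 (π.map φ ≫ g) = eqToHom (sch_obj_eq π a) ≫ bmap 𝒳 φ ≫ e ≫ 𝒰.f i := by
      simp [bmap_comp, bmap_map, hb, e]
    refine ⟨⟨a, ha⟩, π.map φ ≫ g, ?_, ?_, ?_⟩
    · rw [hcomp]; infer_instance
    · rw [hcomp]; infer_instance
    · obtain ⟨q, hq⟩ := hs''
      obtain ⟨q', rfl⟩ := (eqToHom (sch_obj_eq π a)).surjective q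
      refine ⟨q', ?_⟩
      rw [hcomp, Scheme.Hom.comp_apply, Scheme.Hom.comp_apply, hq, Scheme.Hom.comp_apply, hs']
      exact hs
  choose a g hfl hfp hmem using key
  haveI := hfl
  haveI := hfp
  obtain ⟨s, hs⟩ := isCompact_univ.elim_finite_subcover (fun t => Set.range (bmap 𝒴 (g t)))
    (fun t => (bmap 𝒴 (g t)).isOpenMap.isOpen_range) fun t _ => Set.mem_iUnion.2 ⟨t, hmem t⟩
  let e := (Fintype.equivFin s).symm
  refine ⟨_, fun k => a (e k).1, fun k => g (e k).1, fun k => hfl _, fun x => ?_⟩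
  obtain ⟨t, hts, hx⟩ := Set.mem_iUnion₂.1 (hs (Set.mem_univ x))
  obtain ⟨k, hk⟩ := e.surjective ⟨t, hts⟩
  refine ⟨k, ?_⟩
  show x ∈ Set.range (bmap 𝒴 (g (e k).1))
  rw [hk]
  exact hx

variable (h : 𝒜 ⥤ᵇ ℬ)

/-- Sections at a source as sections at the image. -/
noncomputable def cl (E : Mod ℬ) (a : 𝒜.obj) :
    Γ((Mod.comap h E).obj a, ⊤) →ₛₗ[(eqToHom (sch_obj_eq h a)).appTop.hom] Γ(E.obj (h.obj a), ⊤) :=
  castT (sch_obj_eq h a) (E.obj (h.obj a))

theorem cl_bijective (E : Mod ℬ) (a : 𝒜.obj) : Function.Bijective (cl h E a) := castT_bijective _ _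

theorem eqToHom_appTop_bijective {X Y : Scheme.{u}} (e : X = Y) :
    Function.Bijective (eqToHom e).appTop.hom := by
  subst e
  exact Function.bijective_id

/-- The canonical transport of an inverse image. -/
noncomputable def trQ (E : Mod ℬ) (hE : isQCoh ℬ E) : Tr h (Mod.comap h E) where
  T {a' a} _ _ b :=
    { toFun := fun x => ((Equiv.ofBijective _ (cl_bijective h E a')).symm (E.mapTop b (cl h E a x)))
      map_add' := fun x y => by
        apply (cl_bijective h E a').1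
        simp only [Equiv.ofBijective_apply_symm_apply, _root_.map_add, E.mapTop_add]
      map_smul' := fun c x => by
        apply (cl_bijective h E a').1
        rw [LinearMap.map_smulₛₗ (cl h E a')]
        simp only [Equiv.ofBijective_apply_symm_apply]
        rw [LinearMap.map_smulₛₗ (cl h E a), E.mapTop_smul]
        exact congrArg (· • _) (congr($(congrArg Scheme.Hom.appTop (lb_castT_comm h b)) c)).symm }
  T_map {a' a} _ _ k x := by
    apply (cl_bijective h E a').1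
    refine (Equiv.ofBijective_apply_symm_apply _ (cl_bijective h E a') _).trans ?_
    exact (castT_mapTop h E k x).symm
  T_comp {a'' a' a} _ _ _ b' b x := by
    apply (cl_bijective h E a'').1
    show cl h E a'' ((Equiv.ofBijective _ (cl_bijective h E a'')).symm (E.mapTop (b' ≫ b) (cl h E a x))) =
      cl h E a'' ((Equiv.ofBijective _ (cl_bijective h E a'')).symm (E.mapTop b' (cl h E a'
        ((Equiv.ofBijective _ (cl_bijective h E a')).symm (E.mapTop b (cl h E a x))))))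
    simp only [Equiv.ofBijective_apply_symm_apply, E.mapTop_comp]
  isBC {a' a} _ _ b := by
    haveI := isAffine_map h a
    haveI := isAffine_map h a'
    have h₁ : IsBC (cl h E a) := isBC_of_bijective' (eqToHom_appTop_bijective _) (cl_bijective h E a)
    let j : Γ((Mod.comap h E).obj a, ⊤) →ₛₗ[((bmap ℬ b) ≫ eqToHom (sch_obj_eq h a)).appTop.hom]
        Γ(E.obj (h.obj a'), ⊤) :=
      { toFun := fun x => E.mapTop b (cl h E a x)
        map_add' := fun x y => by rw [_root_.map_add, E.mapTop_add]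
        map_smul' := fun c x => by
          rw [LinearMap.map_smulₛₗ, E.mapTop_smul]
          exact congrArg (· • _) (congr($(Scheme.Hom.comp_appTop (bmap ℬ b) (eqToHom (sch_obj_eq h a))) c)).symm }
    have hj : IsBC j := IsBC.comp
      (congrArg CommRingCat.Hom.hom ((bmap ℬ b).comp_appTop (eqToHom (sch_obj_eq h a))).symm) h₁
      (isBC_secL b hE) fun x => rfl
    exact IsBC.of_comp_right (τ := (eqToHom (sch_obj_eq h a')).appTop.hom)
      ((congrArg CommRingCat.Hom.hom ((eqToHom (sch_obj_eq h a')).comp_appTop (lb h b)).symm).trans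
        (congrArg (fun m => (Scheme.Hom.appTop m).hom) (lb_castT_comm h b)))
      (isBC_of_bijective' (eqToHom_appTop_bijective _) (cl_bijective h E a')) hj
      (RingHom.Flat.of_bijective (eqToHom_appTop_bijective _))
      (fun p => (PrimeSpectrum.comapEquiv (RingEquiv.ofBijective _
        (eqToHom_appTop_bijective (sch_obj_eq h a')))).symm.surjective p)
      fun x => Equiv.ofBijective_apply_symm_apply _ (cl_bijective h E a') _

theorem cl_trQ (E : Mod ℬ) (hE : isQCoh ℬ E) {a' a : 𝒜.obj} [IsAffine (sch 𝒜 a')] [IsAffine (sch 𝒜 a)]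
    (b : h.obj a' ⟶ h.obj a) (x : Γ((Mod.comap h E).obj a, ⊤)) :
    cl h E a' ((trQ h E hE).T b x) = E.mapTop b (cl h E a x) :=
  Equiv.ofBijective_apply_symm_apply _ (cl_bijective h E a') _

variable {h}

/-- A morphism of inverse images commuting with transport descends uniquely. -/
theorem existsUnique_descend (h₀ : FibCat.IsFibGrpd 𝒜.p) (hℬ : FibCat.IsFibGrpd ℬ.p) (hc : CovBy h)
    (E G : QCoh ℬ) (u : (comapQ h).obj E ⟶ (comapQ h).obj G)
    (hu : ∀ {a' a : 𝒜.obj} [IsAffine (sch 𝒜 a')] [IsAffine (sch 𝒜 a)] (b : h.obj a' ⟶ h.obj a)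
      (x : Γ((Mod.comap h E.obj).obj a, ⊤)),
      (u.hom.app a').app ⊤ ((trQ h E.obj E.property).T b x) =
        (trQ h G.obj G.property).T b ((u.hom.app a).app ⊤ x)) :
    ∃ v : E ⟶ G, (comapQ h).map v = u ∧ ∀ v', (comapQ h).map v' = u → v' = v := by
  have key : ∀ (v : E ⟶ G) (a : 𝒜.obj) (x : Γ((Mod.comap h E.obj).obj a, ⊤)),
      cl h G.obj a ((((comapQ h).map v).hom.app a).app ⊤ x) = (v.hom.app (h.obj a)).app ⊤ (cl h E.obj a x) :=
    fun v a x => castT_castHom (sch_obj_eq h a) (v.hom.app (h.obj a)) x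
  have hl : ∀ a : 𝒜.obj, ∃ l : Lin E.obj G.obj (h.obj a), ∀ x,
      cl h G.obj a ((u.hom.app a).app ⊤ x) = l (cl h E.obj a x) := fun a =>
    exists_castLin (sch_obj_eq h a) (appL u.hom a)
  choose l hl using hl
  let B := funBas h hℬ hc
  obtain ⟨v, hv⟩ := B.exists_hom E.property G.property (fun a => l a.1) fun {i j} b x => by
    haveI := i.2
    haveI := j.2
    obtain ⟨x, rfl⟩ := (cl_bijective h E.obj j.1).2 x
    refine (congrArg (G.obj.mapTop b) (hl j.1 x).symm).trans ?_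
    refine (cl_trQ h G.obj G.property b _).symm.trans ?_
    refine (congrArg (cl h G.obj i.1) (hu b x).symm).trans ?_
    exact (hl i.1 _).trans (congrArg (l i.1) (cl_trQ h E.obj E.property b x))
  refine ⟨InducedCategory.homMk v, InducedCategory.hom_ext ?_, fun v' hv' => InducedCategory.hom_ext ?_⟩
  · refine hom_ext_affine h₀ (isQCoh_comap E.property) (isQCoh_comap G.property) fun a ha x => ?_
    apply (cl_bijective h G.obj a).1
    refine (key (InducedCategory.homMk v) a x).trans ((hv ⟨a, ha⟩ _).trans (hl a x).symm)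
  · refine B.hom_ext E.property G.property fun i x => ?_
    obtain ⟨x, rfl⟩ := (cl_bijective h E.obj i.1).2 x
    refine ((key v' i.1 x).symm.trans ?_).trans (hv i _).symm
    rw [hv']
    exact hl i.1 x

/-- Functions at a source as functions at the image. -/
noncomputable def eqR (h : 𝒜 ⥤ᵇ ℬ) (a : 𝒜.obj) : Γ(sch 𝒜 a, ⊤) ≃+* Γ(sch ℬ (h.obj a), ⊤) :=
  RingEquiv.ofBijective _ (eqToHom_appTop_bijective (sch_obj_eq h a))

theorem eqR_apply (a : 𝒜.obj) (c : Γ(sch 𝒜 a, ⊤)) :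
    eqR h a c = (eqToHom (sch_obj_eq h a)).appTop.hom c := rfl

theorem lb_eqR {a' a : 𝒜.obj} (b : h.obj a' ⟶ h.obj a) (c : Γ(sch ℬ (h.obj a), ⊤)) :
    (lb h b).appTop.hom ((eqR h a).symm c) = (eqR h a').symm ((bmap ℬ b).appTop.hom c) := by
  apply (eqR h a').injective
  rw [RingEquiv.apply_symm_apply]
  conv_rhs => rw [← (eqR h a).apply_symm_apply c]
  exact congr($(congrArg Scheme.Hom.appTop (lb_castT_comm h b)) ((eqR h a).symm c))

/-- Sections at a source as a module over the image. -/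
abbrev trN (h : 𝒜 ⥤ᵇ ℬ) (F : Mod 𝒜) (a : 𝒜.obj) : Type u := RS (eqR h a).symm.toRingHom Γ(F.obj a, ⊤)

/-- Sections at a source, out of the module over the image. -/
noncomputable def trVal (h : 𝒜 ⥤ᵇ ℬ) (F : Mod 𝒜) (a : 𝒜.obj) : trN h F a →+ Γ(F.obj a, ⊤) := RS.val

theorem trVal_smul {F : Mod 𝒜} (a : 𝒜.obj) (c : Γ(sch ℬ (h.obj a), ⊤)) (x : trN h F a) :
    trVal h F a (c • x) = (eqR h a).symm c • trVal h F a x := rfl

/-- The transport between modules over the images. -/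
noncomputable def trT {F : Mod 𝒜} (R : Tr h F) {a' a : 𝒜.obj} [IsAffine (sch 𝒜 a')] [IsAffine (sch 𝒜 a)]
    (b : h.obj a' ⟶ h.obj a) : trN h F a →ₛₗ[(bmap ℬ b).appTop.hom] trN h F a' where
  toFun x := RS.mk (R.T b (RS.val x))
  map_add' x y := (congrArg RS.mk ((R.T b).map_add _ _)).trans (RS.mk.map_add _ _)
  map_smul' c x := by
    refine (congrArg RS.mk ((R.T b).map_smulₛₗ ((eqR h a).symm c) (RS.val x))).trans ?_
    exact congrArg (fun r => RS.mk (r • R.T b (RS.val x))) (lb_eqR b c)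

theorem trT_apply {F : Mod 𝒜} (R : Tr h F) {a' a : 𝒜.obj} [IsAffine (sch 𝒜 a')] [IsAffine (sch 𝒜 a)]
    (b : h.obj a' ⟶ h.obj a) (x : trN h F a) : trT R b x = RS.mk (R.T b (RS.val x)) := rfl

theorem isBC_trT {F : Mod 𝒜} (R : Tr h F) {a' a : 𝒜.obj} [IsAffine (sch 𝒜 a')] [IsAffine (sch 𝒜 a)]
    (b : h.obj a' ⟶ h.obj a) : IsBC (trT R b) := by
  haveI := isAffine_map h a'
  haveI := isAffine_map h a
  let idj : Γ(F.obj a, ⊤) →ₛₗ[(eqToHom (sch_obj_eq h a)).appTop.hom] trN h F a :=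
    { toFun := RS.mk, map_add' := RS.mk.map_add,
      map_smul' := fun c x => congrArg (fun r => RS.mk (r • x)) ((eqR h a).symm_apply_apply c).symm }
  let idi : Γ(F.obj a', ⊤) →ₛₗ[(eqToHom (sch_obj_eq h a')).appTop.hom] trN h F a' :=
    { toFun := RS.mk, map_add' := RS.mk.map_add,
      map_smul' := fun c x => congrArg (fun r => RS.mk (r • x)) ((eqR h a').symm_apply_apply c).symm }
  let j' : Γ(F.obj a, ⊤) →ₛₗ[(eqToHom (sch_obj_eq h a') ≫ lb h b).appTop.hom] trN h F a' :=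
    { toFun := fun x => idi (R.T b x)
      map_add' := fun x y => by rw [_root_.map_add, _root_.map_add]
      map_smul' := fun c x => by
        rw [LinearMap.map_smulₛₗ, LinearMap.map_smulₛₗ]
        exact congrArg (· • _)
          (congr($(Scheme.Hom.comp_appTop (eqToHom (sch_obj_eq h a')) (lb h b)) c)).symm }
  have hi : IsBC idi := isBC_of_bijective' (eqToHom_appTop_bijective _) ⟨fun _ _ e => e, fun y => ⟨y, rfl⟩⟩
  have hj : IsBC idj := isBC_of_bijective' (eqToHom_appTop_bijective _) ⟨fun _ _ e => e, fun y => ⟨y, rfl⟩⟩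
  have hj' : IsBC j' := IsBC.comp
    (congrArg CommRingCat.Hom.hom ((eqToHom (sch_obj_eq h a')).comp_appTop (lb h b)).symm) (R.isBC b) hi
    fun x => rfl
  exact IsBC.of_comp
    (((congrArg CommRingCat.Hom.hom ((bmap ℬ b).comp_appTop (eqToHom (sch_obj_eq h a))).symm)).trans
      (congrArg (fun m => (Scheme.Hom.appTop m).hom) (lb_castT_comm h b).symm)) hj hj' fun x => rfl

/-- A module with transport as a module on the class of images. -/
noncomputable def trBasMod (hℬ : FibCat.IsFibGrpd ℬ.p) (hc : CovBy h) {F : Mod 𝒜} (R : Tr h F) :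
    BasMod (funBas h hℬ hc) where
  N i := ModuleCat.of Γ(sch ℬ (h.obj i.1), ⊤) (trN h F i.1)
  T {i j} b := haveI := i.2; haveI := j.2; trT R b
  T_id i x := by
    haveI := i.2
    show trT R (𝟙 (h.obj i.1)) (show trN h F i.1 from x) = _
    rw [trT_apply, ← h.toFunctor.map_id, R.T_map, F.mapTop_id]
    rfl
  T_comp {i j k} a b x := by
    haveI := i.2; haveI := j.2; haveI := k.2
    show trT R (a ≫ b) (show trN h F k.1 from x) = trT R a (trT R b (show trN h F k.1 from x))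
    rw [trT_apply, trT_apply, trT_apply, R.T_comp, RS.val_mk]
  isBC {i j} b := haveI := i.2; haveI := j.2; isBC_trT R b

/-- A module with transport descends. -/
theorem exists_descended (h₀ : FibCat.IsFibGrpd 𝒜.p) (hℬ : FibCat.IsFibGrpd ℬ.p) (hc : CovBy h)
    (F : QCoh 𝒜) (R : Tr h F.obj) :
    ∃ (G : QCoh ℬ) (e : (comapQ h).obj G ≅ F),
      ∀ {a' a : 𝒜.obj} [IsAffine (sch 𝒜 a')] [IsAffine (sch 𝒜 a)] (b : h.obj a' ⟶ h.obj a)
        (x : Γ((Mod.comap h G.obj).obj a, ⊤)),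
        (e.hom.hom.app a').app ⊤ ((trQ h G.obj G.property).T b x) = R.T b ((e.hom.hom.app a).app ⊤ x) := by
  let D := trBasMod hℬ hc R
  obtain ⟨ε, hε⟩ := gd_value D
  let G := gdQ D
  -- the comparison on affine objects
  let L : ∀ a : 𝒜.obj, IsAffine (sch 𝒜 a) → (Γ((Mod.comap h G.obj).obj a, ⊤) →ₗ[Γ(sch 𝒜 a, ⊤)]
      Γ(F.obj.obj a, ⊤)) := fun a ha =>
    { toFun := fun x => trVal h F.obj a (ε ⟨a, ha⟩ (cl h G.obj a x))
      map_add' := fun x y =>
        ((congrArg (fun z => trVal h F.obj a (ε ⟨a, ha⟩ z)) ((cl h G.obj a).map_add x y)).trans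
          (congrArg (trVal h F.obj a) ((ε ⟨a, ha⟩).map_add _ _))).trans ((trVal h F.obj a).map_add _ _)
      map_smul' := fun c x => by
        refine (congrArg (fun z => trVal h F.obj a (ε ⟨a, ha⟩ z)) ((cl h G.obj a).map_smulₛₗ c x)).trans ?_
        refine (congrArg (trVal h F.obj a) ((ε ⟨a, ha⟩).map_smul _ _)).trans ?_
        refine (trVal_smul a _ _).trans ?_
        exact congrArg (· • trVal h F.obj a (ε ⟨a, ha⟩ (cl h G.obj a x))) ((eqR h a).symm_apply_apply c) }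
  have hLb : ∀ a ha, Function.Bijective (L a ha) := fun a ha =>
    (ε ⟨a, ha⟩).bijective.comp (cl_bijective h G.obj a)
  let L' : ∀ a : 𝒜.obj, IsAffine (sch 𝒜 a) → (Γ(F.obj.obj a, ⊤) →ₗ[Γ(sch 𝒜 a, ⊤)]
      Γ((Mod.comap h G.obj).obj a, ⊤)) := fun a ha => (LinearEquiv.ofBijective (L a ha) (hLb a ha)).symm.toLinearMap
  have hLT : ∀ {a' a : 𝒜.obj} (ha' : IsAffine (sch 𝒜 a')) (ha : IsAffine (sch 𝒜 a)) (b : h.obj a' ⟶ h.obj a) x,
      L a' ha' ((trQ h G.obj G.property).T b x) = R.T b (L a ha x) := fun {a' a} ha' ha b x => by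
    haveI := ha'; haveI := ha
    show trVal h F.obj a' (ε ⟨a', ha'⟩ (cl h G.obj a' _)) = _
    rw [cl_trQ]
    exact congrArg (trVal h F.obj a') (hε (i := ⟨a', ha'⟩) (j := ⟨a, ha⟩) b _)
  have hLn : ∀ {a' a : 𝒜.obj} (ha' : IsAffine (sch 𝒜 a')) (ha : IsAffine (sch 𝒜 a)) (k : a' ⟶ a) x,
      F.obj.mapTop k (L a ha x) = L a' ha' ((Mod.comap h G.obj).mapTop k x) := fun {a' a} ha' ha k x => by
    haveI := ha'; haveI := ha
    rw [← R.T_map, ← hLT ha' ha, (trQ h G.obj G.property).T_map]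
  have hinv : ∀ a ha x, L a ha (L' a ha x) = x := fun a ha x =>
    (LinearEquiv.ofBijective (L a ha) (hLb a ha)).apply_symm_apply x
  obtain ⟨e₁, he₁⟩ := exists_hom_of_affine h₀ (isQCoh_comap (f := h) G.property) F.property L
    fun h' h₁ k x => hLn h' h₁ k x
  obtain ⟨e₂, he₂⟩ := exists_hom_of_affine h₀ F.property (isQCoh_comap (f := h) G.property) L'
    fun {a' a} h' h₁ k x => (hLb a' h').1 (by rw [hinv, ← hLn h' h₁, hinv])
  have h12 : e₁ ≫ e₂ = 𝟙 _ := hom_ext_affine h₀ (isQCoh_comap (f := h) G.property) (isQCoh_comap (f := h) G.property)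
    fun a ha x => by
      show (e₂.app a).app ⊤ ((e₁.app a).app ⊤ x) = x
      rw [he₁ a ha, he₂ a ha]
      exact (hLb a ha).1 (hinv a ha _)
  have h21 : e₂ ≫ e₁ = 𝟙 _ := hom_ext_affine h₀ F.property F.property fun a ha x => by
      show (e₁.app a).app ⊤ ((e₂.app a).app ⊤ x) = x
      rw [he₂ a ha, he₁ a ha]
      exact hinv a ha x
  refine ⟨G, ⟨InducedCategory.homMk e₁, InducedCategory.homMk e₂, InducedCategory.hom_ext h12,
    InducedCategory.hom_ext h21⟩, fun {a' a} ha' ha b x => ?_⟩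
  show (e₁.app a').app ⊤ _ = R.T b ((e₁.app a).app ⊤ x)
  rw [he₁ a' ha', he₁ a ha]
  exact hLT ha' ha b x

end Groth.Agent.StQC14
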