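import Groth.Agent.Lib.StQC14.Pull
import Groth.Agent.Lib.StQC14.GerbDesc

/-!
# Twisted modules: locality
-/

universe u

open CategoryTheory CategoryTheory.Functor CategoryTheory.Limits AlgebraicGeometry Opposite TopologicalSpace

set_option linter.style.haveILetI false
set_option linter.unusedSectionVars false
set_option backward.isDefEq.respectTransparency false
set_option backward.isDefEq.respectTransparency.types false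

namespace Groth.Agent.StQC14

open StMod TwSh

variable {S : Scheme.{u}} {𝒳 : AlgSt.Cat S} {A : (Over S)ᵒᵖ ⥤ GrpCat.{u}} {F : Mod 𝒳}
  {ι : TwSh.BandHom 𝒳 A} {χ : A ⟶ TwSh.GmPsh S} {d : ℤ}

/-- The scalar of the twist. -/
noncomputable abbrev twUnit (χ : A ⟶ TwSh.GmPsh S) (d : ℤ) (ξ : 𝒳.obj) (a : A.obj (op (𝒳.p.obj ξ))) :
    Γ(sch 𝒳 ξ, ⊤) := ((TwSh.charUnit χ ξ a ^ d)⁻¹).val

theorem appTop_charUnit {ξ' ξ : 𝒳.obj} (φ : ξ' ⟶ ξ) (a : A.obj (op (𝒳.p.obj ξ))) :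
    (bmap 𝒳 φ).appTop (TwSh.charUnit χ ξ a).val = (TwSh.charUnit χ ξ' (A.map (𝒳.p.map φ).op a)).val := by
  have h := congr($(χ.naturality (𝒳.p.map φ).op) a)
  exact (congrArg Units.val h).symm

theorem appTop_twUnit {ξ' ξ : 𝒳.obj} (φ : ξ' ⟶ ξ) (a : A.obj (op (𝒳.p.obj ξ))) :
    (bmap 𝒳 φ).appTop (twUnit χ d ξ a) = twUnit χ d ξ' (A.map (𝒳.p.map φ).op a) := by
  have e : Units.map ((bmap 𝒳 φ).appTop.hom : _ →* _) (TwSh.charUnit χ ξ a) =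
      TwSh.charUnit χ ξ' (A.map (𝒳.p.map φ).op a) := Units.ext (appTop_charUnit φ a)
  rw [twUnit, twUnit, ← e, ← map_zpow, ← _root_.map_inv]
  rfl

theorem mapTop_natural {ξ' ξ : 𝒳.obj} (φ : ξ' ⟶ ξ) (a : A.obj (op (𝒳.p.obj ξ))) (x : Γ(F.obj ξ, ⊤)) :
    F.mapTop φ (F.mapTop (ι.hom ξ a).hom.1 x) =
      F.mapTop (ι.hom ξ' (A.map (𝒳.p.map φ).op a)).hom.1 (F.mapTop φ x) :=
  ((F.mapTop_comp φ (ι.hom ξ a).hom.1 x).symm.trans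
    (congrArg (fun m => F.mapTop m x) (ι.natural φ a).symm)).trans (F.mapTop_comp _ φ x)

theorem twisted_top_of_local (hF : isQCoh 𝒳 F) {ξ : 𝒳.obj} [IsAffine (sch 𝒳 ξ)]
    (a : A.obj (op (𝒳.p.obj ξ)))
    (h : ∀ t : ↥(sch 𝒳 ξ), ∃ (ξ' : 𝒳.obj) (_ : IsAffine (sch 𝒳 ξ')) (φ : ξ' ⟶ ξ), Flat (bmap 𝒳 φ) ∧
      t ∈ Set.range (bmap 𝒳 φ) ∧ ∀ y : Γ(F.obj ξ', ⊤),
        F.mapTop (ι.hom ξ' (A.map (𝒳.p.map φ).op a)).hom.1 y = twUnit χ d ξ' (A.map (𝒳.p.map φ).op a) • y)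
    (x : Γ(F.obj ξ, ⊤)) : F.mapTop (ι.hom ξ a).hom.1 x = twUnit χ d ξ a • x := by
  choose ξ' haff φ hfl hmem hy using h
  refine eq_of_local (f := fun t => secL F (φ t)) ξ' φ hfl (fun t => ⟨t, hmem t⟩)
    (fun t => isBC_secL (φ t) hF) _ _ fun t => ?_
  rw [secL_apply, secL_apply, mapTop_natural, hy, F.mapTop_smul, appTop_twUnit]

theorem resL_comp' {ξ'' ξ' ξ : 𝒳.obj} (ψ : ξ'' ⟶ ξ') (β : ξ' ⟶ ξ) {W : (sch 𝒳 ξ).Opens}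
    (hle : ⊤ ≤ bmap 𝒳 ψ ⁻¹ᵁ (bmap 𝒳 β ⁻¹ᵁ W)) (hle' : ⊤ ≤ bmap 𝒳 (ψ ≫ β) ⁻¹ᵁ W) (x : Γ(F.obj ξ, W)) :
    resL F (ψ ≫ β) W hle' x = resL F ψ (bmap 𝒳 β ⁻¹ᵁ W) hle ((F.map β rfl).app W x) := by
  have key : ∀ (g : sch 𝒳 ξ'' ⟶ sch 𝒳 ξ) (hg : bmap 𝒳 (ψ ≫ β) = g) (hl : ⊤ ≤ g ⁻¹ᵁ W),
      resL F (ψ ≫ β) W hle' x = M1.mres (F.obj ξ'') hl ((F.map (ψ ≫ β) hg).app W x) := by
    intro g hg hl
    subst hg
    rfl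
  rw [key _ (bmap_comp ψ β) hle, F.map_comp_app ψ β rfl rfl]
  rfl

theorem isTwisted_of_top (h₀ : FibCat.IsFibGrpd 𝒳.p) (hF : isQCoh 𝒳 F)
    (h : ∀ (ξ : 𝒳.obj), IsAffine (sch 𝒳 ξ) → ∀ (a : A.obj (op (𝒳.p.obj ξ))) (x : Γ(F.obj ξ, ⊤)),
      F.mapTop (ι.hom ξ a).hom.1 x = twUnit χ d ξ a • x) : TwSh.IsTwisted F ι χ d := by
  rw [TwSh.isTwisted_iff_inert_eq]
  intro ξ a
  refine ModLimH13.hom_ext_affine _ _ fun x => ⟨⊤, trivial, fun W _ hW s => ?_⟩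
  obtain ⟨η, φ, _, _, hr⟩ := exists_piece h₀ ξ hW
  refine (bijective_resL φ hF hW hr).1 ?_
  have e1 : ∀ (g : sch 𝒳 ξ ⟶ sch 𝒳 ξ) (hg : bmap 𝒳 (ι.hom ξ a).hom.1 = g) (hle : ⊤ ≤ bmap 𝒳 φ ⁻¹ᵁ (g ⁻¹ᵁ W)),
      resL F φ (g ⁻¹ᵁ W) hle ((F.map (ι.hom ξ a).hom.1 hg).app W s) =
        resL F (φ ≫ (ι.hom ξ a).hom.1) W (by rw [bmap_comp, hg]; exact hle) s := by
    intro g hg hle
    subst hg
    exact (resL_comp' φ (ι.hom ξ a).hom.1 hle _ s).symm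
  refine (e1 (𝟙 _) (TwSh.bmap_autO ξ _) (le_preimage φ hr)).trans ?_
  refine Eq.trans ?_ ((resL F φ W (le_preimage φ hr)).map_smulₛₗ _ _).symm
  have e2 : φ ≫ (ι.hom ξ a).hom.1 = (ι.hom η (A.map (𝒳.p.map φ).op a)).hom.1 ≫ φ := (ι.natural φ a).symm
  have e3 : ∀ {m m' : η ⟶ ξ} (e : m = m') (hm : ⊤ ≤ bmap 𝒳 m ⁻¹ᵁ W) (hm' : ⊤ ≤ bmap 𝒳 m' ⁻¹ᵁ W),
      resL F m W hm s = resL F m' W hm' s := by
    intro m m' e hm hm'; subst e; rfl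
  rw [e3 e2 _ (by rw [bmap_comp, TwSh.bmap_autO, Category.id_comp]; exact le_preimage φ hr),
    resL_comp φ _ (le_preimage φ hr), h η ‹_›]
  congr 1
  rw [← appTop_twUnit]
  exact (congr($(Scheme.Hom.map_appLE (bmap 𝒳 φ) (le_preimage φ hr) (homOfLE (le_top : W ≤ ⊤)).op) (twUnit χ d ξ a)).trans
    (congr($((bmap 𝒳 φ).appLE_eq_app (U := ⊤)) (twUnit χ d ξ a)))).symm

end Groth.Agent.StQC14
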