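import Groth.Agent.Lib.StQC14.GdFun
import Groth.Agent.Lib.StQC14.Twist

/-!
# Transport along a functor with local lifts of morphisms
-/

universe w' v' w v u

open CategoryTheory CategoryTheory.Functor CategoryTheory.Limits AlgebraicGeometry Opposite

set_option linter.style.haveILetI false
set_option linter.unusedSectionVars false
set_option backward.isDefEq.respectTransparency false
set_option backward.isDefEq.respectTransparency.types false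

namespace Groth.Agent.StQC14

open StMod

variable {S : Scheme.{u}}

section General

variable {𝒜 : BasedCategory.{v, w} (Over S)} {ℬ : BasedCategory.{v', w'} (Over S)}

/-- The class of all affine objects. -/
def allBas (h₀ : FibCat.IsFibGrpd 𝒜.p) : Bas.{w} 𝒜 where
  grpd := h₀
  ι := {a : 𝒜.obj // IsAffine (sch 𝒜 a)}
  o a := a.1
  aff a := a.2
  cover η hη := ⟨1, fun _ => ⟨η, hη⟩, fun _ => 𝟙 η, fun _ => by rw [bmap_id]; infer_instance,
    fun x => ⟨0, x, by rw [bmap_id]; rfl⟩⟩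

variable (h : 𝒜 ⥤ᵇ ℬ)

/-- Morphisms between images lift on finite flat covers. -/
def HasLifts (h₀ : FibCat.IsFibGrpd 𝒜.p) : Prop :=
  ∀ {a' a : 𝒜.obj} [IsAffine (sch 𝒜 a')] [IsAffine (sch 𝒜 a)] (b : h.obj a' ⟶ h.obj a),
    ∃ C : BCov (allBas h₀) a', ∀ k, ∃ φ : (C.i k).1 ⟶ a, h.map (C.κ k) ≫ b = h.map φ

theorem lb_lift {a'' a' a : 𝒜.obj} {b : h.obj a' ⟶ h.obj a} {ψ : a'' ⟶ a'} {φ : a'' ⟶ a}
    (e : h.map ψ ≫ b = h.map φ) : bmap 𝒜 ψ ≫ lb h b = bmap 𝒜 φ := by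
  rw [← lb_map h ψ, ← lb_map h φ, ← lb_comp, e]

variable {h} {h₀ : FibCat.IsFibGrpd 𝒜.p}

/-- Transported elements agree with inverse images along lifts. -/
theorem Tr.mapTop_lift {F : Mod 𝒜} (R : Tr h F) {a'' a' a : 𝒜.obj} [IsAffine (sch 𝒜 a'')] [IsAffine (sch 𝒜 a')]
    [IsAffine (sch 𝒜 a)] {b : h.obj a' ⟶ h.obj a} {ψ : a'' ⟶ a'} {φ : a'' ⟶ a} (e : h.map ψ ≫ b = h.map φ)
    (x : Γ(F.obj a, ⊤)) : F.mapTop ψ (R.T b x) = F.mapTop φ x := by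
  rw [← R.T_map ψ, ← R.T_comp, ← R.T_map φ, e]

/-- Morphisms commute with transport when morphisms lift locally. -/
theorem comm_of_lifts (hl : HasLifts h h₀) {F G : Mod 𝒜} (hG : isQCoh 𝒜 G) (R : Tr h F) (R' : Tr h G) (u : F ⟶ G)
    {a' a : 𝒜.obj} [IsAffine (sch 𝒜 a')] [IsAffine (sch 𝒜 a)] (b : h.obj a' ⟶ h.obj a) (x : Γ(F.obj a, ⊤)) :
    (u.app a').app ⊤ (R.T b x) = R'.T b ((u.app a).app ⊤ x) := by
  obtain ⟨C, hC⟩ := hl b
  choose φ hφ using hC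
  haveI : ∀ k, IsAffine (sch 𝒜 (C.i k).1) := fun k => (C.i k).2
  refine eq_of_local (fun k => (C.i k).1) C.κ C.flat C.surj (f := fun k => secL G (C.κ k))
    (fun k => isBC_secL (C.κ k) hG) _ _ fun k => ?_
  show G.mapTop (C.κ k) _ = G.mapTop (C.κ k) _
  refine (Mod.mapTop_app u (C.κ k) _).trans ?_
  rw [R.mapTop_lift (hφ k), R'.mapTop_lift (hφ k), Mod.mapTop_app]

/-- Transport exists when parallel morphisms with equal images act equally. -/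
theorem exists_tr (hl : HasLifts h h₀) {F : Mod 𝒜} (hF : isQCoh 𝒜 F)
    (hK : ∀ {z a : 𝒜.obj} [IsAffine (sch 𝒜 z)] [IsAffine (sch 𝒜 a)] (m m' : z ⟶ a), h.map m = h.map m' →
      ∀ x, F.mapTop m x = F.mapTop m' x) : Nonempty (Tr h F) := by
  let B := allBas h₀
  let D := B.restr hF
  have key : ∀ {a' a : 𝒜.obj} (ha' : IsAffine (sch 𝒜 a')) (ha : IsAffine (sch 𝒜 a)) (b : h.obj a' ⟶ h.obj a)
      (x : Γ(F.obj a, ⊤)), ∃ y : Γ(F.obj a', ⊤), ∀ (z : 𝒜.obj) (_ : IsAffine (sch 𝒜 z)) (ψ : z ⟶ a') (φ : z ⟶ a),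
        h.map ψ ≫ b = h.map φ → F.mapTop ψ y = F.mapTop φ x := by
    intro a' a ha' ha b x
    haveI := ha'
    haveI := ha
    obtain ⟨C, hC⟩ := hl b
    obtain ⟨v, hv⟩ := exists_of_local D (i := (⟨a', ha'⟩ : B.ι))
      (fun s c y => ∃ φ : s.1 ⟶ a, h.map c ≫ b = h.map φ ∧ y = F.mapTop φ x)
      ⟨C, fun l => let ⟨φ, e⟩ := hC l; ⟨_, φ, e, rfl⟩⟩
      (fun s c y y' hy hy' => by
        obtain ⟨φ, e, rfl⟩ := hy
        obtain ⟨φ', e', rfl⟩ := hy'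
        haveI := s.2
        exact hK φ φ' (e.symm.trans e') x)
      (fun s s' d c y hy => by
        obtain ⟨φ, e, rfl⟩ := hy
        refine ⟨d ≫ φ, ?_, (F.mapTop_comp d φ x).symm⟩
        rw [h.toFunctor.map_comp, h.toFunctor.map_comp, Category.assoc, e])
    exact ⟨v, fun z hz ψ φ e => hv ⟨z, hz⟩ ψ _ ⟨φ, e, rfl⟩⟩
  choose y hy using @key
  have huniq : ∀ {a' a : 𝒜.obj} (ha' : IsAffine (sch 𝒜 a')) (ha : IsAffine (sch 𝒜 a)) (b : h.obj a' ⟶ h.obj a)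
      (x : Γ(F.obj a, ⊤)) (v : Γ(F.obj a', ⊤)), (∀ (z : 𝒜.obj) (_ : IsAffine (sch 𝒜 z)) (ψ : z ⟶ a') (φ : z ⟶ a),
        h.map ψ ≫ b = h.map φ → F.mapTop ψ v = F.mapTop φ x) → v = y ha' ha b x := by
    intro a' a ha' ha b x v hv
    haveI := ha'; haveI := ha
    obtain ⟨C, hC⟩ := hl b
    haveI : ∀ k, IsAffine (sch 𝒜 (C.i k).1) := fun k => (C.i k).2
    refine eq_of_local (fun k => (C.i k).1) C.κ C.flat C.surj (f := fun k => secL F (C.κ k))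
      (fun k => isBC_secL (C.κ k) hF) _ _ fun k => ?_
    obtain ⟨φ, e⟩ := hC k
    show F.mapTop (C.κ k) v = F.mapTop (C.κ k) _
    rw [hv _ (C.i k).2 _ φ e, hy ha' ha b x _ (C.i k).2 _ φ e]
  refine ⟨{
    T := fun {a' a} ha' ha b =>
      { toFun := fun x => y ha' ha b x
        map_add' := fun x x' => (huniq ha' ha b _ _ fun z hz ψ φ e => by
          rw [F.mapTop_add, hy ha' ha b x z hz ψ φ e, hy ha' ha b x' z hz ψ φ e, F.mapTop_add]).symm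
        map_smul' := fun c x => (huniq ha' ha b _ _ fun z hz ψ φ e => by
          rw [F.mapTop_smul, hy ha' ha b x z hz ψ φ e, F.mapTop_smul]
          refine congrArg (· • _) ?_
          exact (congr($(Scheme.Hom.comp_appTop (bmap 𝒜 ψ) (lb h b)) c)).symm.trans
            (congr($(congrArg Scheme.Hom.appTop (lb_lift h e)) c))).symm }
    T_map := fun {a' a} ha' ha k x => (huniq ha' ha _ _ _ fun z hz ψ φ e => by
      rw [← F.mapTop_comp]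
      exact hK (ψ ≫ k) φ (by rw [h.toFunctor.map_comp, e]) x).symm
    T_comp := fun {a'' a' a} ha'' ha' ha b' b x => (huniq ha'' ha _ _ _ fun z hz ψ φ e => by
      obtain ⟨C', hC'⟩ := hl b'
      show F.mapTop ψ (y ha'' ha' b' (y ha' ha b x)) = F.mapTop φ x
      haveI := hz
      refine D.eq_of_lifts (i := (⟨z, hz⟩ : B.ι)) C' ψ fun l w p q e' => ?_
      obtain ⟨φ', eφ⟩ := hC' l
      haveI := (C'.i l).2
      haveI := w.2
      show F.mapTop p (F.mapTop ψ _) = F.mapTop p (F.mapTop φ x)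
      have h1 : h.map (q ≫ C'.κ l) ≫ b' = h.map (q ≫ φ') := by
        rw [h.toFunctor.map_comp, h.toFunctor.map_comp, Category.assoc, eφ]
      rw [← F.mapTop_comp, ← F.mapTop_comp, e', hy ha'' ha' b' _ _ w.2 _ _ h1]
      refine hy ha' ha b x _ w.2 _ _ ?_
      rw [h.toFunctor.map_comp p φ, ← e, ← Category.assoc, ← h.toFunctor.map_comp, e', ← h1,
        Category.assoc]).symm
    isBC := fun {a' a} ha' ha b => by
      obtain ⟨C, hC⟩ := hl b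
      choose φ hφ using hC
      haveI : ∀ k, IsAffine (sch 𝒜 (C.i k).1) := fun k => (C.i k).2
      refine IsBC.of_cover _ (flat_appTop_cov (B := allBas h₀) C) (comap_appTop_cov (B := allBas h₀) C)
        (g := fun k => secL F (C.κ k)) (fun k => isBC_secL (C.κ k) hF)
        (ρ := fun k => (bmap 𝒜 (φ k)).appTop.hom) (fun k => ?_)
        (h := fun k => secL F (φ k)) (fun k => isBC_secL (φ k) hF) fun k x => hy ha' ha b x _ (C.i k).2 _ _ (hφ k)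
      exact (congrArg CommRingCat.Hom.hom (Scheme.Hom.comp_appTop (bmap 𝒜 (C.κ k)) (lb h b)).symm).trans
        (congrArg (fun m => (Scheme.Hom.appTop m).hom) (lb_lift h (hφ k))) }⟩

end General

section Gerbe

variable {𝒳 𝒴 : AlgSt.Cat S} (π : 𝒳 ⥤ᵇ 𝒴)

/-- Gerbes have local lifts of morphisms. -/
theorem hasLifts_of_locSurjHom (h₀ : FibCat.IsFibGrpd 𝒳.p) (h₁ : FibCat.IsFibGrpd 𝒴.p)
    (hloc : Gerb.LocSurjHom (QuotSh.J Scheme.fppfPrecoverage S) π) : HasLifts π h₀ := by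
  classical
  intro a' a _ _ b
  let f : 𝒳.p.obj a' ⟶ 𝒳.p.obj a := eqToHom (π.w_obj a').symm ≫ 𝒴.p.map b ≫ eqToHom (π.w_obj a)
  haveI hb : 𝒴.p.IsHomLift f b := IsHomLift.of_fac' 𝒴.p f b (π.w_obj a') (π.w_obj a) (by simp [f])
  obtain ⟨a₁, k, hk⟩ := h₀.exists_lift (x := a) f
  haveI := hk
  haveI : 𝒴.p.IsHomLift f (π.map k) := BasedFunctor.preserves_isHomLift π f k
  haveI := FC16.isStronglyCartesian h₁ f (π.map k)
  let b₀ : π.obj a' ⟶ π.obj a₁ := IsStronglyCartesian.map 𝒴.p f (π.map k) (g := 𝟙 _) (f' := f) (by simp) b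
  haveI : 𝒴.p.IsHomLift (𝟙 (𝒳.p.obj a')) b₀ := IsStronglyCartesian.map_isHomLift 𝒴.p _ _ _ _
  have hb₀ : b₀ ≫ π.map k = b := IsStronglyCartesian.fac 𝒴.p _ _ _ _
  obtain ⟨R, hR, hR'⟩ := hloc a' a₁ b₀ inferInstance
  obtain ⟨𝒰, h𝒰⟩ := (AlgSpace.mem_J_iff (U := 𝒳.p.obj a') R).1 hR
  have key : ∀ t : ↥(sch 𝒳 a'), ∃ (z : {z : 𝒳.obj // IsAffine (sch 𝒳 z)}) (ψ : z.1 ⟶ a') (φ : z.1 ⟶ a),
      Flat (bmap 𝒳 ψ) ∧ LocallyOfFinitePresentation (bmap 𝒳 ψ) ∧ t ∈ Set.range (bmap 𝒳 ψ) ∧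
        π.map ψ ≫ b = π.map φ := by
    intro t
    obtain ⟨i, s, hs⟩ := 𝒰.exists_eq t
    obtain ⟨x₀, φ, ψ, hφ, -, hφψ⟩ := hR' (AlgSpace.overArrow (𝒰.f i))
      ((AlgSpace.overEquiv_arrow R (𝒰.f i)).1 (h𝒰 i))
    have hf : Flat (𝒰.f i) ∧ LocallyOfFinitePresentation (𝒰.f i) := 𝒰.map_prop i
    haveI := hf.1
    haveI := hf.2
    have hdom : (Over.mk (𝒰.f i ≫ (𝒳.p.obj a').hom)) = 𝒳.p.obj x₀ := by
      haveI := hφ
      exact (IsHomLift.domain_eq 𝒳.p (AlgSpace.overArrow (𝒰.f i)) φ).symm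
    have hb : bmap 𝒳 φ = eqToHom (congrArg Over.left hdom).symm ≫ 𝒰.f i := by
      haveI := hφ
      have := IsHomLift.fac' 𝒳.p (AlgSpace.overArrow (𝒰.f i)) φ
      show (𝒳.p.map φ).left = _
      rw [this]
      simp
    obtain ⟨s', hs'⟩ := (eqToHom (congrArg Over.left hdom).symm).surjective s
    obtain ⟨W, hW, hsW, -⟩ := exists_isAffineOpen_mem_and_subset (X := sch 𝒳 x₀) (x := s') (U := ⊤) trivial
    obtain ⟨z, ν, hz, hi, hr⟩ := exists_piece h₀ x₀ hW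
    haveI := hi
    refine ⟨⟨z, hz⟩, ν ≫ φ, ν ≫ ψ ≫ k, ?_, ?_, ?_, ?_⟩
    · rw [bmap_comp, hb]; infer_instance
    · rw [bmap_comp, hb]; infer_instance
    · have : s' ∈ Set.range (bmap 𝒳 ν) := by
        rw [← Scheme.Hom.coe_opensRange, hr]
        exact hsW
      obtain ⟨q, rfl⟩ := this
      refine ⟨q, ?_⟩
      rw [bmap_comp, hb, Scheme.Hom.comp_apply, Scheme.Hom.comp_apply]
      exact (congrArg (𝒰.f i) hs').trans hs
    · rw [π.toFunctor.map_comp, π.toFunctor.map_comp, π.toFunctor.map_comp, ← hb₀, Category.assoc,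
        ← Category.assoc (π.map φ), hφψ]
  choose z ψ φ hfl hfp hmem he using key
  haveI := hfl
  haveI := hfp
  obtain ⟨s, hs⟩ := isCompact_univ.elim_finite_subcover (fun t => Set.range (bmap 𝒳 (ψ t)))
    (fun t => (bmap 𝒳 (ψ t)).isOpenMap.isOpen_range) fun t _ => Set.mem_iUnion.2 ⟨t, hmem t⟩
  let e := (Fintype.equivFin s).symm
  refine ⟨⟨_, fun k => z (e k).1, fun k => ψ (e k).1, fun k => hfl _, fun x => ?_⟩,
    fun k => ⟨φ (e k).1, he _⟩⟩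
  obtain ⟨t, hts, hx⟩ := Set.mem_iUnion₂.1 (hs (Set.mem_univ x))
  obtain ⟨k, hk⟩ := e.surjective ⟨t, hts⟩
  refine ⟨k, ?_⟩
  show x ∈ Set.range (bmap 𝒳 (ψ (e k).1))
  rw [hk]
  exact hx

variable {A : (Over S)ᵒᵖ ⥤ GrpCat.{u}} {ι : TwSh.BandHom 𝒳 A} {χ : A ⟶ TwSh.GmPsh S}

/-- Two morphisms with the same image differ by an element of the band. -/
theorem exists_band_of_map_eq (h₀ : FibCat.IsFibGrpd 𝒳.p)
    (hker : ∀ x : 𝒳.obj, (ι.hom x).range = (Gerb.autMap π x).ker) (h₁ : FibCat.IsFibGrpd 𝒴.p)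
    {z a : 𝒳.obj} (m m' : z ⟶ a) (e : π.map m = π.map m') :
    ∃ c : A.obj (op (𝒳.p.obj z)), m' = (ι.hom z c).hom.1 ≫ m := by
  have ew : 𝒳.p.map m = 𝒳.p.map m' := by
    have e₁ := Functor.congr_hom π.w m
    have e₂ := Functor.congr_hom π.w m'
    simp only [Functor.comp_map, e] at e₁ e₂
    exact (cancel_mono (eqToHom _)).1 ((cancel_epi (eqToHom _)).1 (e₁.symm.trans e₂))
  haveI : 𝒳.p.IsHomLift (𝒳.p.map m) m := IsHomLift.map _ _
  haveI : 𝒳.p.IsHomLift (𝒳.p.map m) m' := by rw [ew]; exact IsHomLift.map _ _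
  obtain ⟨δ, hδ, hδm⟩ := FC16.exists_iso_of_lifts h₀ (𝒳.p.map m) m' m
  haveI := hδ
  haveI : 𝒳.p.IsHomLift (𝟙 (𝒳.p.obj z)) δ.inv := IsHomLift.lift_id_inv 𝒳.p (𝒳.p.obj z) δ
  let α : Gerb.AutO z :=
    { hom := ⟨δ.hom, hδ⟩
      inv := ⟨δ.inv, inferInstance⟩
      hom_inv_id := Subtype.ext δ.hom_inv_id
      inv_hom_id := Subtype.ext δ.inv_hom_id }
  have hδ' : π.map δ.hom = 𝟙 _ := by
    haveI := hδ
    haveI : 𝒴.p.IsHomLift (𝟙 (𝒳.p.obj z)) (π.map δ.hom) := BasedFunctor.preserves_isHomLift π _ _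
    haveI := h₁.isStronglyCartesian (π.map m)
    haveI : 𝒴.p.IsHomLift (𝟙 (𝒴.p.obj (π.obj z))) (π.map δ.hom) := by
      rw [π.w_obj z]; infer_instance
    refine IsStronglyCartesian.ext 𝒴.p (𝒴.p.map (π.map m)) (π.map m) (𝟙 (𝒴.p.obj (π.obj z))) ?_
    rw [← π.toFunctor.map_comp, hδm, e, Category.id_comp]
  have hα : α ∈ (Gerb.autMap π z).ker := Iso.ext (Subtype.ext hδ')
  rw [← hker] at hα
  obtain ⟨c, hc⟩ := hα
  exact ⟨c, by rw [hc]; exact hδm.symm⟩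

end Gerbe

end Groth.Agent.StQC14
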