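import Groth.Agent.Lib.StQC14.GdDesc

/-!
# Morphisms of quasi-coherent modules from their maps on a covering class
-/

universe t w v u

open CategoryTheory CategoryTheory.Functor CategoryTheory.Limits AlgebraicGeometry Opposite

set_option linter.style.haveILetI false
set_option linter.unusedSectionVars false
set_option backward.isDefEq.respectTransparency false
set_option backward.isDefEq.respectTransparency.types false

namespace Groth.Agent.StQC14

open StMod

variable {S : Scheme.{u}} {ℬ : BasedCategory.{v, w} (Over S)} (B : Bas.{t} ℬ) {E G : Mod ℬ}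

/-- The values of a quasi-coherent module on the class. -/
noncomputable def Bas.restr (hG : isQCoh ℬ G) : BasMod B where
  N i := ModuleCat.of Γ(sch ℬ (B.o i), ⊤) Γ(G.obj (B.o i), ⊤)
  T b := secL G b
  T_id i x := G.mapTop_id (B.o i) x
  T_comp a b x := G.mapTop_comp a b x
  isBC b := isBC_secL b hG

theorem Bas.hom_ext (hE : isQCoh ℬ E) (hG : isQCoh ℬ G) {v v' : E ⟶ G}
    (h : ∀ (i : B.ι) (x : Γ(E.obj (B.o i), ⊤)), (v.app (B.o i)).app ⊤ x = (v'.app (B.o i)).app ⊤ x) : v = v' := by
  refine hom_ext_affine B.grpd hE hG fun η hη x => ?_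
  haveI := hη
  obtain ⟨C⟩ := exists_bcov (B := B) η
  refine eq_of_local (fun k => B.o (C.i k)) C.κ C.flat C.surj (f := fun k => secL G (C.κ k))
    (fun k => isBC_secL (C.κ k) hG) _ _ fun k => ?_
  rw [secL_apply, secL_apply, Mod.mapTop_app, Mod.mapTop_app]
  exact h _ _

/-- Compatible linear maps on the class come from a morphism. -/
theorem Bas.exists_hom (hE : isQCoh ℬ E) (hG : isQCoh ℬ G) (u : ∀ i : B.ι, Lin E G (B.o i))
    (hu : ∀ {i j : B.ι} (b : B.o i ⟶ B.o j) x, G.mapTop b (u j x) = u i (E.mapTop b x)) :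
    ∃ v : E ⟶ G, ∀ i x, (v.app (B.o i)).app ⊤ x = u i x := by
  let D := B.restr hG
  have hex : ∀ (η : ℬ.obj), IsAffine (sch ℬ η) → ∃ l : Lin E G η, ∀ (i : B.ι) [IsAffine (sch ℬ η)]
      (g : B.o i ⟶ η) (x : Γ(E.obj η, ⊤)), G.mapTop g (l x) = u i (E.mapTop g x) := by
    intro η hη
    obtain ⟨C⟩ := exists_bcov (B := B) η
    have key : ∀ x : Γ(E.obj η, ⊤), ∃ y : Γ(G.obj η, ⊤), ∀ k, G.mapTop (C.κ k) y = u _ (E.mapTop (C.κ k) x) :=
      fun x => D.exists_of_compat C (f := fun k => secL G (C.κ k)) (fun k => isBC_secL (C.κ k) hG)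
        (fun j k s a b e m => by
          show G.mapTop a (G.mapTop (C.κ j) m) = G.mapTop b (G.mapTop (C.κ k) m)
          rw [← G.mapTop_comp, ← G.mapTop_comp, e])
        (fun k => u _ (E.mapTop (C.κ k) x)) fun j k s a b e => by
          show G.mapTop a (u _ (E.mapTop (C.κ j) x)) = G.mapTop b (u _ (E.mapTop (C.κ k) x))
          rw [hu, hu, ← E.mapTop_comp, ← E.mapTop_comp, e]
    choose y hy using key
    have hinj : ∀ a b : Γ(G.obj η, ⊤), (∀ k, G.mapTop (C.κ k) a = G.mapTop (C.κ k) b) → a = b := fun a b h =>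
      eq_of_local (fun k => B.o (C.i k)) C.κ C.flat C.surj (f := fun k => secL G (C.κ k))
        (fun k => isBC_secL (C.κ k) hG) _ _ h
    refine ⟨{ toFun := y
              map_add' := fun a b => hinj _ _ fun k => ?_
              map_smul' := fun r a => hinj _ _ fun k => ?_ }, fun i _ g x => ?_⟩
    · rw [G.mapTop_add, hy, hy, hy, E.mapTop_add, _root_.map_add]
    · rw [RingHom.id_apply, G.mapTop_smul, hy, hy, E.mapTop_smul, _root_.map_smul]
    · refine D.eq_of_lifts C g fun k w a b e => ?_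
      show G.mapTop a (G.mapTop g (y x)) = G.mapTop a (u i (E.mapTop g x))
      rw [← G.mapTop_comp, e, G.mapTop_comp, hy, hu, hu, ← E.mapTop_comp, ← E.mapTop_comp, e]
  choose l hl using hex
  obtain ⟨v, hv⟩ := exists_hom_of_affine B.grpd hE hG l fun {η' η} h' h₀ φ x => by
    obtain ⟨C⟩ := exists_bcov (B := B) η'
    refine eq_of_local (fun k => B.o (C.i k)) C.κ C.flat C.surj (f := fun k => secL G (C.κ k))
      (fun k => isBC_secL (C.κ k) hG) _ _ fun k => ?_
    rw [secL_apply, secL_apply, ← G.mapTop_comp, hl η h₀, hl η' h', ← E.mapTop_comp]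
  refine ⟨v, fun i x => ?_⟩
  rw [hv _ (B.aff i)]
  have h := hl _ (B.aff i) i (𝟙 (B.o i)) x
  rwa [G.mapTop_id, E.mapTop_id] at h

end Groth.Agent.StQC14
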