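import Groth.Agent.Lib.StQC14.GdFam

/-!
# Sections of the module extended from a covering class, and base change
-/

universe t w v u

open CategoryTheory CategoryTheory.Functor CategoryTheory.Limits AlgebraicGeometry Opposite
open scoped TensorProduct

set_option linter.style.haveILetI false
set_option linter.unusedSectionVars false
set_option backward.isDefEq.respectTransparency false
set_option backward.isDefEq.respectTransparency.types false

namespace Groth.Agent.StQC14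

open StMod

variable {S : Scheme.{u}} {ℬ : BasedCategory.{v, w} (Over S)} {B : Bas.{t} ℬ} {D : BasMod B}
  {η η' η'' : ℬ.obj} {U : (sch ℬ η).Opens} {U' : (sch ℬ η').Opens} {U'' : (sch ℬ η'').Opens}

/-- Families are determined on affine pieces. -/
theorem GFam.ext_pieces {x y : GFam D η U}
    (h : ∀ (W : (sch ℬ η).Opens) (_ : IsAffineOpen W) (hW : W ≤ U) (η₀ : ℬ.obj) (φ : η₀ ⟶ η)
      (_ : IsAffine (sch ℬ η₀)) (_ : IsOpenImmersion (bmap ℬ φ)) (hr : (bmap ℬ φ).opensRange = W),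
        gMap φ ((le_preimage φ hr).trans ((bmap ℬ φ).preimage_mono hW)) x =
          gMap φ ((le_preimage φ hr).trans ((bmap ℬ φ).preimage_mono hW)) y) : x = y := by
  refine GFam.ext fun i g hU => ?_
  obtain ⟨C, hC⟩ := exists_bcov_le (B := B)
    (fun W : {W : (sch ℬ η).Opens // IsAffineOpen W ∧ W ≤ U} => bmap ℬ g ⁻¹ᵁ W.1) fun z => by
      obtain ⟨W, hW, hz, hle⟩ := exists_isAffineOpen_mem_and_subset (x := bmap ℬ g z) (U := U)
        (hU (Set.mem_univ z))
      exact ⟨⟨W, hW, hle⟩, hz⟩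
  refine D.eq_of_lifts C (𝟙 _) fun l w a b e => ?_
  rw [Category.comp_id] at e
  obtain ⟨⟨W, hWa, hWU⟩, hl⟩ := hC l
  have hagU : ⊤ ≤ bmap ℬ (C.κ l ≫ g) ⁻¹ᵁ W := top_le_comp rfl le_rfl hl
  obtain ⟨η₀, φ, hη₀, hi, hr⟩ := exists_piece B.grpd η hWa
  obtain ⟨m, hm⟩ := exists_piece_factor B.grpd (ψ := C.κ l ≫ g) (φ' := φ) (by
    rintro _ ⟨q, rfl⟩
    rw [← Scheme.Hom.coe_opensRange, hr]
    exact hagU (Set.mem_univ q))
  have he := h W hWa hWU η₀ φ hη₀ hi hr
  have h1 := congrArg (fun z : GFam D η₀ ⊤ => z.at (C.i l) m le_top) he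
  simp only [gMap_at] at h1
  rw [x.at_congr hm, y.at_congr hm] at h1
  have hU₁ : ⊤ ≤ bmap ℬ (C.κ l ≫ g) ⁻¹ᵁ U := top_le_comp rfl hU le_top
  rw [e, D.T_comp, D.T_comp, x.nat (C.κ l) g hU _ hU₁ rfl, y.nat (C.κ l) g hU _ hU₁ rfl]
  exact congrArg (D.T b) h1

variable (D) in
/-- Families form a small set. -/
instance small_gfam (η : ℬ.obj) (U : (sch ℬ η).Opens) : Small.{u} (GFam D η U) := by
  classical
  choose η₀ φ hη hi hr using fun W : {W : (sch ℬ η).Opens // IsAffineOpen W ∧ W ≤ U} =>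
    exists_piece B.grpd η W.2.1
  haveI := hη
  let C := fun W => (exists_bcov (B := B) (η₀ W)).some
  refine small_of_injective (f := fun (x : GFam D η U) (q : Σ W, Fin (C W).n) =>
    (x.at ((C q.1).i q.2) ((C q.1).κ q.2 ≫ φ q.1) (top_le_comp rfl
      ((haveI := hi q.1; le_preimage (φ q.1) (hr q.1)).trans ((bmap ℬ (φ q.1)).preimage_mono q.1.2.2)) le_top) :
        D.N ((C q.1).i q.2))) fun x y hxy => ?_
  refine GFam.ext_pieces fun W hWa hWU η₁ ψ _ _ hψ => ?_
  let W' : {W : (sch ℬ η).Opens // IsAffineOpen W ∧ W ≤ U} := ⟨W, hWa, hWU⟩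
  haveI := hi W'
  obtain ⟨m, hm⟩ := exists_piece_factor B.grpd (ψ := ψ) (φ' := φ W') (by
    rw [← Scheme.Hom.coe_opensRange, ← Scheme.Hom.coe_opensRange, hψ, hr W'])
  have hh : ⊤ ≤ bmap ℬ (φ W') ⁻¹ᵁ U := (le_preimage (φ W') (hr W')).trans ((bmap ℬ _).preimage_mono hWU)
  have he : gMap (φ W') hh x = gMap (φ W') hh y := GFam.ext_cover (C W') fun k => by
    rw [gMap_at, gMap_at]
    exact congrFun hxy ⟨W', k⟩
  rw [← gMap_comp m (φ W') hm hh le_top, ← gMap_comp m (φ W') hm hh le_top, he]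

variable (D) in
/-- The sections of the extended module. -/
abbrev GSec (η : ℬ.obj) (U : (sch ℬ η).Opens) : Type u := Shrink.{u} (GFam D η U)

/-- The family of a section. -/
noncomputable abbrev toG : GSec D η U ≃ₗ[Γ(sch ℬ η, U)] GFam D η U := Shrink.linearEquiv _ _

/-- Restriction of sections. -/
noncomputable def gsMap (φ : η' ⟶ η) (h : U' ≤ bmap ℬ φ ⁻¹ᵁ U) :
    GSec D η U →ₛₗ[((bmap ℬ φ).appLE U U' h).hom] GSec D η' U' where
  toFun a := toG.symm (gMap φ h (toG a))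
  map_add' a b := by rw [_root_.map_add, _root_.map_add, _root_.map_add]
  map_smul' c a := by rw [_root_.map_smul, LinearMap.map_smulₛₗ, _root_.map_smul]

theorem toG_gsMap (φ : η' ⟶ η) (h : U' ≤ bmap ℬ φ ⁻¹ᵁ U) (a : GSec D η U) :
    toG (gsMap φ h a) = gMap φ h (toG a) :=
  LinearEquiv.apply_symm_apply _ _

theorem gsMap_comp (ψ : η'' ⟶ η') (φ : η' ⟶ η) {j : η'' ⟶ η} (e : ψ ≫ φ = j)
    (h : U' ≤ bmap ℬ φ ⁻¹ᵁ U) (h' : U'' ≤ bmap ℬ ψ ⁻¹ᵁ U') (hj : U'' ≤ bmap ℬ j ⁻¹ᵁ U) (a : GSec D η U) :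
    gsMap ψ h' (gsMap φ h a) = gsMap j hj a :=
  toG.injective (by rw [toG_gsMap, toG_gsMap, toG_gsMap, gMap_comp ψ φ e h h' hj])

theorem gsMap_id (h : U ≤ bmap ℬ (𝟙 η) ⁻¹ᵁ U) (a : GSec D η U) : gsMap (𝟙 η) h a = a :=
  toG.injective (by rw [toG_gsMap, gMap_id])

section Affine

variable [IsAffine (sch ℬ η)]

/-- Restriction of global sections of affine objects. -/
noncomputable def gsT (φ : η' ⟶ η) : GSec D η ⊤ →ₛₗ[(bmap ℬ φ).appTop.hom] GSec D η' ⊤ where
  toFun a := gsMap φ le_top a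
  map_add' a b := _root_.map_add _ a b
  map_smul' c a := by
    refine (LinearMap.map_smulₛₗ _ c a).trans (congrArg (· • _) ?_)
    exact appLE_top (bmap ℬ φ) le_top c

/-- Evaluation of sections at a member. -/
noncomputable def gEv {i : B.ι} (g : B.o i ⟶ η) : GSec D η ⊤ →ₛₗ[(bmap ℬ g).appTop.hom] D.N i where
  toFun a := (toG a).at i g le_top
  map_add' a b := by rw [_root_.map_add, GFam.at_add]
  map_smul' c a := by
    rw [_root_.map_smul, GFam.at_smul]
    exact congrArg (· • _) (appLE_top (bmap ℬ g) le_top c)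

theorem gEv_apply {i : B.ι} (g : B.o i ⟶ η) (a : GSec D η ⊤) : gEv g a = (toG a).at i g le_top := rfl

theorem T_gEv {i j : B.ι} (b : B.o j ⟶ B.o i) (g : B.o i ⟶ η) (g' : B.o j ⟶ η) (e : b ≫ g = g') (a : GSec D η ⊤) :
    D.T b (gEv g a) = gEv g' a :=
  (toG a).nat b g le_top g' le_top e

theorem gEv_gsT [IsAffine (sch ℬ η')] {i : B.ι} (g : B.o i ⟶ η') (φ : η' ⟶ η) (a : GSec D η ⊤) :
    gEv g (gsT φ a) = gEv (g ≫ φ) a := by
  show (toG (gsMap φ _ a)).at i g le_top = _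
  rw [toG_gsMap, gMap_at]
  rfl

theorem gEv_ext (C : BCov B η) {a b : GSec D η ⊤} (h : ∀ k, gEv (C.κ k) a = gEv (C.κ k) b) : a = b :=
  toG.injective (GFam.ext_cover C h)

theorem BasMod.T_ev {z : ℬ.obj} [IsAffine (sch ℬ z)] {j k : B.ι} (πj : B.o j ⟶ z) (πk : B.o k ⟶ z) {s s' : B.ι}
    (u : B.o s ⟶ B.o j) (v : B.o s ⟶ B.o k) (e : u ≫ πj = v ≫ πk) (a : B.o s' ⟶ B.o s)
    {u' : B.o s' ⟶ B.o j} {v' : B.o s' ⟶ B.o k} (hu : a ≫ u = u') (hv : a ≫ v = v')
    (x : RA (bmap ℬ πj).appTop.hom ⊗[Γ(sch ℬ z, ⊤)] RS (bmap ℬ πk).appTop.hom (D.N k)) :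
    D.T a (D.ev πj πk u v e x) = D.ev πj πk u' v' (by rw [← hu, ← hv, Category.assoc, e, Category.assoc]) x := by
  induction x using TensorProduct.induction_on with
  | zero => simp
  | tmul b x =>
    refine (congrArg (D.T a) (D.ev_tmul πj πk u v e b (RS.val x))).trans ?_
    rw [LinearMap.map_smulₛₗ]
    refine Eq.trans ?_ (D.ev_tmul πj πk u' v' _ b (RS.val x)).symm
    exact congr_arg₂ (· • ·) (RingHom.congr_fun
      ((appTop_bmap_comp a u).trans (congrArg (fun m => (bmap ℬ m).appTop.hom) hu)) (RA.val b))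
      ((D.T_comp a v _).symm.trans (D.T_congr hv _))
  | add p q hp hq => simp only [_root_.map_add, hp, hq]

/-- Evaluation at a cover member is a base change. -/
theorem isBC_gEv_cov (C : BCov B η) (j : Fin C.n) : IsBC (gEv (D := D) (C.κ j)) := by
  classical
  choose ζ p₁ p₂ hζ hc sq using fun kl : Fin C.n × Fin C.n => exists_pullback B.grpd (C.κ kl.1) (C.κ kl.2)
  haveI := hζ
  let Z := fun kl => (exists_bcov (B := B) (ζ kl)).some
  -- the complex
  let A := Γ(sch ℬ η, ⊤)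
  let ρ : ∀ q : Σ kl, Fin (Z kl).n, B.o ((Z q.1).i q.2) ⟶ η := fun q => ((Z q.1).κ q.2 ≫ p₁ q.1) ≫ C.κ q.1.1
  have hρ : ∀ q : Σ kl, Fin (Z kl).n, ((Z q.1).κ q.2 ≫ p₂ q.1) ≫ C.κ q.1.2 = ρ q := fun q => by
    show _ = ((Z q.1).κ q.2 ≫ p₁ q.1) ≫ C.κ q.1.1
    rw [Category.assoc, Category.assoc, hc]
  let ι : GSec D η ⊤ →ₗ[A] ∀ k, RS (bmap ℬ (C.κ k)).appTop.hom (D.N (C.i k)) :=
    LinearMap.pi fun k =>
      { toFun := fun a => RS.mk (gEv (C.κ k) a)
        map_add' := fun a b => congrArg RS.mk ((gEv (C.κ k)).map_add a b)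
        map_smul' := fun c a => congrArg RS.mk ((gEv (C.κ k)).map_smulₛₗ c a) }
  let Q := ∀ k, RS (bmap ℬ (C.κ k)).appTop.hom (D.N (C.i k))
  let dd : Q →ₗ[A] ∀ q : Σ kl, Fin (Z kl).n, RS (bmap ℬ (ρ q)).appTop.hom (D.N ((Z q.1).i q.2)) :=
    LinearMap.pi fun q =>
      { toFun := fun x => RS.mk (D.T ((Z q.1).κ q.2 ≫ p₁ q.1) (RS.val (x q.1.1)) -
          D.T ((Z q.1).κ q.2 ≫ p₂ q.1) (RS.val (x q.1.2)))
        map_add' := fun x y => by
          refine (congrArg RS.mk ?_).trans (RS.mk.map_add _ _)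
          show D.T _ (RS.val (x q.1.1) + RS.val (y q.1.1)) - D.T _ (RS.val (x q.1.2) + RS.val (y q.1.2)) = _
          rw [_root_.map_add, _root_.map_add]
          abel
        map_smul' := fun c x => by
          rw [Pi.smul_apply, Pi.smul_apply, RS.val_smul, RS.val_smul, LinearMap.map_smulₛₗ, LinearMap.map_smulₛₗ,
            ← RingHom.comp_apply, ← RingHom.comp_apply, appTop_bmap_comp, appTop_bmap_comp, hρ, ← smul_sub]
          rfl }
  have hex : Function.Exact ι dd := fun x => by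
    constructor
    · intro hx
      obtain ⟨X, hX⟩ := exists_gfam D C (fun k => RS.val (x k)) fun k l s a b e => by
        obtain ⟨d, hd₁, hd₂⟩ := exists_factor_pullback B.grpd (hc (k, l)) (sq (k, l)) a b e
        refine D.eq_of_lifts (Z (k, l)) d fun m w a' b' e' => ?_
        have h0 : D.T ((Z (k, l)).κ m ≫ p₁ (k, l)) (RS.val (x k)) = D.T ((Z (k, l)).κ m ≫ p₂ (k, l)) (RS.val (x l)) :=
          sub_eq_zero.1 (congrArg RS.val (congrFun hx ⟨(k, l), m⟩))
        rw [← D.T_comp, ← D.T_comp, ← hd₁, ← hd₂, ← Category.assoc, ← Category.assoc, e', Category.assoc,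
          Category.assoc, D.T_comp b', D.T_comp b', h0]
      exact ⟨toG.symm X, funext fun k => congrArg RS.mk
        ((congrArg (fun z : GFam D η ⊤ => z.at (C.i k) (C.κ k) le_top) (LinearEquiv.apply_symm_apply toG X)).trans
          (hX k))⟩
    · rintro ⟨a, rfl⟩
      refine funext fun q => ?_
      show RS.mk (D.T ((Z q.1).κ q.2 ≫ p₁ q.1) (gEv (C.κ q.1.1) a) -
        D.T ((Z q.1).κ q.2 ≫ p₂ q.1) (gEv (C.κ q.1.2) a)) = 0
      rw [T_gEv _ _ (ρ q) rfl, T_gEv _ _ (ρ q) (hρ q), sub_self, _root_.map_zero]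
  have hinj : Function.Injective ι := fun a b e => gEv_ext C fun k => congrArg RS.val (congrFun e k)
  haveI : Module.Flat A (RA (bmap ℬ (C.κ j)).appTop.hom) := flat_RA (flat_appTop_cov C j)
  -- the key identity
  have key : ∀ (w : RA (bmap ℬ (C.κ j)).appTop.hom ⊗[A] GSec D η ⊤) (k : Fin C.n) (s : B.ι)
      (u : B.o s ⟶ B.o (C.i j)) (v : B.o s ⟶ B.o (C.i k)) (e : u ≫ C.κ j = v ≫ C.κ k),
      D.ev (C.κ j) (C.κ k) u v e (TensorProduct.piRight A A _ _
        (ι.lTensor (RA (bmap ℬ (C.κ j)).appTop.hom) w) k) = D.T u (lT (gEv (C.κ j)) w) := by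
    intro w k s u v e
    induction w using TensorProduct.induction_on with
    | zero => simp
    | tmul b a =>
      rw [LinearMap.lTensor_tmul, TensorProduct.piRight_apply, TensorProduct.piRightHom_tmul, lT_tmul,
        LinearMap.map_smulₛₗ, T_gEv _ _ _ e]
      refine (D.ev_tmul (C.κ j) (C.κ k) u v e b _).trans ?_
      exact congrArg (_ • ·) (T_gEv _ _ _ rfl a)
    | add a b ha hb => simp only [_root_.map_add, Pi.add_apply, ha, hb]
  refine IsBC.of_tensor _ (lT (gEv (C.κ j))) (fun b a => lT_tmul _ b a)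
    ⟨(injective_iff_map_eq_zero _).2 fun w hw => ?_, fun y => ?_⟩
  · refine Module.Flat.lTensor_preserves_injective_linearMap (M := RA (bmap ℬ (C.κ j)).appTop.hom) ι hinj ?_
    refine (TensorProduct.piRight A A _ _).injective (funext fun k => D.eq_of_ev (C.κ j) (C.κ k) fun s u v e => ?_)
    rw [key, hw]
    simp
  -- lift an element to the tensor product of the chart values
  have hΦ : ∀ k, ∃ z : RA (bmap ℬ (C.κ j)).appTop.hom ⊗[A] RS (bmap ℬ (C.κ k)).appTop.hom (D.N (C.i k)),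
      ∀ (s : B.ι) (u : B.o s ⟶ B.o (C.i j)) (v : B.o s ⟶ B.o (C.i k)) (e : u ≫ C.κ j = v ≫ C.κ k),
        D.ev (C.κ j) (C.κ k) u v e z = D.T u y := by
    intro k
    obtain ⟨E, ℓ, hℓ, hℓ', hE⟩ := D.exists_chart (C.κ j) (C.κ k) (hc (j, k)) (sq (j, k)) (Z (j, k))
    obtain ⟨p, hp⟩ := D.exists_of_compat (Z (j, k)) hℓ (fun m m' s a b e x => by
      refine (isBC_pullUnit _ _).semi_ext ?_
        ({ toFun := fun z => D.T a (ℓ m z)
           map_add' := fun z z' => by rw [_root_.map_add, _root_.map_add]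
           map_smul' := fun c z => by rw [LinearMap.map_smulₛₗ, LinearMap.map_smulₛₗ, ← RingHom.comp_apply] } :
          PullT (bmap ℬ (p₂ (j, k))).appTop.hom (D.N (C.i k)) →ₛₗ[(bmap ℬ a).appTop.hom.comp
            (bmap ℬ ((Z (j, k)).κ m)).appTop.hom] D.N s)
        ({ toFun := fun z => D.T b (ℓ m' z)
           map_add' := fun z z' => by rw [_root_.map_add, _root_.map_add]
           map_smul' := fun c z => by rw [LinearMap.map_smulₛₗ, LinearMap.map_smulₛₗ, ← RingHom.comp_apply] } :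
          PullT (bmap ℬ (p₂ (j, k))).appTop.hom (D.N (C.i k)) →ₛₗ[(bmap ℬ b).appTop.hom.comp
            (bmap ℬ ((Z (j, k)).κ m')).appTop.hom] D.N s) (fun z => ?_) x
      · rw [appTop_bmap_comp, appTop_bmap_comp, e]
      · show D.T a (ℓ m (pullUnit _ _ z)) = D.T b (ℓ m' (pullUnit _ _ z))
        rw [hℓ', hℓ', ← D.T_comp, ← D.T_comp, ← Category.assoc, e, Category.assoc])
      (fun m => D.T ((Z (j, k)).κ m ≫ p₁ (j, k)) y) fun m m' s a b e => by
        rw [← D.T_comp, ← D.T_comp, ← Category.assoc, e, Category.assoc]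
    refine ⟨E.symm p, fun s u v e => ?_⟩
    obtain ⟨d, hd₁, hd₂⟩ := exists_factor_pullback B.grpd (hc (j, k)) (sq (j, k)) u v e
    refine D.eq_of_lifts (Z (j, k)) d fun m w a b e' => ?_
    have hu : a ≫ u = b ≫ (Z (j, k)).κ m ≫ p₁ (j, k) := by rw [← hd₁, ← Category.assoc, e', Category.assoc]
    have hv : a ≫ v = b ≫ (Z (j, k)).κ m ≫ p₂ (j, k) := by rw [← hd₂, ← Category.assoc, e', Category.assoc]
    rw [D.T_ev (C.κ j) (C.κ k) u v e a hu hv, ← D.T_ev (C.κ j) (C.κ k) ((Z (j, k)).κ m ≫ p₁ (j, k))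
      ((Z (j, k)).κ m ≫ p₂ (j, k)) (by rw [Category.assoc, Category.assoc, hc (j, k)]) b rfl rfl, ← hE,
      E.apply_symm_apply, hp, ← D.T_comp, ← D.T_comp, hu]
  choose z hz using hΦ
  let Y := (TensorProduct.piRight A A _ _).symm z
  have hY : ∀ k, TensorProduct.piRight A A _ _ Y k = z k := fun k =>
    congrFun ((TensorProduct.piRight A A _ _).apply_symm_apply z) k
  have hd : dd.lTensor (RA (bmap ℬ (C.κ j)).appTop.hom) Y = 0 := by
    refine (TensorProduct.piRight A A _ _).injective (funext fun q => D.eq_of_ev (C.κ j) (ρ q) fun s u v e => ?_)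
    have e₁ : u ≫ C.κ j = (v ≫ (Z q.1).κ q.2 ≫ p₁ q.1) ≫ C.κ q.1.1 := by rw [e, Category.assoc]
    have e₂ : u ≫ C.κ j = (v ≫ (Z q.1).κ q.2 ≫ p₂ q.1) ≫ C.κ q.1.2 := by rw [e, Category.assoc, hρ]
    have hgen : ∀ Y', D.ev (C.κ j) (ρ q) u v e (TensorProduct.piRight A A _ _
        (dd.lTensor (RA (bmap ℬ (C.κ j)).appTop.hom) Y') q) =
        D.ev (C.κ j) (C.κ q.1.1) u _ e₁ (TensorProduct.piRight A A _ _ Y' q.1.1) -
          D.ev (C.κ j) (C.κ q.1.2) u _ e₂ (TensorProduct.piRight A A _ _ Y' q.1.2) := fun Y' => by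
      induction Y' using TensorProduct.induction_on with
      | zero => simp
      | tmul b x =>
        rw [LinearMap.lTensor_tmul, TensorProduct.piRight_apply, TensorProduct.piRightHom_tmul,
          TensorProduct.piRight_apply, TensorProduct.piRightHom_tmul]
        refine Eq.trans (D.ev_tmul (C.κ j) (ρ q) u v e b
          (D.T ((Z q.1).κ q.2 ≫ p₁ q.1) (RS.val (x q.1.1)) - D.T ((Z q.1).κ q.2 ≫ p₂ q.1) (RS.val (x q.1.2)))) ?_
        rw [_root_.map_sub, ← D.T_comp, ← D.T_comp, smul_sub]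
        exact congr_arg₂ (· - ·) (D.ev_tmul (C.κ j) (C.κ q.1.1) u _ e₁ b _).symm
          (D.ev_tmul (C.κ j) (C.κ q.1.2) u _ e₂ b _).symm
      | add a b ha hb =>
        simp only [_root_.map_add, Pi.add_apply, ha, hb]
        abel
    rw [hgen, hY, hY, hz, hz, sub_self]
    simp
  obtain ⟨w, hw⟩ := (Module.Flat.lTensor_exact (RA (bmap ℬ (C.κ j)).appTop.hom) hex Y).1 hd
  refine ⟨w, D.eq_of_lifts C (C.κ j) fun k s a b e => ?_⟩
  rw [← key w k s a b e, hw, hY, hz]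

/-- Evaluation at a member is a base change. -/
theorem isBC_gEv {i : B.ι} (g : B.o i ⟶ η) : IsBC (gEv (D := D) g) := by
  obtain ⟨C⟩ := exists_bcov (B := B) η
  obtain ⟨C', hC'⟩ := exists_bcov_over C g
  choose k b hb using hC'
  refine IsBC.of_cover _ (flat_appTop_cov C') (comap_appTop_cov C') (g := fun l => D.T (C'.κ l))
    (fun l => D.isBC _) (ρ := fun l => (bmap ℬ (C'.κ l ≫ g)).appTop.hom) (fun l => appTop_bmap_comp _ _)
    (h := fun l => gEv (C'.κ l ≫ g)) (fun l => ?_) fun l a => T_gEv _ _ _ rfl a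
  refine IsBC.comp ?_ (isBC_gEv_cov C (k l)) (D.isBC (b l)) fun a => T_gEv _ _ _ (hb l).symm a
  rw [appTop_bmap_comp, hb l]

/-- Restriction between affine objects is a base change. -/
theorem isBC_gsT [IsAffine (sch ℬ η')] (φ : η' ⟶ η) : IsBC (gsT (D := D) φ) := by
  obtain ⟨C⟩ := exists_bcov (B := B) η'
  exact IsBC.of_cover _ (flat_appTop_cov C) (comap_appTop_cov C) (g := fun l => gEv (C.κ l))
    (fun l => isBC_gEv _) (ρ := fun l => (bmap ℬ (C.κ l ≫ φ)).appTop.hom) (fun l => appTop_bmap_comp _ _)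
    (h := fun l => gEv (C.κ l ≫ φ)) (fun l => isBC_gEv _) fun l a => gEv_gsT _ φ a

/-- Evaluation of the sections of a member at itself is bijective. -/
theorem gEv_id_bijective (i : B.ι) : Function.Bijective (gEv (D := D) (𝟙 (B.o i))) := by
  refine ⟨fun a b e => gEv_ext (BCov.self i) fun _ => e, fun y => ?_⟩
  obtain ⟨X, hX⟩ := exists_gfam D (BCov.self i) (fun _ => y) fun j k s a b e => by
    have : a = b := (Category.comp_id a).symm.trans (e.trans (Category.comp_id b))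
    exact D.T_congr this _
  exact ⟨toG.symm X, by rw [gEv_apply, LinearEquiv.apply_symm_apply]; exact hX ⟨0, Nat.one_pos⟩⟩

end Affine

end Groth.Agent.StQC14
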