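import Groth.Agent.Lib.StQC14.GdGerbe
import Groth.Agent.Lib.FC16.Basic

/-!
# Twisted modules along a section of a banded gerbe
-/

universe u

open CategoryTheory CategoryTheory.Functor CategoryTheory.Limits AlgebraicGeometry Opposite

set_option linter.style.haveILetI false
set_option linter.unusedSectionVars false
set_option backward.isDefEq.respectTransparency false
set_option backward.isDefEq.respectTransparency.types false

namespace Groth.Agent.StQC14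

open StMod

variable {S : Scheme.{u}} {𝒳 𝒴 : AlgSt.Cat S} {A : (Over S)ᵒᵖ ⥤ GrpCat.{u}}

/-- A section of a banded gerbe, with the standing hypotheses. -/
structure Sec (π : 𝒳 ⥤ᵇ 𝒴) (ι : TwSh.BandHom 𝒳 A) where
  h₀ : FibCat.IsFibGrpd 𝒳.p
  h₁ : FibCat.IsFibGrpd 𝒴.p
  gerbe : TwSh.IsBandedGerbe (QuotSh.J Scheme.fppfPrecoverage S) π ι
  σ : 𝒴 ⥤ᵇ 𝒳
  e : BasedFunctor.comp σ π ≅ BasedFunctor.id 𝒴

variable {π : 𝒳 ⥤ᵇ 𝒴} {ι : TwSh.BandHom 𝒳 A} (D : Sec π ι)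

/-- The section composed with the projection is the identity. -/
noncomputable def Sec.iso (t : 𝒴.obj) : π.obj (D.σ.obj t) ≅ t := FC16.appIso D.e t

theorem Sec.iso_natural {t' t : 𝒴.obj} (m : t' ⟶ t) :
    π.map (D.σ.map m) = (D.iso t').hom ≫ m ≫ (D.iso t).inv := by
  rw [← Category.assoc, Iso.eq_comp_inv]
  exact D.e.hom.toNatTrans.naturality m

/-- The morphism of the base under a morphism between values of the section. -/
noncomputable def Sec.mOf {t' t : 𝒴.obj} (b : D.σ.obj t' ⟶ D.σ.obj t) : t' ⟶ t :=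
  (D.iso t').inv ≫ π.map b ≫ (D.iso t).hom

theorem Sec.π_map_mOf {t' t : 𝒴.obj} (b : D.σ.obj t' ⟶ D.σ.obj t) : π.map (D.σ.map (D.mOf b)) = π.map b := by
  rw [D.iso_natural]
  simp [Sec.mOf]

theorem Sec.mOf_eq {t' t : 𝒴.obj} {b : D.σ.obj t' ⟶ D.σ.obj t} {c : A.obj (op (𝒳.p.obj (D.σ.obj t')))}
    {m : t' ⟶ t} (e : b = (ι.hom _ c).hom.1 ≫ D.σ.map m) : D.mOf b = m := by
  rw [Sec.mOf, e, π.toFunctor.map_comp, D.gerbe.map_hom_eq_id, Category.id_comp, D.iso_natural]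
  simp

theorem Sec.exists_c {t' t : 𝒴.obj} (b : D.σ.obj t' ⟶ D.σ.obj t) :
    ∃ c : A.obj (op (𝒳.p.obj (D.σ.obj t'))), b = (ι.hom _ c).hom.1 ≫ D.σ.map (D.mOf b) :=
  exists_band_of_map_eq π D.h₀ (fun x => (D.gerbe.2 x).2) D.h₁ _ _ (D.π_map_mOf b)

theorem Sec.c_unique {t' t : 𝒴.obj} {c c' : A.obj (op (𝒳.p.obj (D.σ.obj t')))} (m : t' ⟶ t)
    (e : (ι.hom _ c).hom.1 ≫ D.σ.map m = (ι.hom _ c').hom.1 ≫ D.σ.map m) : c = c' := by
  refine (D.gerbe.2 _).1 (Iso.ext (Subtype.ext ?_))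
  haveI := (ι.hom _ c).hom.2
  haveI := (ι.hom _ c').hom.2
  haveI := D.h₀.isStronglyCartesian (D.σ.map m)
  exact IsStronglyCartesian.ext 𝒳.p (𝒳.p.map (D.σ.map m)) (D.σ.map m) (𝟙 _) e

/-- The band element of a morphism between values of the section. -/
noncomputable def Sec.cOf {t' t : 𝒴.obj} (b : D.σ.obj t' ⟶ D.σ.obj t) : A.obj (op (𝒳.p.obj (D.σ.obj t'))) :=
  (D.exists_c b).choose

theorem Sec.cOf_spec {t' t : 𝒴.obj} (b : D.σ.obj t' ⟶ D.σ.obj t) :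
    b = (ι.hom _ (D.cOf b)).hom.1 ≫ D.σ.map (D.mOf b) := (D.exists_c b).choose_spec

theorem Sec.cOf_eq {t' t : 𝒴.obj} {b : D.σ.obj t' ⟶ D.σ.obj t} {c : A.obj (op (𝒳.p.obj (D.σ.obj t')))}
    {m : t' ⟶ t} (e : b = (ι.hom _ c).hom.1 ≫ D.σ.map m) : D.cOf b = c := by
  have hm := D.mOf_eq e
  have h := D.cOf_spec b
  rw [hm] at h
  exact D.c_unique m (h.symm.trans e)

theorem Sec.bmap_eq {t' t : 𝒴.obj} (b : D.σ.obj t' ⟶ D.σ.obj t) :
    bmap 𝒳 b = bmap 𝒳 (D.σ.map (D.mOf b)) := by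
  conv_lhs => rw [D.cOf_spec b]
  rw [bmap_comp, TwSh.bmap_autO, Category.id_comp]

theorem Sec.lb_eq {t' t : 𝒴.obj} (b : D.σ.obj t' ⟶ D.σ.obj t) : lb D.σ b = bmap 𝒴 (D.mOf b) := by
  rw [← lb_map D.σ (D.mOf b), lb, lb, D.bmap_eq b]

variable (χ : A ⟶ TwSh.GmPsh S)

theorem twUnit_one (ξ : 𝒳.obj) : twUnit χ 1 ξ (1 : A.obj (op (𝒳.p.obj ξ))) = 1 := by
  simp [twUnit]

theorem twUnit_mul (ξ : 𝒳.obj) (a b : A.obj (op (𝒳.p.obj ξ))) :
    twUnit χ 1 ξ (a * b) = twUnit χ 1 ξ a * twUnit χ 1 ξ b := by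
  simp only [twUnit, zpow_one]
  rw [← Units.val_mul, ← mul_inv]
  exact congrArg (fun v => (v⁻¹).val) (map_mul (χ.app (op (𝒳.p.obj ξ))).hom a b)

theorem isUnit_twUnit (ξ : 𝒳.obj) (a : A.obj (op (𝒳.p.obj ξ))) : IsUnit (twUnit χ 1 ξ a) :=
  Units.isUnit _

/-- The scalar of a morphism between values of the section. -/
noncomputable def Sec.sc {t' t : 𝒴.obj} (b : D.σ.obj t' ⟶ D.σ.obj t) : Γ(sch 𝒴 t', ⊤) :=
  (eqR D.σ t').symm (twUnit χ 1 _ (D.cOf b))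

theorem Sec.sc_map {t' t : 𝒴.obj} (k : t' ⟶ t) : D.sc χ (D.σ.map k) = 1 := by
  have h : D.σ.map k = (ι.hom _ (1 : A.obj (op (𝒳.p.obj (D.σ.obj t'))))).hom.1 ≫ D.σ.map k := by
    rw [map_one]
    exact (Category.id_comp _).symm
  rw [Sec.sc, D.cOf_eq h, twUnit_one, map_one]

theorem Sec.mOf_map {t' t : 𝒴.obj} (k : t' ⟶ t) : D.mOf (D.σ.map k) = k := by
  refine D.mOf_eq (c := 1) ?_
  rw [map_one]
  exact (Category.id_comp _).symm

theorem Sec.comp_spec {t'' t' t : 𝒴.obj} (b' : D.σ.obj t'' ⟶ D.σ.obj t') (b : D.σ.obj t' ⟶ D.σ.obj t) :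
    b' ≫ b = (ι.hom _ (A.map (𝒳.p.map (D.σ.map (D.mOf b'))).op (D.cOf b) * D.cOf b')).hom.1 ≫
      D.σ.map (D.mOf b' ≫ D.mOf b) := by
  conv_lhs => rw [D.cOf_spec b', D.cOf_spec b]
  rw [map_mul, D.σ.toFunctor.map_comp, Category.assoc, ← Category.assoc (D.σ.map (D.mOf b')),
    ← ι.natural (D.σ.map (D.mOf b'))]
  simp only [← Category.assoc]
  rfl

theorem Sec.sc_comp {t'' t' t : 𝒴.obj} (b' : D.σ.obj t'' ⟶ D.σ.obj t') (b : D.σ.obj t' ⟶ D.σ.obj t) :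
    D.sc χ (b' ≫ b) = D.sc χ b' * (bmap 𝒴 (D.mOf b')).appTop.hom (D.sc χ b) := by
  have h := D.comp_spec b' b
  rw [Sec.sc, D.cOf_eq h, twUnit_mul, map_mul, mul_comm]
  refine congrArg (_ * ·) ?_
  rw [← appTop_twUnit, ← lb_map D.σ (D.mOf b'), Sec.sc]
  exact (lb_eqR (h := D.σ) (D.σ.map (D.mOf b')) _).symm

variable {χ}

/-- A module on the base with the transport of a twisted module. -/
noncomputable def Sec.tr {M : Mod 𝒴} (hM : isQCoh 𝒴 M) : Tr D.σ M where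
  T {t' t} _ _ b :=
    { toFun := fun x => D.sc χ b • M.mapTop (D.mOf b) x
      map_add' := fun x y => by rw [M.mapTop_add, smul_add]
      map_smul' := fun c x => by
        rw [M.mapTop_smul, smul_smul, mul_comm, ← smul_smul, D.lb_eq b] }
  T_map {t' t} _ _ k x := by
    show D.sc χ (D.σ.map k) • M.mapTop (D.mOf (D.σ.map k)) x = M.mapTop k x
    rw [D.sc_map, D.mOf_map, one_smul]
  T_comp {t'' t' t} _ _ _ b' b x := by
    show D.sc χ (b' ≫ b) • M.mapTop (D.mOf (b' ≫ b)) x =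
      D.sc χ b' • M.mapTop (D.mOf b') (D.sc χ b • M.mapTop (D.mOf b) x)
    rw [M.mapTop_smul, ← M.mapTop_comp, smul_smul, D.sc_comp, D.mOf_eq (D.comp_spec b' b)]
  isBC {t' t} _ _ b := by
    let m : Γ(M.obj t', ⊤) →ₗ[Γ(sch 𝒴 t', ⊤)] Γ(M.obj t', ⊤) := D.sc χ b • LinearMap.id
    have hu : IsUnit (D.sc χ b) := (isUnit_twUnit χ _ _).map (eqR D.σ t').symm
    have hm : Function.Bijective m := hu.smul_bijective
    exact IsBC.comp (σ := (bmap 𝒴 (D.mOf b)).appTop.hom) (τ := RingHom.id _)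
      ((RingHom.id_comp _).trans (congrArg (fun f => (Scheme.Hom.appTop f).hom) (D.lb_eq b)).symm)
      (isBC_secL (D.mOf b) hM) (isBC_of_bijective m hm) fun x => rfl

/-- On twisted modules the canonical transport is the twisted one. -/
theorem Sec.trQ_eq {E : Mod 𝒳} (hE : isQCoh 𝒳 E) (ht : TwSh.IsTwisted E ι χ 1) {t' t : 𝒴.obj}
    [IsAffine (sch 𝒴 t')] [IsAffine (sch 𝒴 t)] (b : D.σ.obj t' ⟶ D.σ.obj t)
    (x : Γ((Mod.comap D.σ E).obj t, ⊤)) :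
    (trQ D.σ E hE).T b x = D.sc χ b • (Mod.comap D.σ E).mapTop (D.mOf b) x := by
  apply (cl_bijective D.σ E t').1
  rw [cl_trQ, (cl D.σ E t').map_smulₛₗ]
  conv_lhs => rw [D.cOf_spec b, E.mapTop_comp]
  have h := ht _ (D.cOf b) ⊤ (E.mapTop (D.σ.map (D.mOf b)) (cl D.σ E t x))
  refine ((TwSh.inert_app_top E _ _ _).symm.trans h).trans ?_
  refine congr_arg₂ (· • ·) ?_ (castT_mapTop D.σ E (D.mOf b) x).symm
  refine Eq.trans ?_ ((eqR D.σ t').apply_symm_apply _).symm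
  show (sch 𝒳 (D.σ.obj t')).presheaf.map (𝟙 _) _ = _
  rw [CategoryTheory.Functor.map_id]
  rfl

theorem Sec.comm {E G : Mod 𝒳} (hE : isQCoh 𝒳 E) (hG : isQCoh 𝒳 G) (htE : TwSh.IsTwisted E ι χ 1)
    (htG : TwSh.IsTwisted G ι χ 1) (u : Mod.comap D.σ E ⟶ Mod.comap D.σ G) {t' t : 𝒴.obj}
    [IsAffine (sch 𝒴 t')] [IsAffine (sch 𝒴 t)] (b : D.σ.obj t' ⟶ D.σ.obj t)
    (x : Γ((Mod.comap D.σ E).obj t, ⊤)) :
    (u.app t').app ⊤ ((trQ D.σ E hE).T b x) = (trQ D.σ G hG).T b ((u.app t).app ⊤ x) := by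
  rw [D.trQ_eq hE htE, D.trQ_eq hG htG, Scheme.Modules.Hom.app_smul, Mod.mapTop_app]

theorem Sec.covBy : CovBy D.σ := by
  refine covBy_of_locSurjObj D.h₁ D.σ fun x => ?_
  let t := π.obj x
  have hwt : 𝒳.p.obj (D.σ.obj t) = 𝒳.p.obj x := (D.σ.w_obj t).trans (π.w_obj x)
  haveI hi : 𝒴.p.IsHomLift (𝟙 (𝒳.p.obj (D.σ.obj t))) (D.iso t).hom :=
    FC16.isHomLift_appIso_hom D.e t (D.σ.w_obj t).symm
  obtain ⟨R, hR, hR'⟩ := D.gerbe.1.2 (D.σ.obj t) x (D.iso t).hom hi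
  obtain ⟨R', hR₀, hR₀'⟩ : ∃ R' ∈ QuotSh.J Scheme.fppfPrecoverage S (𝒳.p.obj x),
      ∀ ⦃V : Over S⦄ (f : V ⟶ 𝒳.p.obj x), R' f → R (f ≫ eqToHom hwt.symm) := by
    refine ⟨R.pullback (eqToHom hwt.symm), GrothendieckTopology.pullback_stable _ _ hR, fun V f hf => hf⟩
  refine ⟨R', hR₀, fun V f hf => ?_⟩
  obtain ⟨x₀, φ, ψ, hφ, hψ, -⟩ := hR' _ (hR₀' f hf)
  haveI := hφ
  haveI := hψ
  obtain ⟨t', k, hk⟩ := D.h₁.exists_lift (x := t) (f ≫ eqToHom (π.w_obj x).symm)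
  haveI := hk
  haveI hσk : 𝒳.p.IsHomLift (f ≫ eqToHom hwt.symm) (D.σ.map k) := by
    haveI := BasedFunctor.preserves_isHomLift D.σ (f ≫ eqToHom (π.w_obj x).symm) k
    have e := IsHomLift.fac' 𝒳.p (f ≫ eqToHom (π.w_obj x).symm) (D.σ.map k)
    refine IsHomLift.of_fac' 𝒳.p _ _ (IsHomLift.domain_eq 𝒳.p (f ≫ eqToHom (π.w_obj x).symm) (D.σ.map k)) rfl ?_
    rw [e]
    simp
  obtain ⟨δ, hδ, -⟩ := FC16.exists_iso_of_lifts D.h₀ (f ≫ eqToHom hwt.symm) (D.σ.map k) φ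
  haveI := hδ
  refine ⟨t', δ.hom ≫ ψ, ?_⟩
  have e₁ := IsHomLift.fac' 𝒳.p (f ≫ eqToHom hwt.symm) ψ
  haveI : 𝒳.p.IsHomLift f ψ := IsHomLift.of_fac' 𝒳.p _ _ (IsHomLift.domain_eq 𝒳.p (f ≫ eqToHom hwt.symm) ψ) rfl
    (by rw [e₁]; simp)
  haveI : 𝒳.p.IsHomLift (𝟙 V ≫ f) (δ.hom ≫ ψ) := inferInstance
  simpa using (this : 𝒳.p.IsHomLift (𝟙 V ≫ f) (δ.hom ≫ ψ))

/-- Modules on the base give twisted modules. -/
theorem Sec.exists_twisted (M : QCoh 𝒴) :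
    ∃ G : QCoh 𝒳, TwSh.IsTwisted G.obj ι χ 1 ∧ Nonempty ((comapQ D.σ).obj G ≅ M) := by
  obtain ⟨G, e, he⟩ := exists_descended (h := D.σ) D.h₁ D.h₀ D.covBy M (D.tr (χ := χ) M.property)
  have key : ∀ (t : 𝒴.obj) [IsAffine (sch 𝒴 t)] (c : A.obj (op (𝒳.p.obj (D.σ.obj t))))
      (z : Γ(G.obj.obj (D.σ.obj t), ⊤)),
      G.obj.mapTop (ι.hom _ c).hom.1 z = twUnit χ 1 _ c • z := by
    intro t _ c z
    obtain ⟨x, rfl⟩ := (cl_bijective D.σ G.obj t).2 z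
    have hinj : Function.Injective fun x => (e.hom.hom.app t).app ⊤ x := fun x x' h => by
      have h' := congrArg (fun z => (e.inv.hom.app t).app ⊤ z) h
      have hid : ∀ x, (e.inv.hom.app t).app ⊤ ((e.hom.hom.app t).app ⊤ x) = x := fun x =>
        congr(((Mod.Hom.app (InducedCategory.Hom.hom $(e.hom_inv_id)) t).app ⊤) x)
      exact (hid x).symm.trans (h'.trans (hid x'))
    have hb : (ι.hom _ c).hom.1 = (ι.hom _ c).hom.1 ≫ D.σ.map (𝟙 t) := by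
      rw [D.σ.toFunctor.map_id]
      exact (Category.comp_id _).symm
    have h1 : (trQ D.σ G.obj G.property).T (ι.hom _ c).hom.1 x =
        (eqR D.σ t).symm (twUnit χ 1 _ c) • x := by
      refine hinj ((he (ι.hom _ c).hom.1 x).trans ?_)
      refine Eq.trans ?_ (Scheme.Modules.Hom.app_smul _ _ _).symm
      show D.sc χ (ι.hom _ c).hom.1 • M.obj.mapTop (D.mOf (ι.hom _ c).hom.1) _ = _
      rw [D.mOf_eq hb, M.obj.mapTop_id, Sec.sc, D.cOf_eq hb]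
    have h2 := congrArg (cl D.σ G.obj t) h1
    rw [cl_trQ, LinearMap.map_smulₛₗ] at h2
    exact h2.trans (congrArg (· • _) ((eqR D.σ t).apply_symm_apply _))
  refine ⟨G, ?_, ⟨e⟩⟩
  refine isTwisted_of_top D.h₀ G.property fun η hη a y => ?_
  haveI := hη
  let B := funBas D.σ D.h₀ D.covBy
  obtain ⟨C⟩ := exists_bcov (B := B) η
  haveI : ∀ k, IsAffine (sch 𝒴 (C.i k).1) := fun k => (C.i k).2
  haveI : ∀ k, IsAffine (sch 𝒳 (D.σ.obj (C.i k).1)) := fun k => isAffine_map D.σ (C.i k).1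
  refine eq_of_local (fun k => D.σ.obj (C.i k).1) C.κ C.flat C.surj (f := fun k => secL G.obj (C.κ k))
    (fun k => isBC_secL (C.κ k) G.property) _ _ fun k => ?_
  rw [secL_apply, secL_apply, mapTop_natural, G.obj.mapTop_smul, appTop_twUnit]
  exact key (C.i k).1 _ _

end Groth.Agent.StQC14
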