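import Groth.Agent.Lib.StQC14.Desc2
import Groth.Agent.Lib.StQC14.HomG

/-!
# Generation composes
-/

universe t' t w' v' w v u

open CategoryTheory CategoryTheory.Functor CategoryTheory.Limits AlgebraicGeometry Opposite

set_option linter.style.haveILetI false
set_option linter.unusedSectionVars false
set_option backward.isDefEq.respectTransparency false
set_option backward.isDefEq.respectTransparency.types false

namespace Groth.Agent.StQC14

open StMod

variable {S : Scheme.{u}} {𝒳 : BasedCategory.{v, w} (Over S)} {𝒴 : BasedCategory.{v', w'} (Over S)}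
  (h : 𝒳 ⥤ᵇ 𝒴) (F : Mod 𝒴) (E M : QCoh 𝒳)

/-- Compatible pairings of the sections of a module on the target with those of one on the source. -/
structure BData where
  β : ∀ (x : 𝒳.obj) [IsAffine (sch 𝒳 x)], Γ(F.obj (h.obj x), ⊤) → Lin E.obj M.obj x
  add : ∀ (x : 𝒳.obj) [IsAffine (sch 𝒳 x)] f g, β x (f + g) = β x f + β x g
  smul : ∀ (x : 𝒳.obj) [IsAffine (sch 𝒳 x)] (c : Γ(sch 𝒴 (h.obj x), ⊤)) f,
    β x (c • f) = (st h (𝟙 (h.obj x))).appTop c • β x f
  nat : ∀ {x' x : 𝒳.obj} [IsAffine (sch 𝒳 x')] [IsAffine (sch 𝒳 x)] (k : x' ⟶ x) f,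
    push E.property k (β x f) = β x' (F.mapTop (h.map k) f)

variable {h F E M}

/-- Composing homomorphisms with a morphism. -/
noncomputable def hPost {N : QCoh 𝒳} (u : M ⟶ N) (y : 𝒴.obj) : HFam E M h y →ₗ[Γ(sch 𝒴 y, ⊤)] HFam E N h y where
  toFun l := ⟨fun T => (show Lin E.obj N.obj T.x from (appL u.hom T.x).comp (show Lin E.obj M.obj T.x from l.1 T)),
    fun T T' k e => by
      refine (eq_push (G := N.obj) E.property k _ _ fun z => ?_).symm
      show (u.hom.app T'.x).app ⊤ ((show Lin E.obj M.obj T'.x from l.1 T') (E.obj.mapTop k z)) =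
        N.obj.mapTop k ((u.hom.app T.x).app ⊤ ((show Lin E.obj M.obj T.x from l.1 T) z))
      rw [← l.nat T T' k e, push_spec, ← Mod.mapTop_app]⟩
  map_add' a b := HFam.ext fun T => LinearMap.comp_add _ _ _
  map_smul' c a := HFam.ext fun T => LinearMap.comp_smul _ _ _

theorem hPost_apply {N : QCoh 𝒳} (u : M ⟶ N) {y : 𝒴.obj} (l : HFam E M h y) (T : HTst h y) (z : Γ(E.obj.obj T.x, ⊤)) :
    (show Lin E.obj N.obj T.x from (hPost u y l).1 T) z =
      (u.hom.app T.x).app ⊤ ((show Lin E.obj M.obj T.x from l.1 T) z) := rfl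

section Descent

variable (D : HData h) (P : FPres 𝒴) (hE : E.obj.IsFinPres) {N : QCoh 𝒳} (u : M ⟶ N)

/-- The map of data induced by a morphism. -/
noncomputable def uG (z : 𝒴.obj) [IsAffine (sch 𝒴 z)] :
    (homG (M := M) D hE).G z →ₗ[Γ(sch 𝒴 z, ⊤)] (homG (M := N) D hE).G z :=
  (gFam D hE z).symm.toLinearMap ∘ₗ hPost u z ∘ₗ (gFam D hE z).toLinearMap

theorem gFam_uG (z : 𝒴.obj) [IsAffine (sch 𝒴 z)] (a : (homG (M := M) D hE).G z) :
    gFam D hE z (uG D hE u z a) = hPost u z (gFam D hE z a) :=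
  LinearEquiv.apply_symm_apply _ _

theorem res_uG {z' z : 𝒴.obj} [IsAffine (sch 𝒴 z')] [IsAffine (sch 𝒴 z)] (φ : z' ⟶ z)
    (a : (homG (M := M) D hE).G z) :
    (homG (M := N) D hE).res φ (uG D hE u z a) = uG D hE u z' ((homG (M := M) D hE).res φ a) := by
  refine (gFam D hE z').injective ?_
  rw [gFam_uG, gFam_res, gFam_res, gFam_uG]
  rfl

/-- The descended morphism. -/
theorem exists_descHom : ∃ w : desc P (homG (M := M) D hE) ⟶ desc P (homG (M := N) D hE),
    ∀ (z : 𝒴.obj) [IsAffine (sch 𝒴 z)] (a : SFam P (homG (M := M) D hE) z ⊤),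
      eG P (homG (M := N) D hE) z ((w.app z).app ⊤ a) = uG D hE u z (eG P (homG (M := M) D hE) z a) := by
  let FM := homG (M := M) D hE
  let FN := homG (M := N) D hE
  have hM : isQCoh 𝒴 (desc P FM) := (descQ P FM).property
  have hN : isQCoh 𝒴 (desc P FN) := (descQ P FN).property
  let eb : SFam P FN P.b ⊤ ≃ₗ[Γ(sch 𝒴 P.b, ⊤)] FN.G P.b := LinearEquiv.ofBijective _ eG_bijective_chart
  let ψ₀ : SFam P FM P.b ⊤ →ₗ[Γ(sch 𝒴 P.b, ⊤)] SFam P FN P.b ⊤ :=
    eb.symm.toLinearMap ∘ₗ uG D hE u P.b ∘ₗ eG P FM P.b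
  let ψ : Lin (desc P FM) (desc P FN) P.b :=
    { toFun := fun a => ψ₀ a, map_add' := fun a b => ψ₀.map_add a b, map_smul' := fun c a => ψ₀.map_smul c a }
  have hψ : ∀ a, eG P FN P.b (ψ a) = uG D hE u P.b (eG P FM P.b a) := fun a => eb.apply_symm_apply _
  have key : ∀ {z : 𝒴.obj} [IsAffine (sch 𝒴 z)] (r : z ⟶ P.b) (l : Lin (desc P FM) (desc P FN) z),
      (∀ a, l ((desc P FM).mapTop r a) = (desc P FN).mapTop r (ψ a)) →
      ∀ a, eG P FN z (l a) = uG D hE u z (eG P FM z a) := by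
    intro z _ r l hl a
    let g₁ : Γ((desc P FM).obj z, ⊤) →ₗ[Γ(sch 𝒴 z, ⊤)] FN.G z :=
      { toFun := fun a => eG P FN z (l a)
        map_add' := fun a b => (congrArg (eG P FN z) (l.map_add a b)).trans ((eG P FN z).map_add _ _)
        map_smul' := fun c a => (congrArg (eG P FN z) (l.map_smul c a)).trans ((eG P FN z).map_smul _ _) }
    let g₂ : Γ((desc P FM).obj z, ⊤) →ₗ[Γ(sch 𝒴 z, ⊤)] FN.G z :=
      { toFun := fun a => uG D hE u z (eG P FM z a)
        map_add' := fun a b => (congrArg (uG D hE u z) ((eG P FM z).map_add a b)).trans ((uG D hE u z).map_add _ _)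
        map_smul' := fun c a =>
          (congrArg (uG D hE u z) ((eG P FM z).map_smul c a)).trans ((uG D hE u z).map_smul _ _) }
    refine LinearMap.congr_fun ((isBC_secL r hM).ext g₁ g₂ fun a₀ => ?_) a
    show eG P FN z (l ((desc P FM).mapTop r a₀)) = uG D hE u z (eG P FM z (sT r a₀))
    rw [hl, eG_sT, ← res_uG, ← hψ]
    exact eG_sT r _
  obtain ⟨w, hw⟩ := P.toPres.exists_hom P.grpd hM hN ψ (by
    refine LinearMap.ext fun a => (eG_bijective P.p P.flat_p).1 ?_
    rw [key P.p _ (fun a => push_spec hM P.p ψ a) a]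
    exact (key P.q _ (fun a => push_spec hM P.q ψ a) a).symm)
  refine ⟨w, fun z _ a => eG_unique (P := P) fun {z'} _ k r => ?_⟩
  have hk := key (z := z') r (appL w z') (fun a₀ => (Mod.mapTop_app w r a₀).symm.trans (by rw [hw]))
    ((desc P FM).mapTop k a)
  rw [res_uG, ← eG_sT k a, ← eG_sT k]
  refine Eq.trans (congrArg (eG P FN z') ?_) hk
  exact Mod.mapTop_app w k a

/-- The pairing of a morphism to the descended module. -/
noncomputable def bdata (φ : F ⟶ desc P (homG (M := M) D hE)) : BData h F E M where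
  β x _ f :=
    haveI := isAffine_map h x
    (gFam D hE (h.obj x) (eG P (homG (M := M) D hE) (h.obj x) ((φ.app (h.obj x)).app ⊤ f))).1 ⟨x, 𝟙 (h.obj x)⟩
  add x _ f g := by
    haveI := isAffine_map h x
    let L := (gFam (M := M) D hE (h.obj x)).toLinearMap ∘ₗ eG P (homG (M := M) D hE) (h.obj x)
    show (L ((φ.app (h.obj x)).app ⊤ (f + g))).1 ⟨x, 𝟙 (h.obj x)⟩ =
      (L ((φ.app (h.obj x)).app ⊤ f)).1 ⟨x, 𝟙 (h.obj x)⟩ + (L ((φ.app (h.obj x)).app ⊤ g)).1 ⟨x, 𝟙 (h.obj x)⟩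
    erw [_root_.map_add ((φ.app (h.obj x)).app ⊤).hom f g, _root_.map_add L]
    rfl
  smul x _ c f := by
    haveI := isAffine_map h x
    let L := (gFam (M := M) D hE (h.obj x)).toLinearMap ∘ₗ eG P (homG (M := M) D hE) (h.obj x)
    show (show Lin E.obj M.obj x from (L ((φ.app (h.obj x)).app ⊤ (c • f))).1 ⟨x, 𝟙 (h.obj x)⟩) =
      (st h (𝟙 (h.obj x))).appTop c • (show Lin E.obj M.obj x from (L ((φ.app (h.obj x)).app ⊤ f)).1 ⟨x, 𝟙 (h.obj x)⟩)
    erw [Scheme.Modules.Hom.app_smul (φ.app (h.obj x)) c f, _root_.map_smul L]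
    rfl
  nat {x' x} _ _ k f := by
    haveI := isAffine_map h x
    haveI := isAffine_map h x'
    rw [← Mod.mapTop_app]
    show push E.property k _ =
      (gFam D hE (h.obj x') (eG P (homG (M := M) D hE) (h.obj x') (sT (h.map k) ((φ.app (h.obj x)).app ⊤ f)))).1 ⟨x', 𝟙 (h.obj x')⟩
    rw [eG_sT, gFam_res, hMap_apply]
    refine (HFam.nat _ ⟨x, 𝟙 (h.obj x)⟩ ⟨x', h.map k⟩ k (Category.comp_id _)).trans ?_
    exact HFam.congr _ (Category.id_comp _).symm

theorem bdata_apply (φ : F ⟶ desc P (homG (M := M) D hE)) (x : 𝒳.obj) [IsAffine (sch 𝒳 x)]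
    [IsAffine (sch 𝒴 (h.obj x))] (f : Γ(F.obj (h.obj x), ⊤)) :
    (bdata D P hE φ).β x f =
      (gFam D hE (h.obj x) (eG P (homG (M := M) D hE) (h.obj x) ((φ.app (h.obj x)).app ⊤ f))).1 ⟨x, 𝟙 (h.obj x)⟩ :=
  rfl

include D hE in
/-- A morphism killing all pairings kills all homomorphisms on the chart. -/
theorem hPost_eq_zero {κ : Type t'} (G : κ → QCoh 𝒴) (hG : IsGenFam G)
    (hu : ∀ (j : κ) (B : BData h (G j).obj E M) (x : 𝒳.obj) [IsAffine (sch 𝒳 x)] f z,
      (u.hom.app x).app ⊤ (B.β x f z) = 0) : ∀ l : HFam E M h P.b, hPost u P.b l = 0 := by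
  obtain ⟨w, hw⟩ := exists_descHom D P hE u
  have hM : isQCoh 𝒴 (desc P (homG (M := M) D hE)) := (descQ P _).property
  have hN : isQCoh 𝒴 (desc P (homG (M := N) D hE)) := (descQ P _).property
  have hkill : ∀ (j : κ) (φ : (G j).obj ⟶ desc P (homG (M := M) D hE)), φ ≫ w = 0 := by
    intro j φ
    refine P.toPres.eq_zero P.grpd (G j).property hN _ fun f => ?_
    refine eG_bijective_chart.1 (Eq.trans ?_ (_root_.map_zero (eG P (homG (M := N) D hE) P.b)).symm)
    show eG P (homG (M := N) D hE) P.b ((w.app P.b).app ⊤ ((φ.app P.b).app ⊤ f)) = 0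
    refine (gFam D hE P.b).injective (Eq.trans ?_ (_root_.map_zero _).symm)
    refine HFam.ext fun T => ?_
    haveI := isAffine_map h T.x
    have e₁ := congrArg (fun c => (gFam D hE (h.obj T.x) c).1 ⟨T.x, 𝟙 _⟩)
      (eG_sT (P := P) (F := homG (M := N) D hE) T.α ((w.app P.b).app ⊤ ((φ.app P.b).app ⊤ f)))
    simp only [gFam_res, hMap_apply] at e₁
    refine ((HFam.congr _ (Category.id_comp T.α)).symm.trans e₁.symm).trans ?_
    have e₂ : (sT T.α ((w.app P.b).app ⊤ ((φ.app P.b).app ⊤ f)) : SFam P (homG (M := N) D hE) (h.obj T.x) ⊤) =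
        (w.app (h.obj T.x)).app ⊤ ((φ.app (h.obj T.x)).app ⊤ ((G j).obj.mapTop T.α f)) :=
      ((Mod.mapTop_app w T.α _).trans (congrArg ((w.app (h.obj T.x)).app ⊤) (Mod.mapTop_app φ T.α f)))
    rw [e₂, hw, gFam_uG]
    exact LinearMap.ext fun z => hu j (bdata D P hE φ) T.x _ z
  have h0 : (ObjectProperty.homMk w : descQ P (homG (M := M) D hE) ⟶ descQ P (homG (M := N) D hE)) = 0 :=
    (isGenFam_iff _).1 hG _ hkill
  intro l
  obtain ⟨a, ha⟩ := (eG_bijective_chart (P := P) (F := homG (M := M) D hE)).2 ((gFam D hE P.b).symm l)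
  have := hw P.b a
  have hw0 : w = 0 :=
    congrArg (fun v : descQ P (homG (M := M) D hE) ⟶ descQ P (homG (M := N) D hE) => v.hom) h0
  rw [ha, hw0] at this
  have h2 := congrArg (gFam D hE P.b) this
  rw [gFam_uG, LinearEquiv.apply_symm_apply] at h2
  rw [← h2]
  show gFam D hE P.b (eG P (homG (M := N) D hE) P.b (0 : SFam P (homG (M := N) D hE) P.b ⊤)) = 0
  rw [_root_.map_zero, _root_.map_zero]

end Descent

/-- Generation over the target and along the fibres gives generation on the source. -/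
theorem eq_zero_of_pairings {N : QCoh 𝒳} (u : M ⟶ N) {ι : Type t} (E : ι → QCoh 𝒳) (hE : ∀ i, (E i).obj.IsFinPres)
    (hgenE : IsRelGenFam h E) {κ : Type t'} (G : κ → QCoh 𝒴) (hG : IsGenFam G)
    (hu : ∀ (i : ι) (j : κ) (B : BData h (G j).obj (E i) M) (x : 𝒳.obj) [IsAffine (sch 𝒳 x)] f z,
      (u.hom.app x).app ⊤ (B.β x f z) = 0) (D : HData h) (P : FPres 𝒴) : u = 0 := by
  have hb : (comapQ (fibFst h P.b)).map u = 0 := by
    refine (isGenFam_iff _).1 (hgenE P.b P.affine_b) _ fun i φ => ?_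
    have hEi := isQCoh_comap (f := fibFst h P.b) (E i).property
    let xT : HTst h P.b → (fibCat h P.b).obj := fun T => CostructuredArrow.mk (S := h.toFunctor) T.α
    let l : HFam (E i) M h P.b := ⟨fun T => (show Lin (E i).obj M.obj T.x from appL φ (xT T)), fun T T' k e => by
      haveI : IsAffine (sch (fibCat h P.b) (xT T)) := T.aff
      haveI : IsAffine (sch (fibCat h P.b) (xT T')) := T'.aff
      haveI : IsAffine (sch 𝒳 (xT T).left) := T.aff
      haveI : IsAffine (sch 𝒳 (xT T').left) := T'.aff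
      let m : xT T' ⟶ xT T := CostructuredArrow.homMk k e
      exact (push_comap_fibFst m _ hEi).symm.trans (push_appL hEi m φ)⟩
    have hl := hPost_eq_zero D P (hE i) u G hG (hu i) l
    refine hom_ext_affine (fibCat_isFibGrpd D.grpdX h P.b) hEi (isQCoh_comap (f := fibFst h P.b) N.property)
      fun x hx z => ?_
    rw [Mod.zero_app]
    haveI : IsAffine (sch 𝒳 x.left) := hx
    exact congrArg (fun l' : HFam (E i) N h P.b => (show Lin (E i).obj N.obj x.left from l'.1 ⟨x.left, x.hom⟩) z) hl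
  refine InducedCategory.hom_ext (hom_ext_affine D.grpdX M.property N.property fun x hx z => ?_)
  show (u.hom.app x).app ⊤ z = ((0 : M.obj ⟶ N.obj).app x).app ⊤ z
  rw [Mod.zero_app]
  show (u.hom.app x).app ⊤ z = 0
  haveI := isAffine_map h x
  obtain ⟨y', hy', π, hπ, ⟨r⟩⟩ := P.cover (h.obj x)
  haveI := hy'; haveI := hπ.1; haveI := hπ.2
  obtain ⟨x', φ, e, he⟩ := exists_lift_to D.grpdX x (bmap 𝒴 π ≫ eqToHom (sch_obj_eq h x))
  haveI : IsAffine (sch 𝒳 x') := IsAffine.of_isIso e.hom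
  obtain ⟨α, hα, -⟩ := exists_factor D.grpdY π (h.map φ) (eqToHom (sch_obj_eq h x') ≫ e.hom) (by
    rw [bmap_mapB h φ, he]
    simp)
  haveI : Flat (bmap 𝒳 φ) := by rw [he]; infer_instance
  haveI : Surjective (bmap 𝒳 φ) := by rw [he]; infer_instance
  refine (isBC_secL φ N.property).injective (flat_appTop _) (surjective_comap_appTop _) ?_
  rw [secL_apply, secL_apply, Mod.mapTop_app, N.obj.mapTop_zero]
  exact congr(((($hb).hom).app (CostructuredArrow.mk (S := h.toFunctor) (α ≫ r))).app ⊤ _)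

end Groth.Agent.StQC14
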