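import Groth.Agent.Lib.StQC14.Sect
import Groth.Agent.Lib.VeryAmple11.ModHom
import Groth.Agent.Lib.ModLimH13.Hom1

/-!
# Morphisms of modules on a category fibred in groupoids from their maps on affine objects
-/

universe w v u

open CategoryTheory CategoryTheory.Functor CategoryTheory.Limits AlgebraicGeometry Opposite TensorProduct

set_option linter.style.haveILetI false
set_option linter.unusedSectionVars false
set_option backward.isDefEq.respectTransparency false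
set_option backward.isDefEq.respectTransparency.types false

namespace Groth.Agent.StQC14

open StMod

variable {S : Scheme.{u}} {𝒳 : BasedCategory.{v, w} (Over S)}

theorem IsBC.bijective {A B : Type u} [CommRing A] [CommRing B] {σ : A →+* B} {M N : Type u} [AddCommGroup M]
    [Module A M] [AddCommGroup N] [Module B N] {f : M →ₛₗ[σ] N} (h : IsBC f) (hσ : Function.Bijective σ) :
    Function.Bijective f := by
  letI := σ.toAlgebra
  letI := Module.compHom N σ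
  haveI : IsScalarTower A B N := IsScalarTower.of_algebraMap_smul fun _ _ => rfl
  let e : M ≃ₗ[A] B ⊗[A] M :=
    (TensorProduct.lid A M).symm ≪≫ₗ LinearEquiv.rTensor M (LinearEquiv.ofBijective (Algebra.linearMap A B) hσ)
  have he : ∀ x, f x = h.equiv (e x) := fun x => by
    show f x = h.equiv ((algebraMap A B 1) ⊗ₜ x)
    rw [map_one, IsBaseChange.equiv_tmul, one_smul]
    rfl
  rw [show (f : M → N) = h.equiv ∘ e from funext he]
  exact h.equiv.bijective.comp e.bijective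

/-- An open affine piece of an object. -/
theorem exists_piece (h : FibCat.IsFibGrpd 𝒳.p) (ξ : 𝒳.obj) {W : (sch 𝒳 ξ).Opens} (hW : IsAffineOpen W) :
    ∃ (η : 𝒳.obj) (φ : η ⟶ ξ) (_ : IsAffine (sch 𝒳 η)) (_ : IsOpenImmersion (bmap 𝒳 φ)),
      (bmap 𝒳 φ).opensRange = W := by
  obtain ⟨η, φ, e, he⟩ := exists_lift_to h ξ W.ι
  haveI : IsAffine W.toScheme := hW
  haveI := IsAffine.of_isIso e.hom
  have hi : IsOpenImmersion (bmap 𝒳 φ) := by rw [he]; infer_instance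
  refine ⟨η, φ, inferInstance, hi, ?_⟩
  apply TopologicalSpace.Opens.ext
  show Set.range (bmap 𝒳 φ) = _
  rw [he]
  show Set.range (W.ι ∘ e.hom) = _
  rw [Set.range_comp, show Set.range e.hom = Set.univ from Set.range_eq_univ.2 e.hom.surjective, Set.image_univ,
    Scheme.Opens.range_ι]

variable {F G : Mod 𝒳}

section Piece

variable {η ξ : 𝒳.obj} {W : (sch 𝒳 ξ).Opens} (φ : η ⟶ ξ)

theorem le_preimage [IsOpenImmersion (bmap 𝒳 φ)] (hW : (bmap 𝒳 φ).opensRange = W) : ⊤ ≤ bmap 𝒳 φ ⁻¹ᵁ W := by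
  subst hW
  exact (Scheme.Hom.preimage_opensRange _).ge

/-- Sections over an affine open are the global sections of its piece. -/
theorem bijective_resL (hF : isQCoh 𝒳 F) [IsAffine (sch 𝒳 η)] [IsOpenImmersion (bmap 𝒳 φ)]
    (hWa : IsAffineOpen W) (hW : (bmap 𝒳 φ).opensRange = W) :
    Function.Bijective (resL F φ W (le_preimage φ hW)) := by
  refine (isBC_resL φ hF hWa (le_preimage φ hW)).bijective ?_
  haveI : IsIso ((bmap 𝒳 φ).appLE W ⊤ (le_preimage φ hW)) := by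
    subst hW
    haveI := (bmap 𝒳 φ).isIso_app (bmap 𝒳 φ).opensRange le_rfl
    rw [Scheme.Hom.appLE]
    haveI : IsIso ((sch 𝒳 η).presheaf.map (homOfLE (le_preimage φ rfl)).op) := by
      have e : (⊤ : (sch 𝒳 η).Opens) = bmap 𝒳 φ ⁻¹ᵁ (bmap 𝒳 φ).opensRange :=
        (Scheme.Hom.preimage_opensRange _).symm
      haveI : IsIso (homOfLE (le_preimage φ (rfl : (bmap 𝒳 φ).opensRange = _))) :=
        ⟨homOfLE e.ge, Subsingleton.elim _ _, Subsingleton.elim _ _⟩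
      exact Functor.map_isIso _ _
    infer_instance
  exact (asIso ((bmap 𝒳 φ).appLE W ⊤ (le_preimage φ hW))).commRingCatIsoToRingEquiv.bijective

/-- Pieces of smaller opens factor. -/
theorem exists_piece_factor (h : FibCat.IsFibGrpd 𝒳.p) {ψ : η ⟶ ξ} {η' : 𝒳.obj} {φ' : η' ⟶ ξ}
    [IsOpenImmersion (bmap 𝒳 φ')] (hle : Set.range (bmap 𝒳 ψ) ⊆ Set.range (bmap 𝒳 φ')) :
    ∃ k : η ⟶ η', k ≫ φ' = ψ :=
  let ⟨k, hk, _⟩ := exists_factor h φ' ψ (IsOpenImmersion.lift (bmap 𝒳 φ') (bmap 𝒳 ψ) hle)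
    (IsOpenImmersion.lift_fac _ _ _)
  ⟨k, hk⟩

end Piece

/-- A morphism is determined by its maps on global sections of affine objects. -/
theorem hom_ext_affine (h : FibCat.IsFibGrpd 𝒳.p) (hF : isQCoh 𝒳 F) (hG : isQCoh 𝒳 G) {u u' : F ⟶ G}
    (e : ∀ ξ : 𝒳.obj, IsAffine (sch 𝒳 ξ) → ∀ x, (u.app ξ).app ⊤ x = (u'.app ξ).app ⊤ x) : u = u' := by
  refine Mod.hom_ext fun ξ => ModLimH13.hom_ext_affine _ _ fun x => ⟨⊤, trivial, fun W _ hW s => ?_⟩
  obtain ⟨η, φ, _, _, hr⟩ := exists_piece h ξ hW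
  refine (bijective_resL φ hG hW hr).1 ?_
  rw [resL_app, resL_app]
  exact e η inferInstance _

/-- Compatible linear maps on global sections of affine objects come from a unique morphism. -/
theorem exists_hom_of_affine (h : FibCat.IsFibGrpd 𝒳.p) (hF : isQCoh 𝒳 F) (hG : isQCoh 𝒳 G)
    (l : ∀ ξ : 𝒳.obj, IsAffine (sch 𝒳 ξ) → (Γ(F.obj ξ, ⊤) →ₗ[Γ(sch 𝒳 ξ, ⊤)] Γ(G.obj ξ, ⊤)))
    (hl : ∀ {ξ' ξ : 𝒳.obj} (h' : IsAffine (sch 𝒳 ξ')) (h₀ : IsAffine (sch 𝒳 ξ)) (φ : ξ' ⟶ ξ) x,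
      G.mapTop φ (l ξ h₀ x) = l ξ' h' (F.mapTop φ x)) :
    ∃ u : F ⟶ G, ∀ ξ (hξ : IsAffine (sch 𝒳 ξ)) x, (u.app ξ).app ⊤ x = l ξ hξ x := by
  classical
  -- the pieces
  have hP := fun ξ (W : (sch 𝒳 ξ).Opens) (hW : IsAffineOpen W) => exists_piece h ξ hW
  choose P π hPa hPi hPr using hP
  haveI : ∀ ξ W hW, IsAffine (sch 𝒳 (P ξ W hW)) := hPa
  haveI : ∀ ξ W hW, IsOpenImmersion (bmap 𝒳 (π ξ W hW)) := hPi
  let E : ∀ ξ W (hW : IsAffineOpen W), Γ(G.obj ξ, W) ≃ Γ(G.obj (P ξ W hW), ⊤) := fun ξ W hW =>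
    Equiv.ofBijective _ (bijective_resL (π ξ W hW) hG hW (hPr ξ W hW))
  let g : ∀ ξ W (hW : IsAffineOpen W), Γ(F.obj ξ, W) → Γ(G.obj ξ, W) := fun ξ W hW x =>
    (E ξ W hW).symm (l _ inferInstance (resL F (π ξ W hW) W (le_preimage _ (hPr ξ W hW)) x))
  have hg : ∀ ξ W (hW : IsAffineOpen W) x, resL G (π ξ W hW) W (le_preimage _ (hPr ξ W hW)) (g ξ W hW x) =
      l _ inferInstance (resL F (π ξ W hW) W (le_preimage _ (hPr ξ W hW)) x) := fun ξ W hW x =>
    (E ξ W hW).apply_symm_apply _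
  -- compatibility with any morphism from an affine object into the open
  have hcomp : ∀ ξ W (hW : IsAffineOpen W) {η : 𝒳.obj} [IsAffine (sch 𝒳 η)] (ψ : η ⟶ ξ)
      (hle : ⊤ ≤ bmap 𝒳 ψ ⁻¹ᵁ W) x, resL G ψ W hle (g ξ W hW x) = l η inferInstance (resL F ψ W hle x) := by
    intro ξ W hW η _ ψ hle x
    have hsub : Set.range (bmap 𝒳 ψ) ⊆ Set.range (bmap 𝒳 (π ξ W hW)) := by
      rintro _ ⟨y, rfl⟩
      have := hle (show y ∈ (⊤ : (sch 𝒳 η).Opens) from trivial)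
      exact ((hPr ξ W hW).ge this)
    obtain ⟨k, hk⟩ := exists_piece_factor h hsub
    subst hk
    rw [resL_comp (π ξ W hW) k (le_preimage _ (hPr ξ W hW)) hle, resL_comp (π ξ W hW) k (le_preimage _ (hPr ξ W hW)) hle,
      hg, hl]
  have hex : ∀ ξ, ∃ φ : F.obj ξ ⟶ G.obj ξ, ∀ W (hW : IsAffineOpen W) x, φ.app W x = g ξ W hW x := by
    intro ξ
    refine VA11.exists_hom_of_affine (F.obj ξ) (G.obj ξ)
      (fun W hW => AddMonoidHom.mk' (g ξ W hW) fun a b => (bijective_resL _ hG hW (hPr ξ W hW)).1 ?_) ?_ ?_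
    · rw [_root_.map_add, hg, hg, hg, _root_.map_add, _root_.map_add]
    · intro W hW r x
      refine (bijective_resL _ hG hW (hPr ξ W hW)).1 ?_
      show resL G _ W _ (g ξ W hW (r • x)) = resL G _ W _ (r • g ξ W hW x)
      rw [hg, (resL F (π ξ W hW) W _).map_smulₛₗ, _root_.map_smul, (resL G (π ξ W hW) W _).map_smulₛₗ, hg]
    · intro U V hU hV hUV x
      refine (bijective_resL _ hG hV (hPr ξ V hV)).1 ?_
      show resL G _ V _ (M1.mres _ hUV (g ξ U hU x)) = resL G _ V _ (g ξ V hV (M1.mres _ hUV x))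
      rw [hg, resL_mres, resL_mres, hcomp]
  choose app happ using hex
  refine ⟨⟨app, fun {ξ' ξ} φ g' hg' => ?_⟩, fun ξ hξ x => ?_⟩
  · subst hg'
    refine ModLimH13.hom_ext_affine _ _ fun x => ⟨⊤, trivial, fun W _ hW s => ?_⟩
    show (app ξ').app (bmap 𝒳 φ ⁻¹ᵁ W) ((F.map φ rfl).app W s) = (G.map φ rfl).app W ((app ξ).app W s)
    refine M1.section_ext _ _ fun y hy => ?_
    obtain ⟨_, ⟨W', hW', rfl⟩, hyW', hle⟩ :=
      (sch 𝒳 ξ').isBasis_affineOpens.exists_subset_of_mem_open hy (bmap 𝒳 φ ⁻¹ᵁ W).isOpen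
    have e : M1.mres (G.obj ξ') hle ((app ξ').app (bmap 𝒳 φ ⁻¹ᵁ W) ((F.map φ rfl).app W s)) =
        M1.mres (G.obj ξ') hle ((G.map φ rfl).app W ((app ξ).app W s)) := by
      refine (bijective_resL _ hG hW' (hPr ξ' W' hW')).1 ?_
      have hl' : ⊤ ≤ bmap 𝒳 (π ξ' W' hW' ≫ φ) ⁻¹ᵁ W := by
        rw [bmap_comp, Scheme.Hom.comp_preimage]
        exact (le_preimage _ (hPr ξ' W' hW')).trans ((bmap 𝒳 (π ξ' W' hW')).preimage_mono hle)
      have hc : ∀ (H : Mod 𝒳) (t : Γ(H.obj ξ, W)),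
          resL H (π ξ' W' hW') W' (le_preimage _ (hPr ξ' W' hW')) (M1.mres (H.obj ξ') hle ((H.map φ rfl).app W t)) =
            resL H (π ξ' W' hW' ≫ φ) W hl' t := by
        intro H t
        rw [resL_mres]
        have key : ∀ (g₁ : sch 𝒳 (P ξ' W' hW') ⟶ sch 𝒳 ξ) (hg : bmap 𝒳 (π ξ' W' hW' ≫ φ) = g₁)
            (hl : ⊤ ≤ g₁ ⁻¹ᵁ W), resL H (π ξ' W' hW' ≫ φ) W hl' t =
              M1.mres (H.obj _) hl ((H.map (π ξ' W' hW' ≫ φ) hg).app W t) := by
          intro g₁ hg hl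
          subst hg
          rfl
        rw [key _ (bmap_comp _ φ) (by rw [← bmap_comp]; exact hl'), H.map_comp_app (π ξ' W' hW') φ rfl rfl]
        rfl
      rw [← M1.app_mres, happ ξ' W' hW', hg, hc F, hc G, happ ξ W hW, hcomp]
    have e₁ := congrArg ((G.obj ξ').presheaf.germ W' y hyW') e
    exact ((TopCat.Presheaf.germ_res_apply (G.obj ξ').presheaf (homOfLE hle) y hyW' _).symm.trans e₁).trans
      (TopCat.Presheaf.germ_res_apply (G.obj ξ').presheaf (homOfLE hle) y hyW' _)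
  · show (app ξ).app ⊤ x = _
    have hT : IsAffineOpen (⊤ : (sch 𝒳 ξ).Opens) := isAffineOpen_top _
    rw [happ ξ ⊤ hT]
    have h1 := hcomp ξ ⊤ hT (𝟙 ξ) le_top x
    rwa [resL_top, resL_top, Mod.mapTop_id, Mod.mapTop_id] at h1

end Groth.Agent.StQC14
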