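import Groth.Agent.Lib.StQC14.RelGen
import Groth.Agent.Lib.StQC14.LocFreeDesc

/-!
# Finite local freeness descends along fppf covers of the target
-/

universe u

open CategoryTheory CategoryTheory.Functor CategoryTheory.Limits AlgebraicGeometry Opposite

set_option linter.style.haveILetI false
set_option linter.unusedSectionVars false
set_option backward.isDefEq.respectTransparency false
set_option backward.isDefEq.respectTransparency.types false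

namespace Groth.Agent.StQC14

open StMod Groth.Agent.FC16 Groth.Agent.StAlg Groth.Agent.StAlg16 AlgSt

variable {S : Scheme.{u}} {𝒳 𝒴 : AlgSt.Cat S}

theorem isFinLocFree_obj_of_cover (h𝒳 : FibCat.IsFibGrpd 𝒳.p) (h𝒴 : FibCat.IsFibGrpd 𝒴.p) (f : 𝒳 ⥤ᵇ 𝒴)
    (E : StMod.QCoh 𝒳) {A : Type*} (𝒴' : A → AlgSt.Cat S) (h𝒴' : ∀ a, FibCat.IsFibGrpd (𝒴' a).p)
    (v : ∀ a, 𝒴' a ⥤ᵇ 𝒴) (hfl : ∀ a, AlgSt.LocQ (AlgSp.LocP (@Flat ⊓ @LocallyOfFinitePresentation)) (v a))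
    (hsurj : ∀ p : AlgSt.Points 𝒴, ∃ (a : A) (q : AlgSt.Points (𝒴' a)), AlgSt.Points.map (v a) q = p)
    (hlf : ∀ a, ((StMod.comapQ (FibCat.fpFst f (v a))).obj E).obj.IsLocFree ∧
      ((StMod.comapQ (FibCat.fpFst f (v a))).obj E).obj.IsFinType)
    (ξ : 𝒳.obj) : FlatMod.IsFinLocFree (E.obj.obj ξ) := by
  haveI := FC16.isFibered h𝒴
  refine isFinLocFree_of_flat_lfp_cover (E.property.2 ξ) fun x => ?_
  let η := f.obj ξ
  let t : ↥(𝒴.p.obj η).left := (eqToHom (sch_obj_eq f ξ).symm).base x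
  obtain ⟨a, q, hq⟩ := hsurj (Points.ofChart (objFun η) t)
  obtain ⟨θ, hθ, h, hR, ⟨s, hs⟩⟩ := exists_object_of (R := @Flat ⊓ @LocallyOfFinitePresentation)
    (fun g hg => by haveI := hg; exact ⟨inferInstance, inferInstance⟩) h𝒴 (h𝒴' a) (hfl a) η t q hq
  let g : sch (𝒴' a) θ ⟶ sch 𝒳 ξ := fibRho (v a) h ≫ eqToHom (sch_obj_eq f ξ)
  haveI : Flat (bmap 𝒴 h) := hR.1
  haveI : LocallyOfFinitePresentation (bmap 𝒴 h) := hR.2
  haveI : Flat g := by unfold g fibRho; infer_instance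
  haveI : LocallyOfFinitePresentation g := by unfold g fibRho; infer_instance
  obtain ⟨ξ', φ, e, he⟩ := exists_lift_to h𝒳 ξ g
  let x' : (fibCat f η).obj := CostructuredArrow.mk (S := f.toFunctor) (Y := ξ') (f.map φ)
  obtain ⟨d, e₁, he₁, -⟩ := fib_exists_mk f (v a) h (h𝒴' a) h𝒴 x' e.hom (by
    rw [str_eq]
    show e.hom ≫ fibRho (v a) h = eqToHom _ ≫ bmap 𝒴 (f.map φ)
    rw [bmap_map f φ, he]
    simp [g])
  haveI : IsIso (bmap 𝒳 e₁.left) := he₁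
  let ψ : d.left.obj.fst ⟶ ξ := e₁.left ≫ φ
  have hψ : bmap 𝒳 ψ = bmap 𝒳 e₁.left ≫ e.hom ≫ g := (bmap_comp _ _).trans (congrArg (_ ≫ ·) he)
  refine ⟨_, bmap 𝒳 ψ, ?_, ?_, ?_, ?_⟩
  · rw [hψ]; infer_instance
  · rw [hψ]; infer_instance
  · haveI : Surjective (bmap 𝒳 e₁.left) := inferInstance
    obtain ⟨r, hr⟩ := (bmap 𝒳 e₁.left ≫ e.hom).surjective ((eqToHom (sch_obj_eq (v a) θ)).base s)
    refine ⟨r, ?_⟩
    rw [hψ, ← Category.assoc, Scheme.Hom.comp_apply]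
    refine (congrArg g hr).trans ?_
    show (fibRho (v a) h ≫ eqToHom (sch_obj_eq f ξ)).base _ = x
    simp only [fibRho, Category.assoc, ← Scheme.Hom.comp_apply, eqToHom_trans_assoc, eqToHom_refl,
      Category.id_comp]
    rw [Scheme.Hom.comp_apply, hs, ← Scheme.Hom.comp_apply]
    simp
  · haveI := E.property.1 ψ (g := bmap 𝒳 ψ) rfl
    exact M2.isFinLocFree_of_iso (asIso (((Scheme.Modules.pullbackPushforwardAdjunction (bmap 𝒳 ψ)).homEquiv
      (E.obj.obj ξ) (E.obj.obj d.left.obj.fst)).symm (E.obj.map ψ rfl))).symm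
      (isFinLocFree_of_isLocallyFree ((hlf a).1 d.left) ((hlf a).2 d.left))

end Groth.Agent.StQC14
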