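import Groth.Agent.Lib.AmpleFin18.Proj
import Groth.Agent.Lib.CBC10.TensorSec
import Groth.Agent.Lib.CohFound.RpushComp
import Groth.Agent.Lib.ModLimH13.Sections
import Groth.Agent.Lib.CohFound.AffMor
import Groth.Agent.Lib.CohFound.HHBridge

/-!
# The projection formula along affine morphisms; vanishing of cohomology of pullbacks
-/

universe u

open CategoryTheory CategoryTheory.Limits AlgebraicGeometry TopologicalSpace Opposite TensorProduct

set_option linter.style.haveILetI false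
set_option linter.unusedSectionVars false
set_option backward.isDefEq.respectTransparency false
set_option backward.isDefEq.respectTransparency.types false

namespace Groth.Agent.StQC14

variable {X Y : Scheme.{u}} (f : X ⟶ Y)

set_option maxHeartbeats 1000000 in
theorem bijective_projHom_app_affine [IsAffineHom f] (E : Y.Modules) (hE : Coh.IsQCoh E) (F : X.Modules)
    (hF : Coh.IsQCoh F) {V : Y.Opens} (hV : IsAffineOpen V) :
    Function.Bijective ((AmpleFin18.projHom f E F).app V) := by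
  haveI := hE
  let G := (Scheme.Modules.pushforward f).obj F
  let P := (Scheme.Modules.pullback f).obj E
  have hP : Coh.IsQCoh P := M1.isQCoh_pullback f hE
  have hG : Coh.IsQCoh G := M1.isQCoh_push f hF
  obtain ⟨Φ, hΦ⟩ := ModLimH13.exists_pullEquiv f E (W' := f ⁻¹ᵁ V) le_rfl hV (hV.preimage f)
  letI := (f.appLE V (f ⁻¹ᵁ V) le_rfl).hom.toAlgebra
  letI : Module Γ(Y, V) Γ(F, f ⁻¹ᵁ V) := Module.compHom _ (f.appLE V (f ⁻¹ᵁ V) le_rfl).hom
  haveI : IsScalarTower Γ(Y, V) Γ(X, f ⁻¹ᵁ V) Γ(F, f ⁻¹ᵁ V) := IsScalarTower.of_algebraMap_smul fun _ _ => rfl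
  let β := LinearEquiv.ofBijective (CBC10.secTensor P F (U := f ⁻¹ᵁ V))
    (CBC10.bijective_secTensor P F hP hF (hV.preimage f))
  let Ψ : Γ(E, V) ⊗[Γ(Y, V)] Γ(F, f ⁻¹ᵁ V) ≃+ Γ(CohB1.tensorMod P F, f ⁻¹ᵁ V) :=
    (TensorProduct.comm Γ(Y, V) _ _).toAddEquiv.trans
      ((TensorProduct.AlgebraTensorModule.cancelBaseChange Γ(Y, V) Γ(X, f ⁻¹ᵁ V) Γ(X, f ⁻¹ᵁ V)
          Γ(F, f ⁻¹ᵁ V) Γ(E, V)).symm.toAddEquiv.trans
        ((TensorProduct.congr (LinearEquiv.refl Γ(X, f ⁻¹ᵁ V) _) Φ).toAddEquiv.trans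
          ((TensorProduct.comm Γ(X, f ⁻¹ᵁ V) _ _).toAddEquiv.trans β.toAddEquiv)))
  have hΨ : ∀ (e : Γ(E, V)) (m : Γ(F, f ⁻¹ᵁ V)), Ψ (e ⊗ₜ m) = M2.tsec P F (M2.pullSec f E e) m := fun e m => by
    show β ((TensorProduct.comm _ _ _) ((TensorProduct.congr (LinearEquiv.refl _ _) Φ)
      ((TensorProduct.AlgebraTensorModule.cancelBaseChange Γ(Y, V) Γ(X, f ⁻¹ᵁ V) Γ(X, f ⁻¹ᵁ V)
        Γ(F, f ⁻¹ᵁ V) Γ(E, V)).symm (m ⊗ₜ e)))) = _
    rw [TensorProduct.AlgebraTensorModule.cancelBaseChange_symm_tmul, TensorProduct.congr_tmul, TensorProduct.comm_tmul,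
      LinearEquiv.refl_apply, hΦ, one_smul]
    refine (CBC10.secTensor_tmul P F _ _).trans ?_
    refine congrArg (fun z => M2.tsec P F z m) ?_
    exact M1.mres_id _ _ _
  let τ : Γ(E, V) ⊗[Γ(Y, V)] Γ(F, f ⁻¹ᵁ V) →+ Γ(CohB1.tensorMod E G, V) :=
    TensorProduct.liftAddHom
      (AddMonoidHom.mk' (fun e => AddMonoidHom.mk' (fun m => M2.tsec E G e m)
        fun m m' => M2.tsec_add_right (M := E) (N := G) e (m : Γ(G, V)) m')
        fun e e' => AddMonoidHom.ext fun m => show M2.tsec E G (e + e') ((m : Γ(G, V))) =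
          M2.tsec E G e m + M2.tsec E G e' m from M2.tsec_add_left _ _ _)
      fun r e m => by
        show M2.tsec E G (r • e) (m : Γ(G, V)) = M2.tsec E G e ((r • m : Γ(F, f ⁻¹ᵁ V)) : Γ(G, V))
        rw [M2.tsec_smul_left, ← M2.tsec_smul_right]
        refine congrArg (M2.tsec E G e) ?_
        show f.app V r • m = (f.appLE V (f ⁻¹ᵁ V) le_rfl) r • m
        simp [Scheme.Hom.appLE]
  have key : ∀ w, (AmpleFin18.projHom f E F).app V (τ w) = Ψ w := fun w => by
    induction w using TensorProduct.induction_on with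
    | zero => rw [map_zero, map_zero, map_zero]
    | add a b ha hb => rw [map_add, map_add, map_add, ha, hb]
    | tmul e m => exact (AmpleFin18.projHom_tsec f E F e m).trans (hΨ e m).symm
  have hτ : Function.Surjective τ := fun z => by
    obtain ⟨w, rfl⟩ := (CBC10.bijective_secTensor E G hE hG hV).2 z
    induction w using TensorProduct.induction_on with
    | zero => exact ⟨0, by rw [map_zero, map_zero]⟩
    | add a b ha hb =>
      obtain ⟨a', ha'⟩ := ha
      obtain ⟨b', hb'⟩ := hb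
      exact ⟨a' + b', by rw [map_add, map_add, ha', hb']⟩
    | tmul e m => exact ⟨e ⊗ₜ (m : Γ(F, f ⁻¹ᵁ V)), (CBC10.secTensor_tmul E G e m).symm⟩
  refine ⟨(injective_iff_map_eq_zero _).2 fun z hz => ?_, fun p => ?_⟩
  · obtain ⟨w, rfl⟩ := hτ z
    rw [key] at hz
    rw [Ψ.map_eq_zero_iff.1 hz, map_zero]
  · obtain ⟨w, rfl⟩ := Ψ.surjective p
    exact ⟨τ w, key w⟩

theorem isIso_projHom_affine [IsAffineHom f] (E : Y.Modules) (hE : Coh.IsQCoh E) (F : X.Modules)
    (hF : Coh.IsQCoh F) : IsIso (AmpleFin18.projHom f E F) := by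
  let φ := AmpleFin18.projHom f E F
  haveI : IsIso ((SheafOfModules.toSheaf Y.ringCatSheaf).map φ) := CohFound.isIso_of_bijective_basis _ IsAffineOpen
    (fun O z hz => by
      obtain ⟨W, hW, hzW, hWO⟩ := exists_isAffineOpen_mem_and_subset hz
      exact ⟨W, hW, hzW, hWO⟩)
    fun W hW => bijective_projHom_app_affine f E hE F hF hW
  haveI : IsIso ((SheafOfModules.toSheaf Y.ringCatSheaf).map φ).hom :=
    inferInstanceAs (IsIso ((sheafToPresheaf _ _).map ((SheafOfModules.toSheaf Y.ringCatSheaf).map φ)))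
  exact Scheme.Modules.Hom.isIso_iff_isIso_app.2 fun W => (ConcreteCategory.isIso_iff_bijective _).2
    (ConcreteCategory.bijective_of_isIso (((SheafOfModules.toSheaf Y.ringCatSheaf).map φ).hom.app (op W)))

/-- Vanishing of the cohomology of a module twisted by a pullback along an affine morphism. -/
theorem subsingleton_HH_tensor_pullback [IsAffineHom f] (E : Y.Modules) (hE : Coh.IsQCoh E) (F : X.Modules)
    (hF : Coh.IsQCoh F) (i : ℕ)
    (h : Subsingleton (Coh.HH Y (CohB1.tensorMod ((Scheme.Modules.pushforward f).obj F) E) i)) :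
    Subsingleton (Coh.HH X (CohB1.tensorMod F ((Scheme.Modules.pullback f).obj E)) i) := by
  let N := CohB1.tensorMod F ((Scheme.Modules.pullback f).obj E)
  have hN : Coh.IsQCoh N := M2.isQCoh_tensor hF (M1.isQCoh_pullback f hE)
  haveI : N.IsQuasicoherent := hN
  haveI := isIso_projHom_affine f E hE F hF
  let e : CohB1.tensorMod ((Scheme.Modules.pushforward f).obj F) E ≅ (Scheme.Modules.pushforward f).obj N :=
    M2.tensorComm _ E ≪≫ asIso (AmpleFin18.projHom f E F) ≪≫
      (Scheme.Modules.pushforward f).mapIso (M2.tensorComm _ F)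
  rw [CohFound.subsingleton_HH_iff] at h ⊢
  have h2 := @Equiv.subsingleton _ _ (CohFound.mpEquiv ((CohFound.abF Y).mapIso e.symm) i ⊤).toEquiv h
  obtain ⟨ε⟩ := CohFound.nonempty_hc_push_isAffineHom f N i ⊤
  rw [Scheme.Hom.preimage_top] at ε
  exact @Equiv.subsingleton _ _ ε.symm.toEquiv h2

end Groth.Agent.StQC14
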