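import Groth.Agent.Lib.StQC14.FlatFun

/-!
# Transition maps of modules given with flat base change
-/

universe w v u

open CategoryTheory CategoryTheory.Functor CategoryTheory.Limits AlgebraicGeometry Opposite

set_option linter.style.haveILetI false
set_option linter.unusedSectionVars false
set_option backward.isDefEq.respectTransparency false
set_option backward.isDefEq.respectTransparency.types false

namespace Groth.Agent.StQC14

open StMod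

section Semi

variable {A B C : Type u} [CommRing A] [CommRing B] [CommRing C] {σ : A →+* B}
  {M N : Type u} [AddCommGroup M] [Module A M] [AddCommGroup N] [Module B N] {f : M →ₛₗ[σ] N}

theorem IsBC.semi_ext (hf : IsBC f) {τ τ' : B →+* C} (hτ : τ = τ') {Q : Type u} [AddCommGroup Q] [Module C Q]
    (g : N →ₛₗ[τ] Q) (g' : N →ₛₗ[τ'] Q) (h : ∀ x, g (f x) = g' (f x)) (y : N) : g y = g' y := by
  subst hτ
  induction hf.span y using Submodule.span_induction with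
  | mem y hy => obtain ⟨x, rfl⟩ := hy; exact h x
  | zero => rw [_root_.map_zero, _root_.map_zero]
  | add a b _ _ ha hb => rw [_root_.map_add, _root_.map_add, ha, hb]
  | smul c a _ ha => rw [g.map_smulₛₗ, g'.map_smulₛₗ, ha]

theorem IsBC.exists_semilift (hf : IsBC f) (τ : B →+* C) {ρ : A →+* C} (hρ : τ.comp σ = ρ)
    {Q : Type u} [AddCommGroup Q] [Module C Q] (g : M →ₛₗ[ρ] Q) :
    ∃ g' : N →ₛₗ[τ] Q, ∀ x, g' (f x) = g x := by
  subst hρ
  letI := Module.compHom Q τ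
  let g₀ : M →ₛₗ[σ] Q :=
    { toFun := fun x => g x, map_add' := fun x y => g.map_add x y, map_smul' := fun a x => g.map_smulₛₗ a x }
  obtain ⟨g', hg'⟩ := hf.exists_lift g₀
  exact ⟨{ toFun := fun y => g' y, map_add' := fun a b => g'.map_add a b, map_smul' := fun c a => g'.map_smul c a },
    hg'⟩

theorem IsBC.lift_bijective (hf : IsBC f) {N' : Type u} [AddCommGroup N'] [Module B N'] {f' : M →ₛₗ[σ] N'}
    (hf' : IsBC f') (g : N →ₗ[B] N') (h : ∀ x, g (f x) = f' x) : Function.Bijective g := by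
  obtain ⟨g', hg'⟩ := hf'.exists_lift f
  refine ⟨Function.LeftInverse.injective (g := g') ?_, Function.RightInverse.surjective (g := g') ?_⟩
  · exact fun y => LinearMap.congr_fun (hf.ext (g'.comp g) LinearMap.id fun x => by simp [h, hg']) y
  · exact fun y => LinearMap.congr_fun (hf'.ext (g.comp g') LinearMap.id fun x => by simp [h, hg']) y

end Semi

variable {S : Scheme.{u}} {𝒳 : BasedCategory.{v, w} (Over S)}

/-- Lifting a pair of morphisms to a fibre product of objects. -/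
theorem exists_factor_pullback (h₀ : FibCat.IsFibGrpd 𝒳.p) {ξ ξ' ξ'' ζ z : 𝒳.obj} {φ : ξ' ⟶ ξ} {ψ : ξ'' ⟶ ξ}
    {π₁ : ζ ⟶ ξ'} {π₂ : ζ ⟶ ξ''} (hc : π₁ ≫ φ = π₂ ≫ ψ)
    (sq : IsPullback (bmap 𝒳 π₁) (bmap 𝒳 π₂) (bmap 𝒳 φ) (bmap 𝒳 ψ)) (a : z ⟶ ξ') (b : z ⟶ ξ'')
    (e : a ≫ φ = b ≫ ψ) : ∃ s : z ⟶ ζ, s ≫ π₁ = a ∧ s ≫ π₂ = b := by
  have hw : bmap 𝒳 a ≫ bmap 𝒳 φ = bmap 𝒳 b ≫ bmap 𝒳 ψ := by rw [← bmap_comp, e, bmap_comp]
  obtain ⟨s, hs, hb⟩ := exists_factor h₀ π₁ a (sq.lift _ _ hw) (sq.lift_fst _ _ hw)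
  refine ⟨s, hs, factor_unique h₀ ψ ?_ ?_⟩
  · rw [Category.assoc, ← hc, ← Category.assoc, hs, e]
  · rw [bmap_comp, hb, sq.lift_snd]

theorem eq_of_local {z : 𝒳.obj} [IsAffine (sch 𝒳 z)] {M : Type u} [AddCommGroup M] [Module Γ(sch 𝒳 z, ⊤) M]
    {κ : Type*} (z' : κ → 𝒳.obj) [∀ k, IsAffine (sch 𝒳 (z' k))] (π : ∀ k, z' k ⟶ z)
    (hfl : ∀ k, Flat (bmap 𝒳 (π k))) (hcov : ∀ x : ↥(sch 𝒳 z), ∃ k, x ∈ Set.range (bmap 𝒳 (π k)))
    {N : κ → Type u} [∀ k, AddCommGroup (N k)] [∀ k, Module Γ(sch 𝒳 (z' k), ⊤) (N k)]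
    {f : ∀ k, M →ₛₗ[(bmap 𝒳 (π k)).appTop.hom] N k} (hf : ∀ k, IsBC (f k)) (m m' : M)
    (h : ∀ k, f k m = f k m') : m = m' := by
  refine sub_eq_zero.1 (eq_zero_of_family (σ := fun k => (bmap 𝒳 (π k)).appTop.hom) (fun k => ?_) (fun p => ?_)
    hf _ fun k => by rw [_root_.map_sub, h, sub_self])
  · haveI := hfl k
    exact flat_appTop _
  · obtain ⟨y, rfl⟩ := (sch 𝒳 z).isoSpec.hom.surjective p
    obtain ⟨k, s, hs⟩ := hcov y
    refine ⟨k, (sch 𝒳 _).isoSpec.hom s, ?_⟩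
    rw [← hs]
    exact congr($(Scheme.isoSpec_hom_naturality (bmap 𝒳 (π k))) s)

variable (P : FPres 𝒳) (F : FlatFun 𝒳)

/-- The chart module pulled back along a morphism to the chart. -/
abbrev Pull {w : 𝒳.obj} (r : w ⟶ P.b) : Type u := PullT (bmap 𝒳 r).appTop.hom (F.G P.b)

/-- Pulling back elements of the chart module. -/
noncomputable def pu {w : 𝒳.obj} (r : w ⟶ P.b) : F.G P.b →ₛₗ[(bmap 𝒳 r).appTop.hom] Pull P F r :=
  pullUnit _ _

theorem isBC_pu {w : 𝒳.obj} (r : w ⟶ P.b) : IsBC (pu P F r) := isBC_pullUnit _ _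

variable {w w' w'' : 𝒳.obj}

/-- Pullback between the pullbacks of the chart module. -/
noncomputable def pmap (k : w' ⟶ w) {r : w ⟶ P.b} {r' : w' ⟶ P.b} (e : k ≫ r = r') :
    Pull P F r →ₛₗ[(bmap 𝒳 k).appTop.hom] Pull P F r' :=
  ((isBC_pu P F r).exists_semilift (bmap 𝒳 k).appTop.hom
    ((appTop_bmap_comp k r).trans (by rw [e])) (pu P F r')).choose

theorem pmap_pu (k : w' ⟶ w) {r : w ⟶ P.b} {r' : w' ⟶ P.b} (e : k ≫ r = r') (m : F.G P.b) :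
    pmap P F k e (pu P F r m) = pu P F r' m :=
  ((isBC_pu P F r).exists_semilift (bmap 𝒳 k).appTop.hom
    ((appTop_bmap_comp k r).trans (by rw [e])) (pu P F r')).choose_spec m

theorem isBC_pmap (k : w' ⟶ w) {r : w ⟶ P.b} {r' : w' ⟶ P.b} (e : k ≫ r = r') : IsBC (pmap P F k e) := by
  refine IsBC.of_comp ?_ (isBC_pu P F r) (isBC_pu P F r') (pmap_pu P F k e)
  rw [appTop_bmap_comp, e]

theorem pmap_comp (l : w'' ⟶ w') (k : w' ⟶ w) {r : w ⟶ P.b} {r' : w' ⟶ P.b} {r'' : w'' ⟶ P.b}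
    (e : k ≫ r = r') (e' : l ≫ r' = r'') (j : w'' ⟶ w) (ej : l ≫ k = j) (n : Pull P F r) :
    pmap P F l e' (pmap P F k e n) = pmap P F j (by rw [← ej, Category.assoc, e, e']) n := by
  refine (isBC_pu P F r).semi_ext (τ := (bmap 𝒳 l).appTop.hom.comp (bmap 𝒳 k).appTop.hom)
    ((appTop_bmap_comp l k).trans (by rw [ej]))
    ({ toFun := fun x => pmap P F l e' (pmap P F k e x)
       map_add' := fun a b => by rw [_root_.map_add, _root_.map_add]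
       map_smul' := fun c a => by rw [LinearMap.map_smulₛₗ, LinearMap.map_smulₛₗ]; rfl } :
      Pull P F r →ₛₗ[_] Pull P F r'') (pmap P F j _) (fun x => ?_) n
  show pmap P F l e' (pmap P F k e (pu P F r x)) = _
  rw [pmap_pu, pmap_pu, pmap_pu]

theorem pmap_id {r : w ⟶ P.b} (e : 𝟙 w ≫ r = r) (n : Pull P F r) : pmap P F (𝟙 w) e n = n := by
  refine (isBC_pu P F r).semi_ext ?_ (pmap P F (𝟙 w) e) LinearMap.id (fun x => ?_) n
  · rw [bmap_id]; rfl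
  · rw [pmap_pu]; rfl

theorem pmap_congr {k k' : w' ⟶ w} (h : k = k') {r : w ⟶ P.b} {r' : w' ⟶ P.b} (e : k ≫ r = r') (n : Pull P F r) :
    pmap P F k e n = pmap P F k' (h ▸ e) n := by
  subst h
  rfl

section Ev

variable [IsAffine (sch 𝒳 w)]

/-- Evaluation of a pulled back element. -/
noncomputable def ev (r : w ⟶ P.b) : Pull P F r →ₗ[Γ(sch 𝒳 w, ⊤)] F.G w :=
  ((isBC_pu P F r).exists_lift (F.res r)).choose

theorem ev_pu (r : w ⟶ P.b) (m : F.G P.b) : ev P F r (pu P F r m) = F.res r m :=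
  ((isBC_pu P F r).exists_lift (F.res r)).choose_spec m

theorem ev_bijective (r : w ⟶ P.b) (h : Flat (bmap 𝒳 r)) : Function.Bijective (ev P F r) :=
  (isBC_pu P F r).lift_bijective (F.isBC r h) _ (ev_pu P F r)

variable [IsAffine (sch 𝒳 w')]

theorem ev_pmap (k : w' ⟶ w) {r : w ⟶ P.b} {r' : w' ⟶ P.b} (e : k ≫ r = r') (n : Pull P F r) :
    ev P F r' (pmap P F k e n) = F.res k (ev P F r n) := by
  refine (isBC_pu P F r).semi_ext (τ := (bmap 𝒳 k).appTop.hom) rfl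
    ({ toFun := fun x => ev P F r' (pmap P F k e x)
       map_add' := fun a b => by rw [_root_.map_add, _root_.map_add]
       map_smul' := fun c a => by rw [LinearMap.map_smulₛₗ, _root_.map_smul] } : Pull P F r →ₛₗ[_] F.G w')
    ({ toFun := fun x => F.res k (ev P F r x)
       map_add' := fun a b => by rw [_root_.map_add, _root_.map_add]
       map_smul' := fun c a => by rw [_root_.map_smul, LinearMap.map_smulₛₗ] } : Pull P F r →ₛₗ[_] F.G w') (fun x => ?_) n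
  show ev P F r' (pmap P F k e (pu P F r x)) = F.res k (ev P F r (pu P F r x))
  rw [pmap_pu, ev_pu, ev_pu, ← F.res_comp]
  subst e
  rfl

end Ev

/-- The value of the chart isomorphism on the relations. -/
noncomputable def θ₀ (m : F.G P.b) : Pull P F P.q :=
  ((ev_bijective P F P.q P.flat_q).2 (F.res P.p m)).choose

theorem ev_θ₀ (m : F.G P.b) : ev P F P.q (θ₀ P F m) = F.res P.p m :=
  ((ev_bijective P F P.q P.flat_q).2 (F.res P.p m)).choose_spec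

/-- The chart isomorphism on the relations, semilinear along `p`. -/
noncomputable def θc : F.G P.b →ₛₗ[(bmap 𝒳 P.p).appTop.hom] Pull P F P.q where
  toFun := θ₀ P F
  map_add' a b := (ev_bijective P F P.q P.flat_q).1 (by rw [_root_.map_add, ev_θ₀, ev_θ₀, ev_θ₀, _root_.map_add])
  map_smul' c a := (ev_bijective P F P.q P.flat_q).1 (by rw [_root_.map_smul, ev_θ₀, ev_θ₀, LinearMap.map_smulₛₗ])

/-- The transition map of a morphism to the relations. -/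
noncomputable def θ (t : w ⟶ P.c) {r₁ r₂ : w ⟶ P.b} (e₁ : t ≫ P.p = r₁) (e₂ : t ≫ P.q = r₂) :
    Pull P F r₁ →ₗ[Γ(sch 𝒳 w, ⊤)] Pull P F r₂ :=
  ((isBC_pu P F r₁).exists_lift
    ({ toFun := fun m => pmap P F t e₂ (θc P F m)
       map_add' := fun a b => by rw [_root_.map_add, _root_.map_add]
       map_smul' := fun c a => by
         rw [LinearMap.map_smulₛₗ, LinearMap.map_smulₛₗ, ← RingHom.comp_apply, appTop_bmap_comp, e₁] } :
      F.G P.b →ₛₗ[(bmap 𝒳 r₁).appTop.hom] Pull P F r₂)).choose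

theorem θ_pu (t : w ⟶ P.c) {r₁ r₂ : w ⟶ P.b} (e₁ : t ≫ P.p = r₁) (e₂ : t ≫ P.q = r₂) (m : F.G P.b) :
    θ P F t e₁ e₂ (pu P F r₁ m) = pmap P F t e₂ (θc P F m) :=
  ((isBC_pu P F r₁).exists_lift
    ({ toFun := fun m => pmap P F t e₂ (θc P F m)
       map_add' := fun a b => by rw [_root_.map_add, _root_.map_add]
       map_smul' := fun c a => by
         rw [LinearMap.map_smulₛₗ, LinearMap.map_smulₛₗ, ← RingHom.comp_apply, appTop_bmap_comp, e₁] } :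
      F.G P.b →ₛₗ[(bmap 𝒳 r₁).appTop.hom] Pull P F r₂)).choose_spec m

theorem pmap_θ (k : w' ⟶ w) (t : w ⟶ P.c) {r₁ r₂ : w ⟶ P.b} (e₁ : t ≫ P.p = r₁) (e₂ : t ≫ P.q = r₂)
    (t' : w' ⟶ P.c) (ht : k ≫ t = t') {r₁' r₂' : w' ⟶ P.b} (h₁ : k ≫ r₁ = r₁') (h₂ : k ≫ r₂ = r₂')
    (n : Pull P F r₁) :
    pmap P F k h₂ (θ P F t e₁ e₂ n) =
      θ P F t' (by rw [← ht, Category.assoc, e₁, h₁]) (by rw [← ht, Category.assoc, e₂, h₂]) (pmap P F k h₁ n) := by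
  refine (isBC_pu P F r₁).semi_ext (τ := (bmap 𝒳 k).appTop.hom) rfl
    ({ toFun := fun x => pmap P F k h₂ (θ P F t e₁ e₂ x)
       map_add' := fun a b => by rw [_root_.map_add, _root_.map_add]
       map_smul' := fun c a => by rw [_root_.map_smul, LinearMap.map_smulₛₗ] } : Pull P F r₁ →ₛₗ[_] Pull P F r₂')
    ({ toFun := fun x => θ P F t' (by rw [← ht, Category.assoc, e₁, h₁]) (by rw [← ht, Category.assoc, e₂, h₂])
        (pmap P F k h₁ x)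
       map_add' := fun a b => by rw [_root_.map_add, _root_.map_add]
       map_smul' := fun c a => by rw [LinearMap.map_smulₛₗ, _root_.map_smul] } : Pull P F r₁ →ₛₗ[_] Pull P F r₂')
    (fun x => ?_) n
  show pmap P F k h₂ (θ P F t e₁ e₂ (pu P F r₁ x)) = θ P F t' _ _ (pmap P F k h₁ (pu P F r₁ x))
  rw [θ_pu, pmap_pu, θ_pu]
  exact pmap_comp P F k t e₂ h₂ t' ht _

theorem ev_θ [IsAffine (sch 𝒳 w)] (t : w ⟶ P.c) {r₁ r₂ : w ⟶ P.b} (e₁ : t ≫ P.p = r₁) (e₂ : t ≫ P.q = r₂)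
    (n : Pull P F r₁) : ev P F r₂ (θ P F t e₁ e₂ n) = ev P F r₁ n := by
  refine (isBC_pu P F r₁).semi_ext (τ := RingHom.id _) rfl ((ev P F r₂).comp (θ P F t e₁ e₂)) (ev P F r₁)
    (fun x => ?_) n
  show ev P F r₂ (θ P F t e₁ e₂ (pu P F r₁ x)) = ev P F r₁ (pu P F r₁ x)
  rw [θ_pu, ev_pmap, ev_pu]
  subst e₁
  rw [F.res_comp]
  exact congrArg (F.res t) (ev_θ₀ P F x)

/-- The transition map does not depend on the morphism to the relations. -/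
theorem θ_unique [IsAffine (sch 𝒳 w)] (t t' : w ⟶ P.c) {r₁ r₂ : w ⟶ P.b} (e₁ : t ≫ P.p = r₁) (e₂ : t ≫ P.q = r₂)
    (e₁' : t' ≫ P.p = r₁) (e₂' : t' ≫ P.q = r₂) (n : Pull P F r₁) :
    θ P F t e₁ e₂ n = θ P F t' e₁' e₂' n := by
  choose z hz π hπ hx ζ hζ s t₁ t₂ hf₁ hf₂ hp hq hs₁ hs₂ using
    P.uniq t t' (e₁.trans e₁'.symm) (e₂.trans e₂'.symm)
  haveI := hz
  haveI := hζ
  refine eq_of_local z π hπ (fun x => ⟨x, hx x⟩) (f := fun x => pmap P F (π x) (r := r₂) rfl)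
    (fun x => isBC_pmap P F _ _) _ _ fun x => ?_
  rw [pmap_θ P F (π x) t e₁ e₂ (s x ≫ t₁ x) (hs₁ x).symm rfl rfl,
    pmap_θ P F (π x) t' e₁' e₂' (s x ≫ t₂ x) (hs₂ x).symm rfl rfl]
  set m := pmap P F (π x) (r := r₁) rfl n
  clear_value m
  have h₁ : s x ≫ t₁ x ≫ P.p = π x ≫ r₁ := by rw [← Category.assoc, hs₁, Category.assoc, e₁]
  have h₂ : s x ≫ t₁ x ≫ P.q = π x ≫ r₂ := by rw [← Category.assoc, hs₁, Category.assoc, e₂]
  induction (isBC_pu P F (π x ≫ r₁)).span m using Submodule.span_induction with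
  | mem y hy =>
    obtain ⟨m₀, rfl⟩ := hy
    rw [← pmap_pu P F (s x) h₁ m₀, ← pmap_θ P F (s x) (t₁ x) rfl rfl (s x ≫ t₁ x) rfl h₁ h₂,
      ← pmap_θ P F (s x) (t₂ x) (hp x).symm (hq x).symm (s x ≫ t₂ x) rfl h₁ h₂]
    congr 1
    refine (ev_bijective P F (t₁ x ≫ P.q) ?_).1 ?_
    · haveI := hf₁ x
      haveI := P.flat_q
      rw [bmap_comp]
      infer_instance
    · rw [ev_θ, ev_θ]
  | zero => rw [_root_.map_zero, _root_.map_zero]
  | add a b _ _ ha hb => rw [_root_.map_add, _root_.map_add, ha, hb]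
  | smul c a _ ha => rw [_root_.map_smul, _root_.map_smul, ha]

/-- The cocycle condition. -/
theorem θ_comp (h₀ : FibCat.IsFibGrpd 𝒳.p) [IsAffine (sch 𝒳 w)] {r₁ r₂ r₃ : w ⟶ P.b} (a : w ⟶ P.c)
    (b : w ⟶ P.c) (c : w ⟶ P.c) (a₁ : a ≫ P.p = r₁) (a₂ : a ≫ P.q = r₂) (b₂ : b ≫ P.p = r₂) (b₃ : b ≫ P.q = r₃)
    (c₁ : c ≫ P.p = r₁) (c₃ : c ≫ P.q = r₃) (n : Pull P F r₁) :
    θ P F b b₂ b₃ (θ P F a a₁ a₂ n) = θ P F c c₁ c₃ n := by
  obtain ⟨ζ, π₁, π₂, hζ, hcomm, sq⟩ := exists_pullback h₀ P.q P.p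
  obtain ⟨s, hs₁, hs₂⟩ := exists_factor_pullback h₀ hcomm sq a b (a₂.trans b₂.symm)
  obtain ⟨ζ', hζ', ω, u, hω, hu₁, hu₂⟩ := P.pairs (π₁ ≫ P.p) (π₂ ≫ P.q)
  obtain ⟨z', ρ, s', hz', hc', sq'⟩ := exists_pullback h₀ ω s
  haveI := hω.1; haveI := hω.2
  haveI := P.flat_p; haveI := P.flat_q
  haveI : Flat (bmap 𝒳 π₁) := MorphismProperty.of_isPullback sq.flip inferInstance
  haveI : Flat (bmap 𝒳 π₂) := MorphismProperty.of_isPullback sq inferInstance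
  have hρ : FF s' := hω.of_isPullback sq'
  refine eq_of_local (fun _ : Unit => z') (fun _ => s') (fun _ => hρ.1)
    (fun x => ⟨(), by haveI := hρ.2; exact (bmap 𝒳 s').surjective x⟩)
    (f := fun _ => pmap P F s' (r := r₃) rfl) (fun _ => isBC_pmap P F _ _) _ _ fun _ => ?_
  have ha : s' ≫ a = ρ ≫ ω ≫ π₁ := by rw [← hs₁, ← Category.assoc, ← hc', Category.assoc]
  have hb : s' ≫ b = ρ ≫ ω ≫ π₂ := by rw [← hs₂, ← Category.assoc, ← hc', Category.assoc]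
  rw [pmap_θ P F s' b b₂ b₃ (ρ ≫ ω ≫ π₂) hb rfl rfl, pmap_θ P F s' a a₁ a₂ (ρ ≫ ω ≫ π₁) ha rfl rfl,
    pmap_θ P F s' c c₁ c₃ (s' ≫ c) rfl rfl rfl]
  have u₁ : (ρ ≫ u) ≫ P.p = s' ≫ r₁ := by
    rw [Category.assoc, hu₁, ← Category.assoc ω, ← Category.assoc ρ, ← ha, Category.assoc, a₁]
  have u₃ : (ρ ≫ u) ≫ P.q = s' ≫ r₃ := by
    rw [Category.assoc, hu₂, ← Category.assoc ω, ← Category.assoc ρ, ← hb, Category.assoc, b₃]
  rw [θ_unique P F (s' ≫ c) (ρ ≫ u) _ _ u₁ u₃]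
  set m := pmap P F s' (r := r₁) rfl n
  clear_value m
  have g₁ : ρ ≫ (ω ≫ π₁) ≫ P.p = s' ≫ r₁ := by rw [← Category.assoc, ← ha, Category.assoc, a₁]
  have g₂ : ρ ≫ (ω ≫ π₁) ≫ P.q = s' ≫ r₂ := by rw [← Category.assoc, ← ha, Category.assoc, a₂]
  have g₃ : ρ ≫ (ω ≫ π₂) ≫ P.q = s' ≫ r₃ := by rw [← Category.assoc, ← hb, Category.assoc, b₃]
  induction (isBC_pu P F (s' ≫ r₁)).span m using Submodule.span_induction with
  | mem y hy =>
    obtain ⟨m₀, rfl⟩ := hy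
    rw [← pmap_pu P F ρ g₁ m₀, ← pmap_θ P F ρ (ω ≫ π₁) rfl rfl (ρ ≫ ω ≫ π₁) rfl g₁ g₂,
      ← pmap_θ P F ρ (ω ≫ π₂) (by rw [Category.assoc, ← hcomm, ← Category.assoc]) rfl (ρ ≫ ω ≫ π₂) rfl g₂ g₃,
      ← pmap_θ P F ρ u (hu₁.trans (Category.assoc _ _ _).symm) (hu₂.trans (Category.assoc _ _ _).symm)
        (ρ ≫ u) rfl g₁ g₃]
    congr 1
    refine (ev_bijective P F ((ω ≫ π₂) ≫ P.q) ?_).1 ?_
    · rw [bmap_comp, bmap_comp]
      infer_instance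
    · rw [ev_θ, ev_θ, ev_θ]
  | zero => simp
  | add a b _ _ ha hb => rw [_root_.map_add, _root_.map_add, _root_.map_add, ha, hb]
  | smul c a _ ha => rw [_root_.map_smul, _root_.map_smul, _root_.map_smul, ha]

/-- The transition map between equal morphisms is the identity. -/
theorem θ_self (h₀ : FibCat.IsFibGrpd 𝒳.p) [IsAffine (sch 𝒳 w)] {r : w ⟶ P.b} (t : w ⟶ P.c)
    (e₁ : t ≫ P.p = r) (e₂ : t ≫ P.q = r) (n : Pull P F r) : θ P F t e₁ e₂ n = n := by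
  obtain ⟨b', hb', ω, δ, hω, hδ₁, hδ₂⟩ := P.pairs (𝟙 P.b) (𝟙 P.b)
  rw [Category.comp_id] at hδ₁ hδ₂
  obtain ⟨z', ρ, s', hz', hc', sq'⟩ := exists_pullback h₀ ω r
  have hρ : FF s' := hω.of_isPullback sq'
  refine eq_of_local (fun _ : Unit => z') (fun _ => s') (fun _ => hρ.1)
    (fun x => ⟨(), by haveI := hρ.2; exact (bmap 𝒳 s').surjective x⟩)
    (f := fun _ => pmap P F s' (r := r) rfl) (fun _ => isBC_pmap P F _ _) _ _ fun _ => ?_
  have g₁ : ρ ≫ ω = s' ≫ r := hc'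
  rw [pmap_θ P F s' t e₁ e₂ (s' ≫ t) rfl rfl rfl,
    θ_unique P F (s' ≫ t) (ρ ≫ δ) _ _ (by rw [Category.assoc, hδ₁, g₁]) (by rw [Category.assoc, hδ₂, g₁])]
  set m := pmap P F s' (r := r) rfl n
  clear_value m
  induction (isBC_pu P F (s' ≫ r)).span m using Submodule.span_induction with
  | mem y hy =>
    obtain ⟨m₀, rfl⟩ := hy
    rw [← pmap_pu P F ρ g₁ m₀, ← pmap_θ P F ρ δ hδ₁ hδ₂ (ρ ≫ δ) rfl g₁ g₁]
    exact congrArg _ ((ev_bijective P F ω hω.1).1 (ev_θ P F δ hδ₁ hδ₂ _))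
  | zero => simp
  | add a b _ _ ha hb => rw [_root_.map_add, ha, hb]
  | smul c a _ ha => rw [_root_.map_smul, ha]

end Groth.Agent.StQC14
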