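import Groth.Agent.Lib.StQC14.FibPres
import Groth.Agent.Lib.ModM1.Local
import Mathlib.AlgebraicGeometry.QuasiAffine

/-!
# The structure sheaf generates relative to a quasi-affine morphism
-/

universe v₁ w₁ w v u

open CategoryTheory CategoryTheory.Functor CategoryTheory.Limits AlgebraicGeometry Opposite

set_option linter.style.haveILetI false
set_option linter.unusedSectionVars false
set_option backward.isDefEq.respectTransparency false
set_option backward.isDefEq.respectTransparency.types false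

namespace Groth.Agent.StQC14

open StMod

/-- On a quasi-affine scheme a morphism of quasi-coherent modules vanishing on global sections is zero. -/
theorem hom_eq_zero_of_isQuasiAffine {X : Scheme.{u}} [X.IsQuasiAffine] {M N : X.Modules} (hM : Coh.IsQCoh M)
    (u : M ⟶ N) (h : ∀ s : Γ(M, ⊤), u.app ⊤ s = 0) : u = 0 := by
  haveI := hM
  refine Scheme.Modules.hom_ext _ _ fun U => ConcreteCategory.hom_ext _ _ fun s => ?_
  refine M1.section_ext _ _ fun x hx => ?_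
  obtain ⟨_, ⟨_, ⟨r, -, rfl⟩, rfl⟩, hxr, hrU⟩ :=
    (Scheme.IsQuasiAffine.isBasis_basicOpen X).exists_subset_of_mem_open hx U.isOpen
  have hle : ⊤ ⊓ X.basicOpen r ≤ U := inf_le_right.trans hrU
  obtain ⟨n, t, ht⟩ := M1.locSurj_of_isCompact M r (U := ⊤) isCompact_univ (M1.mres M hle s)
  have h0 : u.app _ (M1.mres M hle s) = 0 := by
    have h1 := congrArg (u.app (⊤ ⊓ X.basicOpen r)) ht
    rw [M1.app_mres, h t, map_zero, Scheme.Modules.Hom.app_smul] at h1
    exact ((M1.isUnit_rs (f := r) inf_le_right).pow n).smul_eq_zero.1 h1.symm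
  have h2 : N.presheaf.germ U x hx (u.app U s) = 0 := by
    rw [← N.presheaf.germ_res_apply (homOfLE hle) x ⟨trivial, hxr⟩]
    show N.presheaf.germ _ x _ (M1.mres N hle (u.app U s)) = 0
    rw [← M1.app_mres, h0, map_zero]
  exact h2.trans ((map_zero _).symm.trans (congrArg _ rfl))

variable {S : Scheme.{u}} {𝒳 : BasedCategory.{v, w} (Over S)}

/-- The morphism from the structure sheaf given by a section on a terminal object. -/
noncomputable def secHomTerm {τ : 𝒳.obj} (t : ∀ x : 𝒳.obj, x ⟶ τ)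
    (ht : ∀ {x : 𝒳.obj} (a b : x ⟶ τ), a = b) (M : Mod 𝒳) (s : Γ(M.obj τ, ⊤)) : O 𝒳 ⟶ M where
  app x := M1.secHom (M.mapTop (t x) s)
  comm {x' x} φ {g} hg := by
    refine M1.unit_hom_ext ?_
    show (M1.secHom (M.mapTop (t x') s)).app ⊤ ((unitMap g).app ⊤ (M1.one ⊤)) =
      (M.map φ hg).app ⊤ ((M1.secHom (M.mapTop (t x) s)).app ⊤ (M1.one ⊤))
    rw [M1.secHom_app_one]
    have h1 : (unitMap g).app ⊤ (M1.one (X := sch 𝒳 x) ⊤) = M1.one (X := sch 𝒳 x') ⊤ :=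
      map_one (g.app ⊤).hom
    refine (congrArg _ h1).trans ((M1.secHom_app_one _).trans ?_)
    rw [ht (t x') (φ ≫ t x), Mod.mapTop_comp, Mod.mapTop_eq M φ hg]

/-- The structure sheaf generates on a category with a quasi-affine terminal object. -/
theorem isGenFam_O_of_terminal {τ : 𝒳.obj} (t : ∀ x : 𝒳.obj, x ⟶ τ)
    (ht : ∀ {x : 𝒳.obj} (a b : x ⟶ τ), a = b) (hq : (sch 𝒳 τ).IsQuasiAffine) :
    IsGenFam (fun _ : PUnit.{u + 1} => OQ 𝒳) := by
  haveI := hq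
  refine (isGenFam_iff _).2 fun M N u hu => ?_
  have hτ : u.hom.app τ = 0 := hom_eq_zero_of_isQuasiAffine (M.property.2 τ) _ fun s => by
    have h := congrArg (fun v : O 𝒳 ⟶ N.obj => (v.app τ).app ⊤ (M1.one ⊤))
      (hu PUnit.unit (secHomTerm t ht M.obj s))
    simp only [Mod.comp_app, Mod.zero_app, Scheme.Modules.Hom.comp_app] at h
    refine Eq.trans ?_ h
    show (u.hom.app τ).app ⊤ s = (u.hom.app τ).app ⊤ ((M1.secHom (M.obj.mapTop (t τ) s)).app ⊤ (M1.one ⊤))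
    rw [M1.secHom_app_one, ht (t τ) (𝟙 τ), Mod.mapTop_id]
  refine InducedCategory.hom_ext (Mod.hom_ext fun x => ?_)
  have hc := u.hom.comm (t x) (g := bmap 𝒳 (t x)) rfl
  rw [hτ, zero_comp] at hc
  haveI := M.property.1 (t x) (g := bmap 𝒳 (t x)) rfl
  show u.hom.app x = 0
  have h1 := congrArg (((Scheme.Modules.pullbackPushforwardAdjunction (bmap 𝒳 (t x))).homEquiv _ _).symm) hc
  rw [Adjunction.homEquiv_naturality_right_symm] at h1
  have h2 : ((Scheme.Modules.pullbackPushforwardAdjunction (bmap 𝒳 (t x))).homEquiv (M.obj.obj τ) (N.obj.obj x)).symm 0 = 0 := by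
    rw [Adjunction.homEquiv_counit, Functor.map_zero, zero_comp]
  rw [h2] at h1
  exact (cancel_epi _).1 (h1.trans comp_zero.symm)

/-- The structure sheaf pulls back to the structure sheaf. -/
theorem cancel_comap_O {ℬ : BasedCategory.{v₁, w₁} (Over S)} (π : ℬ ⥤ᵇ 𝒳) {M N : Mod ℬ} (φ : O ℬ ⟶ M) (u : M ⟶ N)
    (hu : ∀ ψ : Mod.comap π (O 𝒳) ⟶ M, ψ ≫ u = 0) : φ ≫ u = 0 := by
  let e : Mod.comap π (O 𝒳) ≅ O ℬ := comapOIso π
  have h := hu (e.hom ≫ φ)
  rw [Category.assoc] at h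
  rw [← cancel_epi e.hom, h, comp_zero]

/-- Terminal objects are carried along full essentially surjective functors. -/
theorem exists_terminal_map {𝒜 : Type*} [Category 𝒜] {ℬ : Type*} [Category ℬ] (Φ : 𝒜 ⥤ ℬ) [Φ.Full] [Φ.EssSurj]
    {τ : 𝒜} (t : ∀ x : 𝒜, x ⟶ τ) (ht : ∀ {x : 𝒜} (a b : x ⟶ τ), a = b) :
    ∃ t' : ∀ y : ℬ, y ⟶ Φ.obj τ, ∀ {y : ℬ} (a b : y ⟶ Φ.obj τ), a = b := by
  refine ⟨fun y => (Φ.objObjPreimageIso y).inv ≫ Φ.map (t _), fun {y} a b => ?_⟩
  obtain ⟨a', ha⟩ := Φ.map_surjective ((Φ.objObjPreimageIso y).hom ≫ a)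
  obtain ⟨b', hb⟩ := Φ.map_surjective ((Φ.objObjPreimageIso y).hom ≫ b)
  rw [← cancel_epi (Φ.objObjPreimageIso y).hom, ← ha, ← hb, ht a' b']

open Groth.Agent.FC16 Groth.Agent.StAlg Groth.Agent.StAlg16 AlgSt in
/-- The structure sheaf generates relative to a quasi-affine morphism. -/
theorem isRelGenFam_O {𝒳 𝒴 : AlgSt.Cat S} (h𝒳 : FibCat.IsFibGrpd 𝒳.p) (h𝒴 : FibCat.IsFibGrpd 𝒴.p)
    (f : 𝒳 ⥤ᵇ 𝒴) (hf : AlgSt.RepByAlgSpWith AlgSp.IsQuasiAffineMor f) :
    StMod.IsRelGenFam f (fun _ : PUnit.{u + 1} => StMod.OQ 𝒳) := by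
  haveI := FC16.isFibered h𝒴
  intro η hη
  haveI : IsAffine (𝒴.p.obj η).left := hη
  obtain ⟨F, e, he, hP⟩ := hf (𝒴.p.obj η) (objFun η)
  obtain ⟨W, i, fst, sq, hW⟩ := hP (Z := 𝒴.p.obj η) hη (𝟙 _)
  haveI : IsIso fst := sq.isIso_fst_of_isIso
  let T : (AlgSt.ofSp F.obj).obj := ⟨W, fst.hom.app (op W) ⟨𝟙 W⟩⟩
  have hb : ∀ V : Over S, Function.Bijective (fst.hom.app (op V)) := fun V =>
    ConcreteCategory.bijective_of_isIso (((ObjectProperty.ι _).map fst).app (op V))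
  have key : ∀ (a : (AlgSt.ofSp F.obj).obj) (g : a.base ⟶ W),
      F.obj.obj.map g.op T.sec = fst.hom.app (op a.base) ⟨g⟩ := fun a g => by
    refine (NatTrans.naturality_apply fst.hom g.op ⟨𝟙 W⟩).symm.trans ?_
    congr 1
  have hex : ∀ a : (AlgSt.ofSp F.obj).obj, ∃ k : a ⟶ T, True := fun a => by
    obtain ⟨⟨g⟩, hg⟩ := (hb a.base).2 a.sec
    exact ⟨⟨g, (key a g).trans hg⟩, trivial⟩
  choose tt htt using hex
  haveI : e.toFunctor.IsEquivalence := by
    obtain ⟨G, ⟨i₁⟩, ⟨i₂⟩⟩ := he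
    exact (CategoryTheory.Equivalence.mk e.toFunctor G.toFunctor
      ((BasedNatTrans.forgetful _ _).mapIso i₁).symm ((BasedNatTrans.forgetful _ _).mapIso i₂)).isEquivalence_functor
  obtain ⟨t₁, ht₁⟩ := exists_terminal_map e.toFunctor tt fun {a} k k' => by
    obtain ⟨g, hg⟩ := k
    obtain ⟨g', hg'⟩ := k'
    have e' := congrArg ULift.down ((hb a.base).1
      (((key a g).symm.trans hg).trans (hg'.symm.trans (key a g'))))
    cases e'
    rfl
  haveI := toFib_full f η h𝒳 h𝒴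
  haveI := toFib_essSurj f η h𝒳 h𝒴
  obtain ⟨t₂, ht₂⟩ := exists_terminal_map (toFib f η).toFunctor t₁ ht₁
  let τ := (toFib f η).obj (e.obj T)
  haveI := hW
  let j : sch (fibCat f η) τ ⟶ W.left :=
    eqToHom (sch_obj_eq (toFib f η) (e.obj T)) ≫ eqToHom (sch_obj_eq e T)
  haveI : CompactSpace ↥(sch (fibCat f η) τ) := QuasiCompact.compactSpace_of_compactSpace j
  refine (isGenFam_iff _).2 fun M N u hu => (isGenFam_iff _).1
    (isGenFam_O_of_terminal (𝒳 := fibCat f η) (τ := τ) t₂ ht₂ (Scheme.IsQuasiAffine.of_isImmersion j)) u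
    fun i φ => ?_
  exact cancel_comap_O (fibFst f η) φ u.hom fun ψ => hu i ψ

end Groth.Agent.StQC14
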