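import Groth.Agent.Lib.StQC14.AffGen
import Groth.Agent.Lib.StQC14.SchMod
import Groth.Agent.Lib.Quot16.Chart
import Groth.Agent.Lib.StQC14.LocFree

/-!
# The chart of a quotient stack by an affine group scheme
-/

universe u

open CategoryTheory CategoryTheory.Limits MonoidalCategory CartesianMonoidalCategory MonObj GrpObj
  AlgebraicGeometry

set_option linter.style.haveILetI false
set_option linter.unusedSectionVars false
set_option backward.isDefEq.respectTransparency false
set_option backward.isDefEq.respectTransparency.types false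
set_option maxHeartbeats 1000000

namespace Groth.Agent.StQC14

open StMod AlgSt Groth.Agent.Quot16
open FC16 hiding overMap

variable {S : Scheme.{u}} (G : Over S) [GrpObj G] [IsAffineHom G.hom] {X : Over S} (aX : AlgGrp.Action G X)

/-- The chart. -/
noncomputable abbrev qT : Over X ⥤ QuotObj Scheme.fppfPrecoverage G aX :=
  (chartMap Scheme.fppfPrecoverage aX).toFunctor

variable {G aX}

theorem secC_comp {A B : QuotObj Scheme.fppfPrecoverage G aX} (b : Over X)
    (h : (chartMap Scheme.fppfPrecoverage aX).obj b ⟶ A) (g : A ⟶ B) : secC b (h ≫ g) = secC b h ≫ g.top := by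
  with_unfolding_all exact sec_comp (x := b.hom) h g

theorem secC_eq {A : QuotObj Scheme.fppfPrecoverage G aX} (b : Over X)
    (h : (chartMap Scheme.fppfPrecoverage aX).obj b ⟶ A) : secC b h = unitSec b.left ≫ h.top := by
  with_unfolding_all rfl

/-- The total space of a torsor over `X`. -/
noncomputable abbrev qLift (A : QuotObj Scheme.fppfPrecoverage G aX) : Over X := Over.mk A.φ

/-- The tautological morphism from the trivial torsor on a torsor. -/
noncomputable abbrev qκ (A : QuotObj Scheme.fppfPrecoverage G aX) : (qT G aX).obj (qLift A) ⟶ A :=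
  homC A (qLift A) (𝟙 A.P) (Category.id_comp _)

theorem qκ_base (A : QuotObj Scheme.fppfPrecoverage G aX) : (qκ A).base = A.π :=
  (homC_base A (qLift A) (𝟙 A.P) (Category.id_comp _)).trans (Category.id_comp _)

theorem qκ_top (A : QuotObj Scheme.fppfPrecoverage G aX) : unitSec A.P ≫ (qκ A).top = 𝟙 A.P :=
  (secC_eq (qLift A) (qκ A)).symm.trans (secC_homC A (qLift A) (𝟙 A.P) (Category.id_comp _))

/-- The pieces of the chart. -/
noncomputable def quotLift : AffLift (𝒳 := QuotSt Scheme.fppfPrecoverage G aX) (qT G aX) where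
  lift := qLift
  κ := qκ
  affine A := by
    show IsAffineHom (qκ A).base.left
    rw [qκ_base]
    exact π_isAffineHom (A := A)
  map {A' A} φ := Over.homMk φ.top φ.wφ
  fac {A' A} φ := by
    refine secC_ext (qLift A') ?_
    rw [secC_precomp, secC_homC, secC_comp, secC_homC]
    exact (Category.comp_id _).trans (Category.id_comp _).symm
  sq {A' A} φ := by
    show IsPullback φ.top.left (qκ A').base.left (qκ A).base.left φ.base.left
    rw [qκ_base, qκ_base]
    exact φ.cart.map (Over.forget S)
  map_id A := Over.OverMorphism.ext rfl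
  map_comp ψ φ := Over.OverMorphism.ext rfl

theorem qσ_w (d : Over X) : unitSec d.left ≫ ((qT G aX).obj d).φ = d.hom := by
  have e : ((qT G aX).obj d).φ = (G ◁ d.hom) ≫ aX.act := triv_φ (aX := aX) d.hom
  rw [e]
  exact unitSec_whisker_act aX d.hom

/-- The unit section. -/
noncomputable def qσ (d : Over X) : d ⟶ qLift ((qT G aX).obj d) :=
  Over.homMk (U := d) (V := qLift ((qT G aX).obj d)) (unitSec d.left) (qσ_w d)

theorem qσ_fac (d : Over X) : (qT G aX).map (qσ d) ≫ qκ ((qT G aX).obj d) = 𝟙 _ := by
  refine secC_ext d ?_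
  rw [secC_precomp, secC_homC, secC_eq d (𝟙 _)]
  rfl

theorem qT_map_top {d' d : Over X} (k : d' ⟶ d) : ((qT G aX).map k).top = G ◁ k.left := rfl

theorem quotLift_map_left {A' A : QuotObj Scheme.fppfPrecoverage G aX} (φ : A' ⟶ A) :
    ((quotLift (G := G) (aX := aX)).map φ).left = φ.top := rfl

theorem qσ_left (d : Over X) : (qσ (aX := aX) d).left = unitSec d.left := rfl

theorem qσ_nat {d' d : Over X} (k : d' ⟶ d) :
    (qσ (aX := aX) d').left ≫ ((qT G aX).map k).top = k.left ≫ (qσ (aX := aX) d).left :=
  (unitSec_natural (G := G) k.left)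

/-- The unit sections. -/
noncomputable def quotLiftSec : (quotLift (G := G) (aX := aX)).Sec where
  σ := qσ
  fac := qσ_fac
  nat {d' d} k := by
    refine Over.OverMorphism.ext ?_
    rw [Over.comp_left, Over.comp_left, quotLift_map_left]
    exact qσ_nat k
  retr A := by
    refine Over.OverMorphism.ext ?_
    rw [Over.comp_left, quotLift_map_left, qσ_left]
    exact qκ_top A

/-- The category of points of `X` mapped to the chart. -/
def pointsToRes : FibCat.overCat X ⥤ᵇ resCat (𝒳 := QuotSt Scheme.fppfPrecoverage G aX) (qT G aX) :=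
  ⟨𝟭 _, rfl⟩

/-- If vector bundles separate on the quotient stack, the scheme has the resolution property. -/
theorem hasResolutionProperty_of_quotSt [CompactSpace X.left]
    (h : ∀ (M N : QCoh (QuotSt Scheme.fppfPrecoverage G aX)) (a b : M ⟶ N),
      (∀ E : QCoh (QuotSt Scheme.fppfPrecoverage G aX),
        E.obj.IsLocFree → E.obj.IsFinType → ∀ φ : E ⟶ M, φ ≫ a = φ ≫ b) → a = b) :
    PerfAux.HasResolutionProperty X.left := by
  let κ := {E : QCoh (QuotSt Scheme.fppfPrecoverage G aX) // E.obj.IsLocFree ∧ E.obj.IsFinType}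
  have hgen : IsGenFam (fun k : κ => k.1) := (isGenFam_iff _).2 fun M N u hu =>
    h M N u 0 fun E h1 h2 φ => InducedCategory.hom_ext ((hu ⟨E, h1, h2⟩ φ.hom).trans comp_zero.symm)
  have h1 := (quotLift (G := G) (aX := aX)).isGenFam quotLiftSec (overCat_isFibGrpd X) hgen
  refine hasResolutionProperty_of_isGenFam (X := X)
    (E := fun k : κ => (comapQ (resIncl (𝒳 := QuotSt Scheme.fppfPrecoverage G aX) (qT G aX))).obj k.1) h1 fun k => ?_
  exact isFinLocFree_iff_locallyFree.2 ⟨k.2.1 ((qT G aX).obj (Over.mk (𝟙 X))), k.2.2 ((qT G aX).obj (Over.mk (𝟙 X)))⟩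

end Groth.Agent.StQC14
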