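import Groth.Agent.Lib.StQC14.ResDimOne
import Groth.Agent.Lib.HTop25.Basic
import Groth.Agent.Lib.VB17.Setup

/-!
# Regular schemes of dimension at most one have affine intersections
-/

universe u

open CategoryTheory CategoryTheory.Limits AlgebraicGeometry TopologicalSpace

set_option linter.style.haveILetI false
set_option linter.unusedSectionVars false
set_option backward.isDefEq.respectTransparency false
set_option backward.isDefEq.respectTransparency.types false

namespace Groth.Agent.StQC14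

section Ring

variable {R : Type u} [CommRing R]

/-- Ideals are principal near each maximal ideal. -/
theorem exists_principal_near (hR : RegDimOne R) (I P : Ideal R) [P.IsMaximal] :
    ∃ g, g ∉ P ∧ ∃ t ∈ I, ∀ y ∈ I, g * y ∈ Ideal.span {t} := by
  haveI := hR.1
  obtain ⟨hreg, hdim⟩ := hR.2 P
  haveI := hreg
  haveI := isPrincipalIdealRing_of_regular_dim_le_one (Localization.AtPrime P) hdim
  obtain ⟨x, hx⟩ := IsPrincipalIdealRing.principal (I.map (algebraMap R (Localization.AtPrime P)))
  have hxm : x ∈ I.map (algebraMap R (Localization.AtPrime P)) := hx ▸ Submodule.mem_span_singleton_self x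
  obtain ⟨⟨⟨t, ht⟩, s⟩, hts⟩ := (IsLocalization.mem_map_algebraMap_iff P.primeCompl _).1 hxm
  have hloc : ∀ y : R, y ∈ I → ∃ g, g ∉ P ∧ g * y ∈ Ideal.span {t} := by
    intro y hy
    have h : algebraMap R (Localization.AtPrime P) y ∈ Ideal.span {x} := by
      have := Ideal.mem_map_of_mem (algebraMap R (Localization.AtPrime P)) hy
      rwa [hx] at this
    obtain ⟨c, hc⟩ := Ideal.mem_span_singleton'.1 h
    obtain ⟨⟨a, b⟩, hab⟩ := IsLocalization.surj P.primeCompl c
    have e : algebraMap R (Localization.AtPrime P) (b.1 * s.1 * y) = algebraMap R (Localization.AtPrime P) (a * t) := by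
      rw [map_mul, map_mul, map_mul, ← hc, ← hab, ← hts]
      ring
    obtain ⟨d, hd⟩ := (IsLocalization.eq_iff_exists P.primeCompl (Localization.AtPrime P)).1 e
    refine ⟨d.1 * (b.1 * s.1), (d * (b * s)).2, Ideal.mem_span_singleton'.2 ⟨d.1 * a, ?_⟩⟩
    linear_combination -hd
  obtain ⟨T, hT⟩ := IsNoetherian.noetherian I
  choose g hg hgy using hloc
  classical
  have hmem : ∀ z : {z // z ∈ T}, z.1 ∈ I := fun z => hT ▸ Submodule.subset_span z.2
  refine ⟨∏ z ∈ T.attach, g z.1 (hmem z), ?_, t, ht, ?_⟩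
  · exact (Submonoid.prod_mem P.primeCompl fun (z : {z // z ∈ T}) _ => hg z.1 (hmem z) : _ ∈ P.primeCompl)
  · intro y hy
    rw [← hT] at hy
    induction hy using Submodule.span_induction with
    | mem y hy =>
      rw [← Finset.mul_prod_erase _ _ (T.mem_attach ⟨y, hy⟩), mul_assoc, mul_comm _ y, ← mul_assoc]
      exact Ideal.mul_mem_right _ _ (hgy y _)
    | zero => rw [mul_zero]; exact zero_mem _
    | add a b _ _ ha hb => rw [mul_add]; exact add_mem ha hb
    | smul c a _ ha => rw [smul_eq_mul, mul_left_comm]; exact Ideal.mul_mem_left _ _ ha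

end Ring

variable {X : Scheme.{u}}

theorem regDimOne_of_isAffineOpen [IsLocallyNoetherian X] (hreg : ∀ x : X, IsRegularLocalRing (X.presheaf.stalk x))
    (hdim : ∀ x : X, ringKrullDim (X.presheaf.stalk x) ≤ 1) {U : X.Opens} (hU : IsAffineOpen U) :
    RegDimOne Γ(X, U) := by
  refine ⟨IsLocallyNoetherian.component_noetherian ⟨U, hU⟩, fun P hP => ?_⟩
  let y : PrimeSpectrum Γ(X, U) := ⟨P, hP.isPrime⟩
  have hy : hU.fromSpec y ∈ U := hU.range_fromSpec.le ⟨y, rfl⟩
  letI := X.presheaf.algebra_section_stalk ⟨hU.fromSpec y, hy⟩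
  haveI : IsLocalization.AtPrime (X.presheaf.stalk (hU.fromSpec y)) P := hU.isLocalization_stalk' y hy
  let e : X.presheaf.stalk (hU.fromSpec y) ≃+* Localization.AtPrime P :=
    (IsLocalization.algEquiv P.primeCompl (X.presheaf.stalk (hU.fromSpec y)) (Localization.AtPrime P)).toRingEquiv
  haveI := hreg (hU.fromSpec y)
  exact ⟨IsRegularLocalRing.of_ringEquiv e, (ringKrullDim_eq_of_ringEquiv e).symm.trans_le (hdim _)⟩

/-- In dimension at most one, open subsets of affine opens are affine. -/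
theorem isAffineOpen_of_le [IsLocallyNoetherian X] (hreg : ∀ x : X, IsRegularLocalRing (X.presheaf.stalk x))
    (hdim : ∀ x : X, ringKrullDim (X.presheaf.stalk x) ≤ 1) {W : X.Opens} (hW : IsAffineOpen W) {D : X.Opens}
    (hD : D ≤ W) : IsAffineOpen D := by
  classical
  have hR := regDimOne_of_isAffineOpen hreg hdim hW
  let G : Set Γ(X, W) := {g | IsAffineOpen (D ⊓ X.basicOpen g)}
  have hspan : Ideal.span G = ⊤ := by
    by_contra hne
    obtain ⟨P, hP, hle⟩ := Ideal.exists_le_maximal _ hne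
    obtain ⟨g, hgP, t, ht, hg⟩ := exists_principal_near hR (Ideal.span {t : Γ(X, W) | X.basicOpen t ≤ D}) P
    refine hgP (hle (Ideal.subset_span ?_))
    show IsAffineOpen (D ⊓ X.basicOpen g)
    suffices e : D ⊓ X.basicOpen g = X.basicOpen (g * t) by rw [e]; exact hW.basicOpen _
    have htD : X.basicOpen t ≤ D := by
      intro x hx
      by_contra hxD
      have hxW : x ∈ W := X.basicOpen_le t hx
      have hu : IsUnit (X.presheaf.germ W x hxW t) := (X.mem_basicOpen t x hxW).1 hx
      have hmem : X.presheaf.germ W x hxW t ∈ IsLocalRing.maximalIdeal (X.presheaf.stalk x) := by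
        have : Ideal.span {t : Γ(X, W) | X.basicOpen t ≤ D} ≤
            (IsLocalRing.maximalIdeal (X.presheaf.stalk x)).comap (X.presheaf.germ W x hxW).hom :=
          Ideal.span_le.2 fun y hy hu' => hxD (hy ((X.mem_basicOpen y x hxW).2 hu'))
        exact this ht
      exact hmem hu
    refine le_antisymm ?_ ?_
    · rintro x ⟨hxD, hxg⟩
      obtain ⟨y, hy, hxy⟩ := hW.exists_basicOpen_le ⟨x, hxD⟩ (X.basicOpen_le g hxg)
      obtain ⟨c, hc⟩ := Ideal.mem_span_singleton'.1 (hg y (Ideal.subset_span hy))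
      rw [Scheme.basicOpen_mul]
      refine ⟨hxg, ?_⟩
      have h2 : x ∈ X.basicOpen (c * t) := by
        rw [hc, Scheme.basicOpen_mul]
        exact ⟨hxg, hxy⟩
      rw [Scheme.basicOpen_mul] at h2
      exact h2.2
    · rw [Scheme.basicOpen_mul]
      exact le_inf (inf_le_right.trans htD) inf_le_left
  let r : Γ(X, W) →+* Γ(X, D) := (X.presheaf.map (homOfLE hD).op).hom
  refine isAffineOpen_of_isAffineOpen_basicOpen D (r '' G) ?_ ?_
  · rw [← Ideal.map_span, hspan, Ideal.map_top]
  · rintro _ ⟨g, hg, rfl⟩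
    show IsAffineOpen (X.basicOpen (X.presheaf.map (homOfLE hD).op g))
    rw [Scheme.basicOpen_res]
    exact hg

theorem isAffineHom_opens_ι [IsLocallyNoetherian X] (hreg : ∀ x : X, IsRegularLocalRing (X.presheaf.stalk x))
    (hdim : ∀ x : X, ringKrullDim (X.presheaf.stalk x) ≤ 1) {W : X.Opens} (hW : IsAffineOpen W) :
    IsAffineHom W.ι := by
  refine ⟨fun U _ => ?_⟩
  rw [← W.ι.isAffineOpen_iff_of_isOpenImmersion, Scheme.Hom.image_preimage_eq_opensRange_inf, Scheme.Opens.opensRange_ι]
  exact isAffineOpen_of_le hreg hdim hW inf_le_left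

/-- An affine cover with affine morphism. -/
theorem exists_affine_cover [IsNoetherian X] (hreg : ∀ x : X, IsRegularLocalRing (X.presheaf.stalk x))
    (hdim : topologicalKrullDim X ≤ 1) :
    ∃ (V : Scheme.{u}) (f : V ⟶ X), IsAffine V ∧ IsAffineHom f ∧ Flat f ∧ LocallyOfFinitePresentation f ∧
      Surjective f ∧ RegDimOne Γ(V, ⊤) := by
  have hd : ∀ x : X, ringKrullDim (X.presheaf.stalk x) ≤ 1 := fun x =>
    (VB17.ringKrullDim_stalk_le_topologicalKrullDim x).trans hdim
  choose W hW hxW _ using fun x : X => exists_isAffineOpen_mem_and_subset (x := x) (U := ⊤) trivial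
  obtain ⟨s, hs⟩ := isCompact_univ.elim_finite_subcover (fun x => (W x : Set X)) (fun x => (W x).isOpen)
    fun x _ => Set.mem_iUnion.2 ⟨x, hxW x⟩
  haveI : ∀ x : s, IsAffine (W x.1).toScheme := fun x => hW x.1
  haveI : ∀ x : s, IsAffineHom (W x.1).ι := fun x => isAffineHom_opens_ι hreg hd (hW x.1)
  let f : (∐ fun x : s => (W x.1).toScheme) ⟶ X := Sigma.desc fun x : s => (W x.1).ι
  haveI hfa : IsAffineHom f := HTop25.isAffineHom_sigmaDesc _
  haveI hfl : Flat f := IsZariskiLocalAtSource.sigmaDesc fun x => inferInstance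
  haveI hfp : LocallyOfFinitePresentation f := IsZariskiLocalAtSource.sigmaDesc fun x => inferInstance
  haveI : LocallyOfFiniteType f := inferInstance
  haveI : IsLocallyNoetherian (∐ fun x : s => (W x.1).toScheme) := LocallyOfFiniteType.isLocallyNoetherian f
  have hst : ∀ v : ↥(∐ fun x : s => (W x.1).toScheme), ∃ y : X, Nonempty (X.presheaf.stalk y ≃+* (∐ fun x : s => (W x.1).toScheme).presheaf.stalk v) := by
    intro v
    obtain ⟨i, y, rfl⟩ := HTop25.exists_sigma_ι v
    exact ⟨y.1, ⟨((W i.1).stalkIso y).symm.commRingCatIsoToRingEquiv.trans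
      (asIso ((Sigma.ι (fun x : s => (W x.1).toScheme) i).stalkMap y)).commRingCatIsoToRingEquiv.symm⟩⟩
  refine ⟨_, f, inferInstance, hfa, hfl, hfp, ⟨fun x => ?_⟩,
    regDimOne_of_isAffineOpen (fun v => ?_) (fun v => ?_) (isAffineOpen_top _)⟩
  · have h : x ∈ Set.range (Sigma.desc fun x : s => (W x.1).ι) := by
      rw [HTop25.range_sigmaDesc]
      obtain ⟨i, hi, hx⟩ := Set.mem_iUnion₂.1 (hs (Set.mem_univ x))
      exact Set.mem_iUnion.2 ⟨⟨i, hi⟩, ⟨x, hx⟩, rfl⟩
    exact h
  · obtain ⟨y, ⟨e⟩⟩ := hst v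
    haveI := hreg y
    exact IsRegularLocalRing.of_ringEquiv e
  · obtain ⟨y, ⟨e⟩⟩ := hst v
    exact (ringKrullDim_eq_of_ringEquiv e).symm.trans_le (hd y)

end Groth.Agent.StQC14
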