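import Groth.Agent.Lib.StQC14.Cofree
import Groth.Agent.Lib.RegLoc.Basic
import Mathlib.RingTheory.DiscreteValuationRing.TFAE
import Mathlib.RingTheory.Flat.Stability
import Mathlib.RingTheory.Flat.TorsionFree
import Mathlib.RingTheory.LocalProperties.Projective
import Mathlib.LinearAlgebra.FreeModule.PID

/-!
# The resolution property for atlases which are regular of dimension at most one
-/

universe w v u

open CategoryTheory CategoryTheory.Functor CategoryTheory.Limits AlgebraicGeometry Opposite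

set_option linter.style.haveILetI false
set_option linter.unusedSectionVars false
set_option backward.isDefEq.respectTransparency false
set_option backward.isDefEq.respectTransparency.types false

namespace Groth.Agent.StQC14

open StMod

section Ring

variable {R : Type u} [CommRing R]

/-- Regularity in dimension at most one, at all maximal ideals. -/
def RegDimOne (R : Type u) [CommRing R] : Prop :=
  IsNoetherianRing R ∧ ∀ (P : Ideal R) [P.IsMaximal],
    IsRegularLocalRing (Localization.AtPrime P) ∧ ringKrullDim (Localization.AtPrime P) ≤ 1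

theorem isPrincipalIdealRing_of_regular_dim_le_one (O : Type u) [CommRing O] [IsRegularLocalRing O]
    (h : ringKrullDim O ≤ 1) : IsPrincipalIdealRing O := by
  haveI := RegLoc.isDomain O
  have h1 : ((IsLocalRing.maximalIdeal O).spanFinrank : WithBot ℕ∞) ≤ 1 := by
    rw [IsRegularLocalRing.spanFinrank_maximalIdeal]
    exact h
  have h1' : (IsLocalRing.maximalIdeal O).spanFinrank ≤ 1 := by exact_mod_cast h1
  have hp : (IsLocalRing.maximalIdeal O).IsPrincipal := by
    rcases Nat.le_one_iff_eq_zero_or_eq_one.1 h1' with h | h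
    · rw [(Submodule.spanFinrank_eq_zero_iff_eq_bot (IsNoetherian.noetherian _)).1 h]
      exact bot_isPrincipal
    · exact ((Submodule.spanFinrank_eq_one_iff _).1 h).1
  have e : (IsLocalRing.maximalIdeal O).IsPrincipal ↔ IsPrincipalIdealRing O :=
    (tfae_of_isNoetherianRing_of_isLocalRing_of_isDomain O).out 4 0
  exact e.1 hp

/-- Finite submodules of flat modules are projective in dimension at most one. -/
theorem projective_of_injective_flat (hR : RegDimOne R) {N W : Type u} [AddCommGroup N] [Module R N]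
    [Module.Finite R N] [AddCommGroup W] [Module R W] [Module.Flat R W] (ι : N →ₗ[R] W)
    (hι : Function.Injective ι) : Module.Projective R N := by
  haveI := hR.1
  haveI : Module.FinitePresentation R N := Module.finitePresentation_of_finite R N
  refine Module.projective_of_localization_maximal fun P hP => ?_
  obtain ⟨hreg, hdim⟩ := hR.2 P
  haveI := hreg
  haveI := RegLoc.isDomain (Localization.AtPrime P)
  haveI := isPrincipalIdealRing_of_regular_dim_le_one (Localization.AtPrime P) hdim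
  have hinj : Function.Injective (LocalizedModule.map P.primeCompl ι) := LocalizedModule.map_injective P.primeCompl ι hι
  haveI : Module.IsTorsionFree (Localization.AtPrime P) (LocalizedModule P.primeCompl N) :=
    hinj.moduleIsTorsionFree _ (map_smul _)
  infer_instance

end Ring

variable {S : Scheme.{u}} {𝒳 : BasedCategory.{v, w} (Over S)} (A : Atlas 𝒳)

theorem Atlas.finite_sections (F : QCoh 𝒳) (hF : F.obj.IsFinType) :
    Module.Finite Γ(sch 𝒳 A.b, ⊤) Γ(F.obj.obj A.b, ⊤) :=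
  M1.finite_sections (F.property.2 A.b) (hF A.b) (isAffineOpen_top _)

/-- Modules of finite type are quotients of vector bundles. -/
theorem Atlas.exists_locFree_surj (hA : RegDimOne Γ(sch 𝒳 A.b, ⊤)) (F : QCoh 𝒳)
    [Module.Finite Γ(sch 𝒳 A.b, ⊤) Γ(F.obj.obj A.b, ⊤)] :
    ∃ (E : QCoh 𝒳) (q : E ⟶ F), E.obj.IsLocFree ∧ E.obj.IsFinType ∧ Mod.IsSurj q.hom := by
  classical
  haveI := hA.1
  obtain ⟨n, e, he⟩ := Submodule.fg_iff_exists_fin_generating_family.1
    (Module.Finite.fg_top (R := Γ(sch 𝒳 A.b, ⊤)) (M := Γ(F.obj.obj A.b, ⊤)))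
  obtain ⟨H, v, hv, W, _, _, hW, ι, hι⟩ := A.exists_cofree F e he
  haveI := hW
  choose x hx using fun i => hv (e i)
  obtain ⟨N, hN, hK, hst⟩ := A.exists_stable_fg H (Submodule.span Γ(sch 𝒳 A.b, ⊤) (Set.range x))
    (Submodule.fg_span (Set.finite_range x))
  obtain ⟨E, j, hj, hr⟩ := A.exists_sub_qcoh H N hst
  let jl : Γ(E.obj.obj A.b, ⊤) →ₗ[Γ(sch 𝒳 A.b, ⊤)] Γ(H.obj.obj A.b, ⊤) := appL j.hom A.b
  have hjl : LinearMap.range jl = N := SetLike.coe_injective hr
  haveI : Module.Finite Γ(sch 𝒳 A.b, ⊤) (LinearMap.range jl) := Module.Finite.iff_fg.2 (hjl ▸ hN)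
  haveI : Module.Finite Γ(sch 𝒳 A.b, ⊤) Γ(E.obj.obj A.b, ⊤) :=
    Module.Finite.equiv (LinearEquiv.ofInjective jl hj).symm
  haveI : Module.Projective Γ(sch 𝒳 A.b, ⊤) Γ(E.obj.obj A.b, ⊤) :=
    projective_of_injective_flat hA (ι.comp jl) (hι.comp hj)
  obtain ⟨h₁, h₂⟩ := A.isLocFree_and_isFinType E
  refine ⟨E, j ≫ v, h₁, h₂, A.isSurj_of_chart (j ≫ v) fun y => ?_⟩
  let vl : Γ(H.obj.obj A.b, ⊤) →ₗ[Γ(sch 𝒳 A.b, ⊤)] Γ(F.obj.obj A.b, ⊤) := appL v.hom A.b
  have hy : y ∈ Submodule.map vl (LinearMap.range jl) := by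
    have hsub : Submodule.span Γ(sch 𝒳 A.b, ⊤) (Set.range e) ≤ Submodule.map vl (LinearMap.range jl) :=
      Submodule.span_le.2 fun _ ⟨i, hi⟩ => ⟨x i, hjl.symm ▸ hK (Submodule.subset_span ⟨i, rfl⟩), (hx i).trans hi⟩
    exact hsub (he.symm ▸ Submodule.mem_top)
  obtain ⟨_, ⟨z, rfl⟩, hz⟩ := hy
  exact ⟨z, hz⟩

/-- Vector bundles detect morphisms. -/
theorem Atlas.eq_of_locFree (hA : RegDimOne Γ(sch 𝒳 A.b, ⊤)) {M N : QCoh 𝒳} (a b : M ⟶ N)
    (h : ∀ E : QCoh 𝒳, E.obj.IsLocFree → E.obj.IsFinType → ∀ φ : E ⟶ M, φ ≫ a = φ ≫ b) : a = b := by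
  haveI := hA.1
  rw [← sub_eq_zero]
  refine InducedCategory.hom_ext ((A.fpres).toPres.eq_zero A.grpd M.property N.property (a - b).hom fun m => ?_)
  obtain ⟨N', hN', hK, hst⟩ := A.exists_stable_fg M (Submodule.span Γ(sch 𝒳 A.b, ⊤) {m})
    (Submodule.fg_span (Set.finite_singleton m))
  obtain ⟨G, j, hj, hr⟩ := A.exists_sub_qcoh M N' hst
  let jl : Γ(G.obj.obj A.b, ⊤) →ₗ[Γ(sch 𝒳 A.b, ⊤)] Γ(M.obj.obj A.b, ⊤) := appL j.hom A.b
  have hjl : LinearMap.range jl = N' := SetLike.coe_injective hr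
  haveI : Module.Finite Γ(sch 𝒳 A.b, ⊤) (LinearMap.range jl) := Module.Finite.iff_fg.2 (hjl ▸ hN')
  haveI : Module.Finite Γ(sch 𝒳 A.b, ⊤) Γ(G.obj.obj A.b, ⊤) :=
    Module.Finite.equiv (LinearEquiv.ofInjective jl hj).symm
  obtain ⟨E, q, hE₁, hE₂, hq⟩ := A.exists_locFree_surj hA G
  obtain ⟨g, hg⟩ : ∃ g, jl g = m := by
    have : m ∈ LinearMap.range jl := hjl.symm ▸ hK (Submodule.subset_span rfl)
    exact this
  obtain ⟨z, rfl⟩ := hq A.b A.affine_b g
  have h0 : (q ≫ j) ≫ (a - b) = 0 := by rw [Preadditive.comp_sub, h E hE₁ hE₂ (q ≫ j), sub_self]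
  have h1 := congr((($h0).hom.app A.b).app ⊤ z)
  rw [← hg]
  exact h1

end Groth.Agent.StQC14
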