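import Groth.Agent.Lib.StQC14.AtlasChart
import Groth.Agent.Lib.StQC14.RegCover
import Groth.Agent.Lib.StQC14.ResDimOne
import Groth.Agent.Lib.StAlg16.PointsSp
import Groth.Agent.Lib.StAlg16.Topology

/-!
# An affine flat atlas with regular base of dimension at most one
-/

universe u

open CategoryTheory CategoryTheory.Functor CategoryTheory.Limits AlgebraicGeometry Opposite

set_option linter.style.haveILetI false
set_option linter.unusedSectionVars false
set_option backward.isDefEq.respectTransparency false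
set_option backward.isDefEq.respectTransparency.types false

namespace Groth.Agent.StQC14

open StMod Groth.Agent.FC16 Groth.Agent.StAlg Groth.Agent.StAlg16 AlgSt AlgSp

variable {S : Scheme.{u}}

theorem with_isAffineMor_overMap {U V : Over S} (k : U ⟶ V) (hk : IsAffineHom k.left) :
    AlgSt.RepByAlgSpWith AlgSp.IsAffineMor (AlgSt.overMap k) :=
  (with_congr (f := AlgSt.overMap k) (a := AlgSt.toOverCat U) (b := AlgSt.toOverCat V)
    (toOverCat_isEquivOver U) (toOverCat_isEquivOver V) (overMapIso k)).2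
    (StAlg.with_ofPshMap fun W ξ F' fst snd sq => by
      obtain ⟨hF', hA⟩ := AlgSpace.isAlgSpaceP_pullback sq (AlgSpace.isAlgSpaceP_pyon U)
        (AlgSpace.isAlgSpaceP_pyon W) (AlgSpace.isAlgSpaceP_pyon V)
      exact ⟨hF', hA, AlgSpace.isAffineMor_iff_repWith.2 (AlgSpace.repWith_of_isPullback
        (F := (AlgSp.yon S).obj U) (G := (AlgSp.yon S).obj V) (F' := ⟨F', hF'⟩) (G' := (AlgSp.yon S).obj W)
        (a := ObjectProperty.homMk fst) (b := ObjectProperty.homMk ξ) (f' := ObjectProperty.homMk snd)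
        (IsPullback.of_map_of_faithful (sheafToPresheaf (AlgSp.J S) (Type (u + 1))) sq)
        ((AlgSp.repWith_yon_map_iff _ k).2 hk))⟩)

theorem RegDimOne.of_ringEquiv {R R' : Type u} [CommRing R] [CommRing R'] (h : RegDimOne R) (e : R ≃+* R') :
    RegDimOne R' := by
  haveI := h.1
  refine ⟨isNoetherianRing_of_ringEquiv R e, fun P hP => ?_⟩
  haveI : (P.comap e.toRingHom).IsMaximal := Ideal.comap_isMaximal_of_equiv e
  let g : Localization.AtPrime (P.comap e.toRingHom) ≃+* Localization.AtPrime P :=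
    IsLocalization.ringEquivOfRingEquiv (Localization.AtPrime (P.comap e.toRingHom)) (Localization.AtPrime P) e
      (M := (P.comap e.toRingHom).primeCompl) (T := P.primeCompl) (by
        ext x
        simp only [Submonoid.mem_map]
        exact ⟨fun ⟨y, hy, hx⟩ => hx ▸ hy, fun hx => ⟨e.symm x, by simpa [Ideal.primeCompl] using hx, by simp⟩⟩)
  haveI := (h.2 (P.comap e.toRingHom)).1
  exact ⟨IsRegularLocalRing.of_ringEquiv g, (ringKrullDim_eq_of_ringEquiv g).symm.trans_le (h.2 _).2⟩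

theorem exists_atlas_regDimOne {𝒳 : AlgSt.Cat S} (h₀ : FibCat.IsFibGrpd 𝒳.p) (U : Over S) [IsNoetherian U.left]
    (hreg : ∀ x : U.left, IsRegularLocalRing (U.left.presheaf.stalk x))
    (hdim : topologicalKrullDim U.left ≤ 1) (u : FibCat.overCat U ⥤ᵇ 𝒳)
    (hua : AlgSt.RepByAlgSpWith AlgSp.IsAffineMor u) (huf : AlgSt.RepByAlgSpWith (AlgSp.LocP @Flat) u)
    (hus : AlgSt.RepByAlgSpWith AlgSp.IsSurjectiveMor u) :
    ∃ A : Atlas 𝒳, RegDimOne Γ(sch 𝒳 A.b, ⊤) := by
  obtain ⟨V₀, f, hV₀, hfa, hff, -, hfs, hR⟩ := exists_affine_cover hreg hdim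
  let V : Over S := Over.mk (f ≫ U.hom)
  let k : V ⟶ U := Over.homMk f rfl
  haveI : IsAffine V.left := hV₀
  have h1 : AlgSt.RepByAlgSpWith (AlgSp.LocP @Flat) (AlgSt.overMap k) := with_locP_overMap k hff
  have h2 : AlgSt.RepByAlgSpWith AlgSp.IsAffineMor (AlgSt.overMap k) := with_isAffineMor_overMap k hfa
  have h3 : AlgSt.RepByAlgSpWith AlgSp.IsSurjectiveMor (AlgSt.overMap k) := by
    refine with_surjective_of_isSurjective (overCat_isFibGrpd V) (overCat_isFibGrpd U) (repByAlgSp1_of_with h1)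
      fun z => ?_
    obtain ⟨t, ht⟩ := hfs.surj (ptOf z)
    exact ⟨Points.mk (chartPt V t), by rw [map_overMap_chartPt, show k.left t = f t from rfl, ht, mk_chartPt_ptOf]⟩
  let x : FibCat.overCat V ⥤ᵇ 𝒳 := BasedFunctor.comp (AlgSt.overMap k) u
  obtain ⟨A, hA⟩ := exists_atlas (x := x) h₀ (with_comp goodP_isAffineMor (overCat_isFibGrpd V) (overCat_isFibGrpd U) h2 hua)
    (with_comp goodP_locP (overCat_isFibGrpd V) (overCat_isFibGrpd U) h1 huf)
    (with_comp goodP_surjective (overCat_isFibGrpd V) (overCat_isFibGrpd U) h3 hus)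
  refine ⟨A, ?_⟩
  rw [hA]
  exact hR.of_ringEquiv (Scheme.Γ.mapIso (eqToIso (sch_obj_eq x (Over.mk (𝟙 V)))).op).commRingCatIsoToRingEquiv

end Groth.Agent.StQC14
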