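import Groth.Agent.Lib.StQC14.Fam
import Mathlib.Algebra.Module.Shrink

/-!
# Modules descended from flat data: families are small
-/

universe w v u

open CategoryTheory CategoryTheory.Functor CategoryTheory.Limits AlgebraicGeometry Opposite

set_option linter.style.haveILetI false
set_option linter.unusedSectionVars false
set_option backward.isDefEq.respectTransparency false
set_option backward.isDefEq.respectTransparency.types false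

namespace Groth.Agent.StQC14

open StMod

variable {S : Scheme.{u}} {𝒳 : BasedCategory.{v, w} (Over S)} {P : FPres 𝒳} {F : FlatFun 𝒳}

/-- Families over test objects form a small set. -/
instance small_fam (ξ : 𝒳.obj) (U : (sch 𝒳 ξ).Opens) : Small.{u} (Fam P F ξ U) := by
  classical
  choose η φ hη hi hr using fun W : {W : (sch 𝒳 ξ).Opens // IsAffineOpen W ∧ W ≤ U} =>
    exists_piece P.grpd ξ W.2.1
  haveI := hη; haveI := hi
  choose z hz κ hκ r using fun W => P.cover (η W)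
  haveI := hz
  have hW : ∀ W, ⊤ ≤ bmap 𝒳 (κ W ≫ φ W) ⁻¹ᵁ U := fun W =>
    top_le_comp rfl ((le_preimage (φ W) (hr W)).trans ((bmap 𝒳 (φ W)).preimage_mono W.2.2)) le_top
  refine small_of_injective (f := fun (a : Fam P F ξ U) W =>
    (show Pull P F (r W).some from a.1 ⟨z W, κ W ≫ φ W, hW W, (r W).some⟩)) fun a b hab => Fam.ext fun T => ?_
  have key : ∀ x : ↥(sch 𝒳 T.w), ∃ (v : 𝒳.obj) (_ : IsAffine (sch 𝒳 v)) (π : v ⟶ T.w) (h : ⊤ ≤ bmap 𝒳 (π ≫ T.π) ⁻¹ᵁ U),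
      Flat (bmap 𝒳 π) ∧ x ∈ Set.range (bmap 𝒳 π) ∧
        a.1 ⟨v, π ≫ T.π, h, π ≫ T.r⟩ = b.1 ⟨v, π ≫ T.π, h, π ≫ T.r⟩ := by
    intro x
    obtain ⟨_, ⟨W, hWa, rfl⟩, hxW, hWU⟩ := (sch 𝒳 ξ).isBasis_affineOpens.exists_subset_of_mem_open
      (show bmap 𝒳 T.π x ∈ (U : Set _) from T.hU (Set.mem_univ x)) U.isOpen
    obtain ⟨_, ⟨V, hVa, rfl⟩, hxV, hVW⟩ := (sch 𝒳 T.w).isBasis_affineOpens.exists_subset_of_mem_open
      (show x ∈ ((bmap 𝒳 T.π ⁻¹ᵁ W : (sch 𝒳 T.w).Opens) : Set _) from hxW) (bmap 𝒳 T.π ⁻¹ᵁ W).isOpen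
    let W' : {W : (sch 𝒳 ξ).Opens // IsAffineOpen W ∧ W ≤ U} := ⟨W, hWa, hWU⟩
    obtain ⟨v₀, ν, hv₀, hνi, hνr⟩ := exists_piece P.grpd T.w hVa
    obtain ⟨l, hl⟩ := exists_piece_factor P.grpd (ψ := ν ≫ T.π) (φ' := φ W') (by
      rintro _ ⟨y, rfl⟩
      have hy : bmap 𝒳 ν y ∈ (V : Set _) := by
        rw [← hνr]; exact ⟨y, rfl⟩
      have := hVW hy
      rw [← Scheme.Hom.coe_opensRange, SetLike.mem_coe, hr W', bmap_comp]
      exact this)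
    obtain ⟨v₁, m, ρ, hv₁, hc, sq⟩ := exists_pullback P.grpd (κ W') l
    obtain ⟨v₂, hv₂, ω, t, hω, e₁, e₂⟩ := P.pairs (m ≫ (r W').some) (ρ ≫ ν ≫ T.r)
    have hρ : FF ρ := (hκ W').of_isPullback sq
    have hj : (ω ≫ m) ≫ κ W' ≫ φ W' = (ω ≫ ρ ≫ ν) ≫ T.π := by
      rw [Category.assoc, ← Category.assoc m, hc, Category.assoc ρ, hl]
      simp only [Category.assoc]
    have hrr : (ω ≫ ρ ≫ ν) ≫ T.r = ω ≫ ρ ≫ ν ≫ T.r := by simp only [Category.assoc]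
    refine ⟨v₂, hv₂, ω ≫ ρ ≫ ν, top_le_comp rfl T.hU le_top, ?_, ?_, ?_⟩
    · haveI := hω.1; haveI := hρ.1
      rw [bmap_comp, bmap_comp]
      infer_instance
    · haveI := hω.2; haveI := hρ.2
      have hx : x ∈ Set.range (bmap 𝒳 ν) := by
        rw [← Scheme.Hom.coe_opensRange, hνr]; exact hxV
      obtain ⟨y, rfl⟩ := hx
      haveI : Surjective (bmap 𝒳 (ω ≫ ρ)) := by rw [bmap_comp]; infer_instance
      obtain ⟨y', rfl⟩ := (bmap 𝒳 (ω ≫ ρ)).surjective y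
      exact ⟨y', by rw [← Category.assoc, bmap_comp (ω ≫ ρ) ν]; rfl⟩
    · rw [hrr]
      have h' : ⊤ ≤ bmap 𝒳 ((ω ≫ ρ ≫ ν) ≫ T.π) ⁻¹ᵁ U := top_le_comp rfl T.hU le_top
      refine (a.trans_eq _ h' _ _ t e₁ e₂).symm.trans (Eq.trans ?_ (b.trans_eq _ h' _ _ t e₁ e₂))
      refine congrArg (θ P F t e₁ e₂) ?_
      rw [← a.nat ⟨z W', κ W' ≫ φ W', hW W', (r W').some⟩ (ω ≫ m) _ hj h' _ (Category.assoc _ _ _),
        ← b.nat ⟨z W', κ W' ≫ φ W', hW W', (r W').some⟩ (ω ≫ m) _ hj h' _ (Category.assoc _ _ _)]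
      exact congrArg (pmap P F (ω ≫ m) (Category.assoc _ _ _)) (congrFun hab W')
  choose v hv π hπ hfl hx he using key
  haveI := hv
  refine eq_of_local v π hfl (fun x => ⟨x, hx x⟩) (f := fun x => pmap P F (π x) (r := T.r) rfl)
    (fun x => isBC_pmap P F _ _) _ _ fun x => ?_
  exact (a.nat T (π x) _ rfl (hπ x) _ rfl).trans ((he x).trans (b.nat T (π x) _ rfl (hπ x) _ rfl).symm)

variable (P F)

/-- The sections of the descended module. -/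
abbrev SFam (ξ : 𝒳.obj) (U : (sch 𝒳 ξ).Opens) : Type u := Shrink.{u} (Fam P F ξ U)

variable {P F} {ξ ξ' ξ'' : 𝒳.obj} {U : (sch 𝒳 ξ).Opens} {U' : (sch 𝒳 ξ').Opens} {U'' : (sch 𝒳 ξ'').Opens}

/-- The family of a section. -/
noncomputable abbrev toFam : SFam P F ξ U ≃ₗ[Γ(sch 𝒳 ξ, U)] Fam P F ξ U := Shrink.linearEquiv _ _

theorem SFam.ext' {a b : SFam P F ξ U} (h : toFam a = toFam b) : a = b := toFam.injective h

/-- Restriction of sections. -/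
noncomputable def sMap (φ : ξ' ⟶ ξ) (h : U' ≤ bmap 𝒳 φ ⁻¹ᵁ U) :
    SFam P F ξ U →ₛₗ[((bmap 𝒳 φ).appLE U U' h).hom] SFam P F ξ' U' where
  toFun a := toFam.symm (famMap φ h (toFam a))
  map_add' a b := by rw [_root_.map_add, _root_.map_add, _root_.map_add]
  map_smul' c a := by rw [_root_.map_smul, LinearMap.map_smulₛₗ, _root_.map_smul]

theorem toFam_sMap (φ : ξ' ⟶ ξ) (h : U' ≤ bmap 𝒳 φ ⁻¹ᵁ U) (a : SFam P F ξ U) :
    toFam (sMap φ h a) = famMap φ h (toFam a) :=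
  LinearEquiv.apply_symm_apply _ _

theorem sMap_comp (ψ : ξ'' ⟶ ξ') (φ : ξ' ⟶ ξ) {j : ξ'' ⟶ ξ} (e : ψ ≫ φ = j)
    (h : U' ≤ bmap 𝒳 φ ⁻¹ᵁ U) (h' : U'' ≤ bmap 𝒳 ψ ⁻¹ᵁ U') (hj : U'' ≤ bmap 𝒳 j ⁻¹ᵁ U) (a : SFam P F ξ U) :
    sMap ψ h' (sMap φ h a) = sMap j hj a :=
  SFam.ext' (by rw [toFam_sMap, toFam_sMap, toFam_sMap, famMap_comp ψ φ e h h' hj])

theorem sMap_id (h : U ≤ bmap 𝒳 (𝟙 ξ) ⁻¹ᵁ U) (a : SFam P F ξ U) : sMap (𝟙 ξ) h a = a :=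
  SFam.ext' (by rw [toFam_sMap, famMap_id])

theorem sMap_congr {φ φ' : ξ' ⟶ ξ} (e : φ = φ') (h : U' ≤ bmap 𝒳 φ ⁻¹ᵁ U) (a : SFam P F ξ U) :
    sMap φ h a = sMap φ' (e ▸ h) a := by
  subst e
  rfl

section Chart

variable {z : 𝒳.obj} [IsAffine (sch 𝒳 z)] (r₀ : z ⟶ P.b)

/-- Evaluation of sections at a chart. -/
noncomputable def sEval : SFam P F z ⊤ →ₗ[Γ(sch 𝒳 z, ⊤)] Pull P F r₀ :=
  (famEval r₀).comp toFam.toLinearMap

theorem sEval_bijective : Function.Bijective (sEval (F := F) r₀) :=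
  Function.Bijective.comp (g := famEval r₀) (f := toFam)
    ⟨famEval_injective P.grpd r₀, famEval_surjective P.grpd r₀⟩ toFam.bijective

theorem sEval_sMap {z' : 𝒳.obj} [IsAffine (sch 𝒳 z')] (φ : z' ⟶ z) {r₁ : z' ⟶ P.b} (e : φ ≫ r₀ = r₁)
    (h : ⊤ ≤ bmap 𝒳 φ ⁻¹ᵁ ⊤) (a : SFam P F z ⊤) : sEval r₁ (sMap φ h a) = pmap P F φ e (sEval r₀ a) := by
  show famEval r₁ (toFam (sMap φ h a)) = _
  rw [toFam_sMap]
  exact famEval_famMap r₀ φ e h _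

end Chart

end Groth.Agent.StQC14
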