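import Groth.Prelude.Def_StMod6
import Groth.Agent.Lib.FC16.Basic
import Groth.Agent.Lib.PullBC11.Conv
import Groth.Agent.Lib.StQC14.Alg

/-!
# Sections of modules on categories fibred in groupoids over the base
-/

universe w v u

open CategoryTheory CategoryTheory.Functor CategoryTheory.Limits AlgebraicGeometry Opposite

set_option linter.style.haveILetI false
set_option linter.unusedSectionVars false
set_option backward.isDefEq.respectTransparency false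
set_option backward.isDefEq.respectTransparency.types false

namespace Groth.Agent.StQC14

open StMod

variable {S : Scheme.{u}} {𝒳 : BasedCategory.{v, w} (Over S)}

section Lifts

/-- Lifting a morphism of schemes into the scheme under an object. -/
theorem exists_lift_to (h : FibCat.IsFibGrpd 𝒳.p) (ξ : 𝒳.obj) {T : Scheme.{u}} (g : T ⟶ sch 𝒳 ξ) :
    ∃ (ξ' : 𝒳.obj) (φ : ξ' ⟶ ξ) (e : sch 𝒳 ξ' ≅ T), bmap 𝒳 φ = e.hom ≫ g := by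
  let V : Over S := Over.mk (g ≫ (𝒳.p.obj ξ).hom)
  let f : V ⟶ 𝒳.p.obj ξ := Over.homMk g rfl
  obtain ⟨ξ', φ, hφ⟩ := h.exists_lift f
  have hd : 𝒳.p.obj ξ' = V := IsHomLift.domain_eq 𝒳.p f φ
  refine ⟨ξ', φ, eqToIso (congrArg Comma.left hd), ?_⟩
  have e := congrArg (fun k => k.left) (IsHomLift.fac' 𝒳.p f φ)
  simpa [bmap, f] using e

/-- Morphisms over a given one exist. -/
theorem exists_factor (h : FibCat.IsFibGrpd 𝒳.p) {ξ ξ' ξ'' : 𝒳.obj} (φ : ξ' ⟶ ξ) (ψ : ξ'' ⟶ ξ)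
    (g : sch 𝒳 ξ'' ⟶ sch 𝒳 ξ') (hg : g ≫ bmap 𝒳 φ = bmap 𝒳 ψ) :
    ∃ k : ξ'' ⟶ ξ', k ≫ φ = ψ ∧ bmap 𝒳 k = g := by
  haveI := h.isStronglyCartesian φ
  have hw : g ≫ (𝒳.p.obj ξ').hom = (𝒳.p.obj ξ'').hom := by
    rw [← Over.w (𝒳.p.map φ), ← Category.assoc, hg]
    exact Over.w (𝒳.p.map ψ)
  let g' : 𝒳.p.obj ξ'' ⟶ 𝒳.p.obj ξ' := Over.homMk g hw
  have hf : 𝒳.p.map ψ = g' ≫ 𝒳.p.map φ := Over.OverMorphism.ext hg.symm
  refine ⟨IsStronglyCartesian.map 𝒳.p (𝒳.p.map φ) φ hf ψ, IsStronglyCartesian.fac _ _ _ hf ψ, ?_⟩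
  have e := congrArg (fun k => k.left)
    (IsHomLift.fac' 𝒳.p g' (IsStronglyCartesian.map 𝒳.p (𝒳.p.map φ) φ hf ψ))
  simpa [bmap, g'] using e

theorem factor_unique (h : FibCat.IsFibGrpd 𝒳.p) {ξ ξ' ξ'' : 𝒳.obj} (φ : ξ' ⟶ ξ) {k k' : ξ'' ⟶ ξ'}
    (e : k ≫ φ = k' ≫ φ) (hb : bmap 𝒳 k = bmap 𝒳 k') : k = k' := by
  haveI := h.isStronglyCartesian φ
  haveI : 𝒳.p.IsHomLift (𝒳.p.map k) k' := by
    rw [show 𝒳.p.map k = 𝒳.p.map k' from Over.OverMorphism.ext hb]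
    infer_instance
  exact IsStronglyCartesian.ext 𝒳.p (𝒳.p.map φ) φ (𝒳.p.map k) e

end Lifts

section Sections

variable (F : Mod 𝒳) {ξ' ξ : 𝒳.obj} (φ : ξ' ⟶ ξ)

/-- Restriction of global sections, bundled semilinearly. -/
noncomputable def secL : Γ(F.obj ξ, ⊤) →ₛₗ[(bmap 𝒳 φ).appTop.hom] Γ(F.obj ξ', ⊤) where
  toFun := F.mapTop φ
  map_add' := F.mapTop_add φ
  map_smul' := F.mapTop_smul φ

@[simp] theorem secL_apply (x : Γ(F.obj ξ, ⊤)) : secL F φ x = F.mapTop φ x := rfl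

/-- Restriction of sections over an open into global sections. -/
noncomputable def resL (W : (sch 𝒳 ξ).Opens) (hle : ⊤ ≤ bmap 𝒳 φ ⁻¹ᵁ W) :
    Γ(F.obj ξ, W) →ₛₗ[((bmap 𝒳 φ).appLE W ⊤ hle).hom] Γ(F.obj ξ', ⊤) where
  toFun x := M1.mres (F.obj ξ') hle ((F.map φ rfl).app W x)
  map_add' x y := by
    rw [_root_.map_add]
    exact _root_.map_add _ _ _
  map_smul' r x := by
    rw [Scheme.Modules.Hom.app_smul]
    exact ((F.obj ξ').map_smul (homOfLE hle) (((bmap 𝒳 φ).app W).hom r) _).trans rfl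

theorem IsBC.congr {A B : Type u} [CommRing A] [CommRing B] {σ σ' : A →+* B} {M N : Type u} [AddCommGroup M]
    [Module A M] [AddCommGroup N] [Module B N] (hσ : σ = σ') {f : M →ₛₗ[σ] N} {f' : M →ₛₗ[σ'] N}
    (hf : ∀ x, f x = f' x) (h : IsBC f) : IsBC f' := by
  subst hσ
  rwa [← LinearMap.ext hf]

variable {F}

theorem isBC_resL (hF : isQCoh 𝒳 F) [IsAffine (sch 𝒳 ξ')] {W : (sch 𝒳 ξ).Opens} (hW : IsAffineOpen W)
    (hle : ⊤ ≤ bmap 𝒳 φ ⁻¹ᵁ W) : IsBC (resL F φ W hle) := by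
  haveI : IsIso (((Scheme.Modules.pullbackPushforwardAdjunction (bmap 𝒳 φ)).homEquiv (F.obj ξ) (F.obj ξ')).symm
      (F.map φ rfl)) := hF.1 φ rfl
  exact PullBC11.isBC_of_isIso (F.map φ rfl) (hF.2 ξ) (hF.2 ξ') hW (isAffineOpen_top _) hle

theorem resL_top (x : Γ(F.obj ξ, ⊤)) :
    resL F φ ⊤ le_top x = F.mapTop φ x :=
  M1.mres_id (F.obj ξ') _ _

theorem isBC_secL (hF : isQCoh 𝒳 F) [IsAffine (sch 𝒳 ξ)] [IsAffine (sch 𝒳 ξ')] : IsBC (secL F φ) :=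
  (isBC_resL φ hF (isAffineOpen_top _) le_top).congr
    (congrArg CommRingCat.Hom.hom (show (bmap 𝒳 φ).appLE ⊤ ⊤ le_top = (bmap 𝒳 φ).appTop by
      exact ((bmap 𝒳 φ).appLE_eq_app (U := ⊤))))
    (resL_top φ)

theorem resL_mres {W W' : (sch 𝒳 ξ).Opens} (h : W' ≤ W) (hle : ⊤ ≤ bmap 𝒳 φ ⁻¹ᵁ W') (x : Γ(F.obj ξ, W)) :
    resL F φ W' hle (M1.mres (F.obj ξ) h x) = resL F φ W (hle.trans ((bmap 𝒳 φ).preimage_mono h)) x := by
  show M1.mres (F.obj ξ') hle ((F.map φ rfl).app W' (M1.mres (F.obj ξ) h x)) = _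
  rw [M1.app_mres]
  exact M1.mres_mres (F.obj ξ') _ _ _

/-- Restriction along a composite. -/
theorem resL_comp {ξ'' : 𝒳.obj} (ψ : ξ'' ⟶ ξ') {W : (sch 𝒳 ξ).Opens} (hle : ⊤ ≤ bmap 𝒳 φ ⁻¹ᵁ W)
    (hle' : ⊤ ≤ bmap 𝒳 (ψ ≫ φ) ⁻¹ᵁ W) (x : Γ(F.obj ξ, W)) :
    resL F (ψ ≫ φ) W hle' x = F.mapTop ψ (resL F φ W hle x) := by
  have key : ∀ (g : sch 𝒳 ξ'' ⟶ sch 𝒳 ξ) (hg : bmap 𝒳 (ψ ≫ φ) = g) (hl : ⊤ ≤ g ⁻¹ᵁ W),
      resL F (ψ ≫ φ) W hle' x = M1.mres (F.obj ξ'') hl ((F.map (ψ ≫ φ) hg).app W x) := by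
    intro g hg hl
    subst hg
    rfl
  rw [key _ (bmap_comp ψ φ) (by rw [← bmap_comp]; exact hle'), F.map_comp_app ψ φ rfl rfl]
  show M1.mres (F.obj ξ'') _ ((F.map ψ rfl).app (bmap 𝒳 φ ⁻¹ᵁ W) ((F.map φ rfl).app W x)) =
    (F.map ψ rfl).app ⊤ (M1.mres (F.obj ξ') hle ((F.map φ rfl).app W x))
  rw [M1.app_mres]
  rfl

/-- Morphisms commute with restriction of sections over opens. -/
theorem resL_app {G : Mod 𝒳} (u : F ⟶ G) {W : (sch 𝒳 ξ).Opens} (hle : ⊤ ≤ bmap 𝒳 φ ⁻¹ᵁ W) (x : Γ(F.obj ξ, W)) :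
    resL G φ W hle ((u.app ξ).app W x) = (u.app ξ').app ⊤ (resL F φ W hle x) := by
  have h := congrArg (fun f => Scheme.Modules.Hom.app f W x) (u.comm φ rfl)
  simp only [Scheme.Modules.Hom.comp_app, Scheme.Modules.pushforward_map_app] at h
  show M1.mres (G.obj ξ') hle ((G.map φ rfl).app W ((u.app ξ).app W x)) =
    (u.app ξ').app ⊤ (M1.mres (F.obj ξ') hle ((F.map φ rfl).app W x))
  rw [M1.app_mres]
  exact congrArg _ h.symm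

theorem mapTop_cancel {ξ'' : 𝒳.obj} (ψ : ξ'' ⟶ ξ') (χ : ξ'' ⟶ ξ) (h : ψ ≫ φ = χ) (x : Γ(F.obj ξ, ⊤)) :
    F.mapTop ψ (F.mapTop φ x) = F.mapTop χ x := by
  rw [← F.mapTop_comp, h]

end Sections

end Groth.Agent.StQC14
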