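import Groth.Agent.Lib.StQC14.Alg

/-!
# Quotients by spans along base changes
-/

universe u

open TensorProduct CategoryTheory

set_option linter.style.haveILetI false
set_option linter.unusedSectionVars false

namespace Groth.Agent.StQC14

variable {A B : Type u} [CommRing A] [CommRing B] {σ : A →+* B}
  {M N : Type u} [AddCommGroup M] [Module A M] [AddCommGroup N] [Module B N] (f : M →ₛₗ[σ] N)

/-- The span of the image of a submodule. -/
def spanMap (K : Submodule A M) : Submodule B N := Submodule.span B (f '' (K : Set M))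

theorem mem_spanMap {K : Submodule A M} {x : M} (h : x ∈ K) : f x ∈ spanMap f K :=
  Submodule.subset_span ⟨x, h, rfl⟩

theorem spanMap_le {K : Submodule A M} {L : Submodule B N} (h : ∀ x ∈ K, f x ∈ L) : spanMap f K ≤ L :=
  Submodule.span_le.2 fun _ ⟨x, hx, e⟩ => e ▸ h x hx

theorem spanMap_mono {K K' : Submodule A M} (h : K ≤ K') : spanMap f K ≤ spanMap f K' :=
  spanMap_le f fun _ hx => mem_spanMap f (h hx)

section Comp

variable {C : Type u} [CommRing C] {τ : B →+* C} {ρ : A →+* C} {P : Type u} [AddCommGroup P] [Module C P]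
  (g : N →ₛₗ[τ] P) (hc : M →ₛₗ[ρ] P)

theorem spanMap_spanMap (e : ∀ x, g (f x) = hc x) (K : Submodule A M) : spanMap g (spanMap f K) = spanMap hc K := by
  refine le_antisymm (spanMap_le g fun y hy => ?_)
    (spanMap_le hc fun x hx => e x ▸ mem_spanMap g (mem_spanMap f hx))
  induction hy using Submodule.span_induction with
  | mem y hy => obtain ⟨x, hx, rfl⟩ := hy; exact e x ▸ mem_spanMap hc hx
  | zero => rw [map_zero]; exact zero_mem _
  | add a b _ _ ha hb => rw [map_add]; exact add_mem ha hb
  | smul c a _ ha => rw [map_smulₛₗ]; exact Submodule.smul_mem _ _ ha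

theorem spanMap_spanMap_mem (e : ∀ x, g (f x) = hc x) {K : Submodule A M} {y : N} (hy : y ∈ spanMap f K) :
    g y ∈ spanMap hc K := spanMap_spanMap f g hc e K ▸ mem_spanMap g hy

end Comp

/-- The map of quotients by a submodule and the span of its image. -/
noncomputable def quotMap (K : Submodule A M) : (M ⧸ K) →ₛₗ[σ] N ⧸ spanMap f K :=
  K.liftQ ((spanMap f K).mkQ.comp f) fun x hx => by
    rw [LinearMap.mem_ker, LinearMap.comp_apply, Submodule.mkQ_apply, Submodule.Quotient.mk_eq_zero]
    exact mem_spanMap f hx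

theorem quotMap_mk (K : Submodule A M) (x : M) :
    quotMap f K (Submodule.Quotient.mk x) = Submodule.Quotient.mk (f x) := rfl

variable {f}

/-- Quotients commute with base change. -/
theorem IsBC.quot (hf : IsBC f) (K : Submodule A M) : IsBC (quotMap f K) := by
  letI := σ.toAlgebra
  letI := Module.compHom (N ⧸ spanMap f K) σ
  haveI : IsScalarTower A B (N ⧸ spanMap f K) := IsScalarTower.of_algebraMap_smul fun _ _ => rfl
  let one : M →ₛₗ[σ] B ⊗[A] (M ⧸ K) :=
    { toFun := fun m => 1 ⊗ₜ K.mkQ m
      map_add' := fun a b => by rw [map_add, TensorProduct.tmul_add]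
      map_smul' := fun a m => by
        rw [map_smul, ← TensorProduct.smul_tmul, Algebra.smul_def, mul_one, TensorProduct.smul_tmul']
        show _ = (σ a * 1) ⊗ₜ[A] _
        rw [mul_one]
        rfl }
  obtain ⟨G, hG⟩ := hf.exists_lift one
  have hK : spanMap f K ≤ LinearMap.ker G := spanMap_le f fun x hx => by
    rw [LinearMap.mem_ker, hG]
    show (1 : B) ⊗ₜ[A] K.mkQ x = 0
    rw [(Submodule.Quotient.mk_eq_zero K).2 hx |> (fun h => (Submodule.mkQ_apply K x).trans h), TensorProduct.tmul_zero]
  let fl : (M ⧸ K) →ₗ[A] N ⧸ spanMap f K :=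
    { toFun := fun x => quotMap f K x, map_add' := fun x y => (quotMap f K).map_add x y,
      map_smul' := fun a x => (quotMap f K).map_smulₛₗ a x }
  let L : B ⊗[A] (M ⧸ K) →ₗ[B] N ⧸ spanMap f K :=
    TensorProduct.AlgebraTensorModule.lift ((LinearMap.lsmul B ((M ⧸ K) →ₗ[A] N ⧸ spanMap f K)).flip fl)
  have hL : ∀ b m, L (b ⊗ₜ m) = b • quotMap f K m := fun b m => rfl
  let R : (N ⧸ spanMap f K) →ₗ[B] B ⊗[A] (M ⧸ K) := (spanMap f K).liftQ G hK
  have h₁ : ∀ x, R (L x) = x := by
    intro x
    induction x using TensorProduct.induction_on with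
    | zero => simp
    | tmul b m =>
      obtain ⟨m, rfl⟩ := Submodule.Quotient.mk_surjective K m
      rw [hL, map_smul, quotMap_mk]
      show b • G (f m) = _
      rw [hG]
      show b • ((1 : B) ⊗ₜ[A] K.mkQ m) = _
      rw [TensorProduct.smul_tmul', smul_eq_mul, mul_one]
      rfl
    | add a b ha hb => rw [map_add, map_add, ha, hb]
  have h₂ : ∀ y, L (R y) = y := by
    intro y
    obtain ⟨y, rfl⟩ := Submodule.Quotient.mk_surjective _ y
    have : L.comp G = (spanMap f K).mkQ := by
      refine hf.ext _ _ fun m => ?_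
      rw [LinearMap.comp_apply, hG]
      show L ((1 : B) ⊗ₜ[A] K.mkQ m) = _
      rw [hL, one_smul]
      rfl
    exact LinearMap.congr_fun this y
  exact IsBaseChange.of_equiv (LinearEquiv.ofLinear L R (LinearMap.ext h₂) (LinearMap.ext h₁))
    fun m => (hL 1 m).trans (one_smul _ _)

/-- Membership descends along a faithfully flat base change. -/
theorem IsBC.mem_of_map_mem (hf : IsBC f) (hflat : σ.Flat) (hs : Function.Surjective (PrimeSpectrum.comap σ))
    {K : Submodule A M} {x : M} (h : f x ∈ spanMap f K) : x ∈ K := by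
  rw [← Submodule.Quotient.mk_eq_zero]
  refine (hf.quot K).injective hflat hs ?_
  rw [quotMap_mk, map_zero, Submodule.Quotient.mk_eq_zero]
  exact h

/-- A submodule and the span of its image, for a flat base change. -/
theorem IsBC.sub (hf : IsBC f) (hflat : σ.Flat) {K : Submodule A M} {K' : Submodule B N} (hK : K' = spanMap f K)
    (g : K →ₛₗ[σ] K') (hg : ∀ x, (g x : N) = f x) : IsBC g := by
  letI := σ.toAlgebra
  letI := Module.compHom N σ
  haveI : IsScalarTower A B N := IsScalarTower.of_algebraMap_smul fun _ _ => rfl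
  letI := Module.compHom K' σ
  haveI : IsScalarTower A B K' := IsScalarTower.of_algebraMap_smul fun _ _ => rfl
  haveI : Module.Flat A B := hflat
  let e : B ⊗[A] M ≃ₗ[B] N := IsBaseChange.equiv hf
  let gl : K →ₗ[A] K' :=
    { toFun := fun x => g x, map_add' := fun x y => g.map_add x y, map_smul' := fun a x => g.map_smulₛₗ a x }
  let L : B ⊗[A] K →ₗ[B] K' :=
    TensorProduct.AlgebraTensorModule.lift ((LinearMap.lsmul B (K →ₗ[A] K')).flip gl)
  have hL : ∀ b x, L (b ⊗ₜ x) = b • g x := fun b x => rfl
  have key : ∀ x, (L x : N) = e (K.subtype.lTensor B x) := by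
    intro x
    induction x using TensorProduct.induction_on with
    | zero => simp
    | tmul b x =>
      rw [hL, Submodule.coe_smul, hg, LinearMap.lTensor_tmul, IsBaseChange.equiv_tmul]
      rfl
    | add a b ha hb => simp only [map_add, Submodule.coe_add, ha, hb]
  refine IsBaseChange.of_equiv (LinearEquiv.ofBijective L ⟨(injective_iff_map_eq_zero L).2 fun x hx => ?_,
    fun y => ?_⟩) fun m => (hL 1 m).trans (one_smul _ _)
  · refine Module.Flat.lTensor_preserves_injective_linearMap K.subtype K.subtype_injective ?_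
    rw [map_zero]
    refine e.injective ?_
    rw [← key, hx, map_zero]
    rfl
  · suffices H : ∀ z ∈ spanMap f K, ∃ x, (L x : N) = z by
      obtain ⟨x, hx⟩ := H y (hK ▸ y.2)
      exact ⟨x, Subtype.ext hx⟩
    intro z hz
    induction hz using Submodule.span_induction with
    | mem z hz =>
      obtain ⟨x, hx, rfl⟩ := hz
      exact ⟨1 ⊗ₜ ⟨x, hx⟩, by rw [hL, one_smul, hg]⟩
    | zero => exact ⟨0, by rw [map_zero]; rfl⟩
    | add a b _ _ ha hb =>
      obtain ⟨x, hx⟩ := ha
      obtain ⟨x', hx'⟩ := hb
      exact ⟨x + x', by rw [map_add, Submodule.coe_add, hx, hx']⟩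
    | smul c a _ ha =>
      obtain ⟨x, hx⟩ := ha
      exact ⟨c • x, by rw [map_smul, Submodule.coe_smul, hx]⟩

end Groth.Agent.StQC14
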