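import Groth.Agent.Lib.StQC14.SubMod
import Mathlib.RingTheory.Noetherian.Basic

/-!
# Finitely generated stable submodules on an atlas
-/

universe w v u

open CategoryTheory CategoryTheory.Functor CategoryTheory.Limits AlgebraicGeometry Opposite

set_option linter.style.haveILetI false
set_option linter.unusedSectionVars false
set_option backward.isDefEq.respectTransparency false
set_option backward.isDefEq.respectTransparency.types false

namespace Groth.Agent.StQC14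

open StMod

variable {S : Scheme.{u}} {𝒳 : BasedCategory.{v, w} (Over S)} (A : Atlas 𝒳) (M : QCoh 𝒳)

theorem Atlas.exists_fg_span (K : Submodule Γ(sch 𝒳 A.b, ⊤) Γ(M.obj.obj A.b, ⊤)) (hK : K.FG) :
    ∃ N₀ : Submodule Γ(sch 𝒳 A.b, ⊤) Γ(M.obj.obj A.b, ⊤), N₀.FG ∧
      ∀ x ∈ K, secL M.obj (A.π A.b) x ∈ spanMap (secL M.obj (A.r A.b)) N₀ := by
  classical
  obtain ⟨s, rfl⟩ := hK
  have h : ∀ x : Γ(M.obj.obj A.b, ⊤), ∃ T : Finset Γ(M.obj.obj A.b, ⊤),
      secL M.obj (A.π A.b) x ∈ Submodule.span Γ(sch 𝒳 (A.pr A.b), ⊤) (secL M.obj (A.r A.b) '' (T : Set Γ(M.obj.obj A.b, ⊤))) := by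
    intro x
    have hx := (isBC_secL (F := M.obj) (A.r A.b) M.property).span (secL M.obj (A.π A.b) x)
    obtain ⟨T, hT, hT'⟩ := Submodule.mem_span_finite_of_mem_span hx
    choose pre hpre using fun y : T => hT y.2
    refine ⟨T.attach.image pre, Submodule.span_mono ?_ hT'⟩
    intro y hy
    exact ⟨pre ⟨y, hy⟩, Finset.mem_image_of_mem pre (T.mem_attach ⟨y, hy⟩), hpre ⟨y, hy⟩⟩
  choose T hT using h
  refine ⟨Submodule.span _ ((s.biUnion T : Finset Γ(M.obj.obj A.b, ⊤)) : Set Γ(M.obj.obj A.b, ⊤)),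
    ⟨_, rfl⟩, fun x hx => ?_⟩
  let N₀ : Submodule Γ(sch 𝒳 A.b, ⊤) Γ(M.obj.obj A.b, ⊤) :=
    Submodule.span _ ((s.biUnion T : Finset Γ(M.obj.obj A.b, ⊤)) : Set Γ(M.obj.obj A.b, ⊤))
  suffices hle : Submodule.span _ (s : Set Γ(M.obj.obj A.b, ⊤)) ≤
      (spanMap (secL M.obj (A.r A.b)) N₀).comap (secL M.obj (A.π A.b)) from hle hx
  refine Submodule.span_le.2 fun y hy => ?_
  refine Submodule.span_mono (Set.image_mono fun t ht => ?_) (hT y)
  exact Submodule.subset_span (Finset.mem_biUnion.2 ⟨y, hy, ht⟩)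

/-- Every finitely generated submodule lies in a finitely generated stable one. -/
theorem Atlas.exists_stable_fg [IsNoetherianRing Γ(sch 𝒳 A.b, ⊤)]
    (K : Submodule Γ(sch 𝒳 A.b, ⊤) Γ(M.obj.obj A.b, ⊤)) (hK : K.FG) :
    ∃ N : Submodule Γ(sch 𝒳 A.b, ⊤) Γ(M.obj.obj A.b, ⊤), N.FG ∧ K ≤ N ∧ A.Stable M N := by
  obtain ⟨N₀, hfg, hN₀⟩ := A.exists_fg_span M K hK
  let p := A.π A.b
  let q := A.r A.b
  let Sq := spanMap (secL M.obj q) N₀
  let N := Sq.comap (secL M.obj p)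
  have hle : N ≤ N₀ := fun x hx => by
    let e := A.lift (𝟙 A.b) (𝟙 A.b)
    have h : secL M.obj e (secL M.obj p x) ∈ spanMap (secL M.obj e) Sq := mem_spanMap _ hx
    rwa [spanMap_secL M.obj e q (A.lift_r _ _), spanMap_secL_id, secL_comp M.obj e p (A.lift_π _ _),
      secL_id] at h
  haveI := isNoetherian_of_fg_of_noetherian N₀ hfg
  have hNfg : N.FG := by
    have h := (IsNoetherian.noetherian (N.comap N₀.subtype)).map N₀.subtype
    rwa [Submodule.map_comap_eq, Submodule.range_subtype, inf_eq_right.2 hle] at h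
  refine ⟨N, hNfg, hN₀, ?_⟩
  have key : ∀ x ∈ N, secL M.obj p x ∈ spanMap (secL M.obj q) N := by
    intro x hx
    haveI := A.ff_r.1
    let W := A.pr (A.pr A.b)
    let a₁ : W ⟶ A.pr A.b := A.prMap q
    let a₂ : W ⟶ A.pr A.b := A.π (A.pr A.b)
    haveI : IsAffine (sch 𝒳 W) := A.affine_pr _
    let L := spanMap (secL M.obj a₁) Sq
    let D : Γ(M.obj.obj A.b, ⊤) →+ Γ(M.obj.obj (A.pr A.b), ⊤) ⧸ Sq :=
      Sq.mkQ.toAddMonoidHom.comp (secL M.obj p).toAddMonoidHom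
    let D' : Γ(M.obj.obj (A.pr A.b), ⊤) →+ Γ(M.obj.obj W, ⊤) ⧸ L :=
      L.mkQ.toAddMonoidHom.comp (secL M.obj a₂).toAddMonoidHom
    have hB : IsPushout (CommRingCat.ofHom (RingHom.id Γ(sch 𝒳 A.b, ⊤))) (CommRingCat.ofHom (bmap 𝒳 q).appTop.hom)
        (CommRingCat.ofHom (bmap 𝒳 q).appTop.hom) (CommRingCat.ofHom (RingHom.id Γ(sch 𝒳 (A.pr A.b), ⊤))) :=
      haveI : IsIso (CommRingCat.ofHom (RingHom.id Γ(sch 𝒳 A.b, ⊤))) := inferInstanceAs (IsIso (𝟙 _))
      haveI : IsIso (CommRingCat.ofHom (RingHom.id Γ(sch 𝒳 (A.pr A.b), ⊤))) := inferInstanceAs (IsIso (𝟙 _))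
      IsPushout.of_horiz_isIso ⟨rfl⟩
    have hC : IsPushout (CommRingCat.ofHom (bmap 𝒳 p).appTop.hom) (CommRingCat.ofHom (bmap 𝒳 q).appTop.hom)
        (CommRingCat.ofHom (bmap 𝒳 a₁).appTop.hom) (CommRingCat.ofHom (bmap 𝒳 a₂).appTop.hom) :=
      isPushout_appTop_of_isPullback (A.prSq q)
    have hmem := mem_span_ker (flat_appTop _) hB hC (fB := secL M.obj q) (isBC_secL q M.property)
      (fC := quotMap (secL M.obj a₁) Sq) ((isBC_secL a₁ M.property).quot Sq) D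
      (fun a h => by
        show Sq.mkQ (secL M.obj p (a • h)) = _
        rw [LinearMap.map_smulₛₗ, _root_.map_smul]
        rfl) D'
      (fun a h => by
        show L.mkQ (secL M.obj a₂ (a • h)) = _
        rw [LinearMap.map_smulₛₗ, _root_.map_smul]
        rfl)
      (fun h => by
        show L.mkQ (secL M.obj a₂ (secL M.obj q h)) = L.mkQ (secL M.obj a₁ (secL M.obj p h))
        rw [secL_comp M.obj a₂ q (A.prMap_π q).symm, secL_comp M.obj a₁ p rfl])
      (x := secL M.obj p x) (by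
        show L.mkQ (secL M.obj a₂ (secL M.obj p x)) = 0
        rw [Submodule.mkQ_apply, Submodule.Quotient.mk_eq_zero]
        show _ ∈ spanMap (secL M.obj a₁) (spanMap (secL M.obj q) N₀)
        let t := A.lift (a₂ ≫ p) (A.r (A.pr A.b))
        rw [spanMap_secL M.obj a₁ q (A.prMap_r q), secL_comp M.obj a₂ p rfl,
          ← secL_comp M.obj t p (A.lift_π _ _), ← spanMap_secL M.obj t q (A.lift_r _ _)]
        exact mem_spanMap _ hx)
    refine Submodule.span_le.2 ?_ hmem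
    rintro _ ⟨h, hh, rfl⟩
    exact mem_spanMap _ ((Submodule.Quotient.mk_eq_zero Sq).1 hh)
  refine le_antisymm (spanMap_le _ key) (spanMap_le _ fun x hx => ?_)
  rw [← secL_comp M.obj A.inv p A.inv_π, ← spanMap_secL M.obj A.inv q A.inv_r]
  exact mem_spanMap _ (key x hx)

end Groth.Agent.StQC14
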