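import Groth.Agent.Lib.StQC14.Atlas
import Groth.Agent.Lib.StQC14.SpanBC
import Groth.Agent.Lib.StQC14.Hom

/-!
# Submodules given on an atlas
-/

universe w v u

open CategoryTheory CategoryTheory.Functor CategoryTheory.Limits AlgebraicGeometry Opposite

set_option linter.style.haveILetI false
set_option linter.unusedSectionVars false
set_option backward.isDefEq.respectTransparency false
set_option backward.isDefEq.respectTransparency.types false

namespace Groth.Agent.StQC14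

open StMod

variable {S : Scheme.{u}} {𝒳 : BasedCategory.{v, w} (Over S)}

theorem secL_comp (F : Mod 𝒳) {a b c : 𝒳.obj} (k : a ⟶ b) (l : b ⟶ c) {m : a ⟶ c} (e : k ≫ l = m)
    (x : Γ(F.obj c, ⊤)) : secL F k (secL F l x) = secL F m x := by
  subst e
  exact (Mod.mapTop_comp F k l x).symm

theorem secL_id (F : Mod 𝒳) {a : 𝒳.obj} (x : Γ(F.obj a, ⊤)) : secL F (𝟙 a) x = x := F.mapTop_id a x

theorem spanMap_secL (F : Mod 𝒳) {a b c : 𝒳.obj} (k : a ⟶ b) (l : b ⟶ c) {m : a ⟶ c} (e : k ≫ l = m)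
    (K : Submodule Γ(sch 𝒳 c, ⊤) Γ(F.obj c, ⊤)) :
    spanMap (secL F k) (spanMap (secL F l) K) = spanMap (secL F m) K :=
  spanMap_spanMap (secL F l) (secL F k) (secL F m) (secL_comp F k l e) K

theorem spanMap_secL_id (F : Mod 𝒳) {a : 𝒳.obj} (K : Submodule Γ(sch 𝒳 a, ⊤) Γ(F.obj a, ⊤)) :
    spanMap (secL F (𝟙 a)) K = K :=
  le_antisymm (spanMap_le _ fun x hx => (secL_id F x).symm ▸ hx)
    fun x hx => secL_id F x ▸ mem_spanMap (secL F (𝟙 a)) hx

variable (A : Atlas 𝒳) (M : QCoh 𝒳)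

/-- A submodule on the atlas with equal spans on the relations. -/
def Atlas.Stable (N : Submodule Γ(sch 𝒳 A.b, ⊤) Γ(M.obj.obj A.b, ⊤)) : Prop :=
  spanMap (secL M.obj (A.π A.b)) N = spanMap (secL M.obj (A.r A.b)) N

variable {A M} {N : Submodule Γ(sch 𝒳 A.b, ⊤) Γ(M.obj.obj A.b, ⊤)} (hN : A.Stable M N)

include hN in
theorem Atlas.span_eq {w : 𝒳.obj} [IsAffine (sch 𝒳 w)] (r s : w ⟶ A.b) :
    spanMap (secL M.obj r) N = spanMap (secL M.obj s) N := by
  rw [← spanMap_secL M.obj (A.lift r s) (A.π A.b) (A.lift_π r s), hN,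
    spanMap_secL M.obj (A.lift r s) (A.r A.b) (A.lift_r r s)]

variable (A M) (N)

/-- The descended submodule. -/
noncomputable def Atlas.sub (z : 𝒳.obj) [IsAffine (sch 𝒳 z)] : Submodule Γ(sch 𝒳 z, ⊤) Γ(M.obj.obj z, ⊤) :=
  (spanMap (secL M.obj (A.r z)) N).comap (secL M.obj (A.π z))

variable {A M N}

theorem Atlas.res_mem_sub {z' z : 𝒳.obj} [IsAffine (sch 𝒳 z')] [IsAffine (sch 𝒳 z)] (φ : z' ⟶ z)
    {x : Γ(M.obj.obj z, ⊤)} (hx : x ∈ A.sub M N z) : secL M.obj φ x ∈ A.sub M N z' := by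
  show secL M.obj (A.π z') (secL M.obj φ x) ∈ spanMap (secL M.obj (A.r z')) N
  rw [secL_comp M.obj _ _ (A.prMap_π φ).symm, ← secL_comp M.obj _ _ (rfl : A.prMap φ ≫ A.π z = _),
    ← spanMap_secL M.obj _ _ (A.prMap_r φ)]
  exact mem_spanMap _ hx

theorem Atlas.isBC_π (z : 𝒳.obj) [IsAffine (sch 𝒳 z)] :
    IsBC (secL M.obj (A.π z)) ∧ (bmap 𝒳 (A.π z)).appTop.hom.Flat ∧
      Function.Surjective (PrimeSpectrum.comap (bmap 𝒳 (A.π z)).appTop.hom) := by
  haveI := (A.ff z).1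
  haveI := (A.ff z).2
  exact ⟨isBC_secL _ M.property, flat_appTop _, surjective_comap_appTop _⟩

include hN in
theorem Atlas.sub_eq {z : 𝒳.obj} [IsAffine (sch 𝒳 z)] (r : z ⟶ A.b) : A.sub M N z = spanMap (secL M.obj r) N := by
  ext x
  obtain ⟨hb, hfl, hs⟩ := A.isBC_π (M := M) z
  show secL M.obj (A.π z) x ∈ spanMap (secL M.obj (A.r z)) N ↔ _
  rw [A.span_eq hN (A.r z) (A.π z ≫ r), ← spanMap_secL M.obj (A.π z) r rfl]
  exact ⟨fun h => hb.mem_of_map_mem hfl hs h, mem_spanMap _⟩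

include hN in
theorem Atlas.sub_b : A.sub M N A.b = N := (A.sub_eq hN (𝟙 A.b)).trans (spanMap_secL_id M.obj N)

include hN in
theorem Atlas.spanMap_π_sub (z : 𝒳.obj) [IsAffine (sch 𝒳 z)] :
    spanMap (secL M.obj (A.π z)) (A.sub M N z) = spanMap (secL M.obj (A.r z)) N := by
  refine le_antisymm (spanMap_le _ fun x hx => hx) fun x hx => ?_
  obtain ⟨hb, hfl, hs⟩ := A.isBC_π (M := M) z
  let W := A.pr (A.pr z)
  let a₁ : W ⟶ A.pr z := A.prMap (A.π z)
  let a₂ : W ⟶ A.pr z := A.π (A.pr z)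
  let NB := spanMap (secL M.obj (A.r z)) N
  let L := spanMap (secL M.obj a₁) NB
  let D : Γ(M.obj.obj z, ⊤) →+ Γ(M.obj.obj (A.pr z), ⊤) ⧸ NB :=
    (NB.mkQ.toAddMonoidHom).comp (secL M.obj (A.π z)).toAddMonoidHom
  let D' : Γ(M.obj.obj (A.pr z), ⊤) →+ Γ(M.obj.obj W, ⊤) ⧸ L :=
    L.mkQ.toAddMonoidHom.comp (secL M.obj a₂).toAddMonoidHom
  have hB : IsPushout (CommRingCat.ofHom (RingHom.id Γ(sch 𝒳 z, ⊤))) (CommRingCat.ofHom (bmap 𝒳 (A.π z)).appTop.hom)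
      (CommRingCat.ofHom (bmap 𝒳 (A.π z)).appTop.hom) (CommRingCat.ofHom (RingHom.id Γ(sch 𝒳 (A.pr z), ⊤))) :=
    haveI : IsIso (CommRingCat.ofHom (RingHom.id Γ(sch 𝒳 z, ⊤))) := inferInstanceAs (IsIso (𝟙 _))
    haveI : IsIso (CommRingCat.ofHom (RingHom.id Γ(sch 𝒳 (A.pr z), ⊤))) := inferInstanceAs (IsIso (𝟙 _))
    IsPushout.of_horiz_isIso ⟨rfl⟩
  haveI : IsAffine (sch 𝒳 W) := A.affine_pr _
  have hC : IsPushout (CommRingCat.ofHom (bmap 𝒳 (A.π z)).appTop.hom) (CommRingCat.ofHom (bmap 𝒳 (A.π z)).appTop.hom)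
      (CommRingCat.ofHom (bmap 𝒳 a₁).appTop.hom) (CommRingCat.ofHom (bmap 𝒳 a₂).appTop.hom) :=
    isPushout_appTop_of_isPullback (A.prSq (A.π z))
  have hmem := mem_span_ker hfl hB hC (fB := secL M.obj (A.π z)) hb
    (fC := quotMap (secL M.obj a₁) NB) ((isBC_secL a₁ M.property).quot NB) D
    (fun a h => by
      show NB.mkQ (secL M.obj (A.π z) (a • h)) = _
      rw [LinearMap.map_smulₛₗ, _root_.map_smul]
      rfl) D'
    (fun a h => by
      show L.mkQ (secL M.obj a₂ (a • h)) = _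
      rw [LinearMap.map_smulₛₗ, _root_.map_smul]
      rfl)
    (fun h => by
      show L.mkQ (secL M.obj a₂ (secL M.obj (A.π z) h)) = L.mkQ (secL M.obj a₁ (secL M.obj (A.π z) h))
      rw [secL_comp M.obj a₂ (A.π z) (A.prMap_π (A.π z)).symm, secL_comp M.obj a₁ (A.π z) rfl])
    (x := x) (by
      show L.mkQ (secL M.obj a₂ x) = 0
      rw [Submodule.mkQ_apply, Submodule.Quotient.mk_eq_zero]
      show _ ∈ spanMap (secL M.obj a₁) (spanMap (secL M.obj (A.r z)) N)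
      rw [spanMap_secL M.obj a₁ (A.r z) rfl, A.span_eq hN (a₁ ≫ A.r z) (a₂ ≫ A.r z),
        ← spanMap_secL M.obj a₂ (A.r z) rfl]
      exact mem_spanMap _ hx)
  refine Submodule.span_le.2 ?_ hmem
  rintro _ ⟨h, hh, rfl⟩
  exact mem_spanMap _ ((Submodule.Quotient.mk_eq_zero NB).1 hh)

include hN in
theorem Atlas.spanMap_sub {z' z : 𝒳.obj} [IsAffine (sch 𝒳 z')] [IsAffine (sch 𝒳 z)] (φ : z' ⟶ z) :
    spanMap (secL M.obj φ) (A.sub M N z) = A.sub M N z' := by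
  refine le_antisymm (spanMap_le _ fun x hx => A.res_mem_sub φ hx) fun x hx => ?_
  obtain ⟨hb, hfl, hs⟩ := A.isBC_π (M := M) z'
  refine hb.mem_of_map_mem hfl hs ?_
  rw [spanMap_secL M.obj _ _ (rfl : A.π z' ≫ φ = _), ← A.prMap_π φ,
    ← spanMap_secL M.obj _ _ (rfl : A.prMap φ ≫ A.π z = _), A.spanMap_π_sub hN z,
    spanMap_secL M.obj _ _ (A.prMap_r φ)]
  exact hx

/-- The descended submodule as flat data. -/
noncomputable def Atlas.subFun : FlatFun 𝒳 where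
  G z _ := ModuleCat.of Γ(sch 𝒳 z, ⊤) (A.sub M N z)
  res {z' z} _ _ φ :=
    { toFun := fun x => (⟨secL M.obj φ x.1, A.res_mem_sub φ x.2⟩ : A.sub M N z')
      map_add' := fun a b => Subtype.ext ((secL M.obj φ).map_add a.1 b.1)
      map_smul' := fun c a => Subtype.ext ((secL M.obj φ).map_smulₛₗ c a.1) }
  res_id z _ x := Subtype.ext (secL_id M.obj x.1)
  res_comp {_ _ _} _ _ _ ψ φ x := Subtype.ext (secL_comp M.obj ψ φ rfl x.1).symm
  isBC {z' z} _ _ φ hφ := by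
    haveI := hφ
    exact (isBC_secL φ M.property).sub (flat_appTop _) (A.spanMap_sub hN φ).symm _ fun x => rfl

variable (A M N) in
theorem Atlas.exists_sub_qcoh (hN : A.Stable M N) :
    ∃ (E : QCoh 𝒳) (u : E ⟶ M), Function.Injective ((u.hom.app A.b).app ⊤) ∧
      Set.range ((u.hom.app A.b).app ⊤) = (N : Set Γ(M.obj.obj A.b, ⊤)) := by
  let F := A.subFun hN
  let incl : ∀ z : 𝒳.obj, IsAffine (sch 𝒳 z) →
      (Γ((desc A.fpres F).obj z, ⊤) →ₗ[Γ(sch 𝒳 z, ⊤)] Γ(M.obj.obj z, ⊤)) := fun z hz =>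
    haveI := hz; (A.sub M N z).subtype.comp (eG A.fpres F z)
  obtain ⟨u, hu⟩ := exists_hom_of_affine A.grpd (F := desc A.fpres F) (descQ A.fpres F).property M.property incl
    fun {z' z} h' h₀ φ x => by
      haveI := h'; haveI := h₀
      exact (congrArg Subtype.val (eG_sT φ x)).symm
  refine ⟨descQ A.fpres F, ObjectProperty.homMk u, ?_, ?_⟩
  · intro x y e
    have e' : (u.app A.b).app ⊤ x = (u.app A.b).app ⊤ y := e
    rw [hu A.b A.affine_b, hu A.b A.affine_b] at e'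
    exact (eG_bijective_chart (P := A.fpres) (F := F)).1 (Subtype.ext e')
  · ext y
    constructor
    · rintro ⟨x, rfl⟩
      show (u.app A.b).app ⊤ x ∈ N
      rw [hu A.b A.affine_b]
      exact A.sub_b hN ▸ (eG A.fpres F A.b x).2
    · intro hy
      obtain ⟨x, hx⟩ := (eG_bijective_chart (P := A.fpres) (F := F)).2 (⟨y, (A.sub_b hN).symm ▸ hy⟩ : A.sub M N A.b)
      exact ⟨x, (hu A.b A.affine_b x).trans (congrArg Subtype.val hx)⟩

end Groth.Agent.StQC14
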