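import Groth.Agent.Lib.StQC14.StableFG
import Groth.Agent.Lib.StQC14.Flat
import Groth.Agent.Lib.StQC14.LocFree
import Groth.Agent.Lib.StQC14.LocFreeDesc
import Groth.Agent.Lib.DPerf.Tilde

/-!
# Surjectivity and local freeness are read on an atlas
-/

universe w v u

open CategoryTheory CategoryTheory.Functor CategoryTheory.Limits AlgebraicGeometry Opposite

set_option linter.style.haveILetI false
set_option linter.unusedSectionVars false
set_option backward.isDefEq.respectTransparency false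
set_option backward.isDefEq.respectTransparency.types false

namespace Groth.Agent.StQC14

open StMod

section Affine

/-- A quasi-coherent module on an affine scheme with finite projective sections is finite locally free. -/
theorem isFinLocFree_of_finite_projective {X : Scheme.{u}} [IsAffine X] {M : X.Modules} (hM : Coh.IsQCoh M)
    [Module.Finite Γ(X, ⊤) Γ(M, ⊤)] [Module.Projective Γ(X, ⊤) Γ(M, ⊤)] : FlatMod.IsFinLocFree M := by
  have hU : IsAffineOpen (⊤ : X.Opens) := isAffineOpen_top X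
  let e := M1.affineSecEquiv M hU
  haveI : Module.Finite Γ(X, ⊤) Γ(M.restrict hU.fromSpec, ⊤) := Module.Finite.equiv e.symm
  haveI : Module.Projective Γ(X, ⊤) Γ(M.restrict hU.fromSpec, ⊤) := Module.Projective.of_equiv e.symm
  haveI : (M.restrict hU.fromSpec).IsQuasicoherent := M1.isQCoh_fromSpec hM hU
  haveI : Module.Finite Γ(X, ⊤) (moduleSpecΓFunctor.obj (M.restrict hU.fromSpec)) :=
    inferInstanceAs (Module.Finite Γ(X, ⊤) Γ(M.restrict hU.fromSpec, ⊤))
  haveI : Module.Projective Γ(X, ⊤) (moduleSpecΓFunctor.obj (M.restrict hU.fromSpec)) :=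
    inferInstanceAs (Module.Projective Γ(X, ⊤) Γ(M.restrict hU.fromSpec, ⊤))
  have h₁ : FlatMod.IsFinLocFree (M.restrict hU.fromSpec) :=
    M2.isFinLocFree_of_iso (@asIso _ _ _ _ (M.restrict hU.fromSpec).fromTildeΓ
      (Scheme.Modules.isIso_fromTildeΓ_of_isQuasicoherent (R := Γ(X, ⊤)) (M.restrict hU.fromSpec)))
      (DPerf.isFinLocFree_tilde (M := moduleSpecΓFunctor.obj (M.restrict hU.fromSpec)))
  refine isFinLocFree_of_flat_lfp_cover hM fun x => ⟨_, hU.fromSpec, inferInstance, inferInstance, ?_,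
    M2.isFinLocFree_of_iso ((Scheme.Modules.restrictFunctorIsoPullback hU.fromSpec).app M) h₁⟩
  rw [hU.range_fromSpec]
  trivial

end Affine

variable {S : Scheme.{u}} {𝒳 : BasedCategory.{v, w} (Over S)} (A : Atlas 𝒳)

/-- A map surjective on the atlas is surjective. -/
theorem Atlas.isSurj_of_chart {E F : QCoh 𝒳} (u : E ⟶ F)
    (h : Function.Surjective ((u.hom.app A.b).app ⊤)) : Mod.IsSurj u.hom := by
  intro z hz y
  haveI := hz
  let R : ∀ (a : 𝒳.obj), Submodule Γ(sch 𝒳 a, ⊤) Γ(F.obj.obj a, ⊤) := fun a =>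
    LinearMap.range (appL u.hom a)
  suffices hy : y ∈ R z from hy
  obtain ⟨hb, hfl, hs⟩ := A.isBC_π (M := F) z
  refine hb.mem_of_map_mem hfl hs ?_
  have h₁ : ∀ v : Γ(F.obj.obj (A.pr z), ⊤), v ∈ R (A.pr z) := by
    intro v
    induction (isBC_secL (A.r z) F.property).span v using Submodule.span_induction with
    | mem v hv =>
      obtain ⟨m, rfl⟩ := hv
      obtain ⟨e, rfl⟩ := h m
      exact ⟨secL E.obj (A.r z) e, (Mod.mapTop_app u.hom (A.r z) e).symm⟩
    | zero => exact zero_mem _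
    | add a b _ _ ha hb => exact add_mem ha hb
    | smul c a _ ha => exact Submodule.smul_mem _ _ ha
  obtain ⟨e, he⟩ := h₁ (secL F.obj (A.π z) y)
  rw [← he]
  clear he
  induction (isBC_secL (A.π z) E.property).span e using Submodule.span_induction with
  | mem v hv =>
    obtain ⟨m, rfl⟩ := hv
    have he : appL u.hom (A.pr z) (secL E.obj (A.π z) m) = secL F.obj (A.π z) (appL u.hom z m) :=
      (Mod.mapTop_app u.hom (A.π z) m).symm
    rw [he]
    exact mem_spanMap _ ⟨m, rfl⟩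
  | zero => rw [_root_.map_zero]; exact zero_mem _
  | add a b _ _ ha hb => rw [_root_.map_add]; exact add_mem ha hb
  | smul c a _ ha => rw [_root_.map_smul]; exact Submodule.smul_mem _ _ ha

/-- Finite local freeness is read on the atlas. -/
theorem Atlas.isFinLocFree_obj (E : QCoh 𝒳) [Module.Finite Γ(sch 𝒳 A.b, ⊤) Γ(E.obj.obj A.b, ⊤)]
    [Module.Projective Γ(sch 𝒳 A.b, ⊤) Γ(E.obj.obj A.b, ⊤)] (ξ : 𝒳.obj) :
    FlatMod.IsFinLocFree (E.obj.obj ξ) := by
  have hcart : ∀ {a c : 𝒳.obj} (φ : a ⟶ c),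
      FlatMod.IsFinLocFree (E.obj.obj a) ↔ FlatMod.IsFinLocFree ((Scheme.Modules.pullback (bmap 𝒳 φ)).obj (E.obj.obj c)) := by
    intro a c φ
    haveI := E.property.1 φ (g := bmap 𝒳 φ) rfl
    let i := asIso (((Scheme.Modules.pullbackPushforwardAdjunction (bmap 𝒳 φ)).homEquiv
      (E.obj.obj c) (E.obj.obj a)).symm (E.obj.map φ rfl))
    exact ⟨M2.isFinLocFree_of_iso i.symm, M2.isFinLocFree_of_iso i⟩
  have hb : FlatMod.IsFinLocFree (E.obj.obj A.b) := isFinLocFree_of_finite_projective (E.property.2 A.b)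
  have haff : ∀ (z : 𝒳.obj) [IsAffine (sch 𝒳 z)], FlatMod.IsFinLocFree (E.obj.obj z) := fun z _ => by
    haveI := (A.ff z).1
    haveI := (A.ff z).2
    exact M1.isFinLocFree_of_pullback_fpqc (bmap 𝒳 (A.π z)) (E.property.2 z)
      ((hcart (A.π z)).1 ((hcart (A.r z)).2 (M2.isFinLocFree_pullback (bmap 𝒳 (A.r z)) hb)))
  refine isFinLocFree_of_flat_lfp_cover (E.property.2 ξ) fun x => ?_
  obtain ⟨W, hW, hxW, -⟩ := exists_isAffineOpen_mem_and_subset (x := x) (U := ⊤) trivial
  obtain ⟨η, φ, _, _, hr⟩ := exists_piece A.grpd ξ hW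
  refine ⟨_, bmap 𝒳 φ, inferInstance, inferInstance, ?_, (hcart φ).1 (haff η)⟩
  have : x ∈ (bmap 𝒳 φ).opensRange := hr.symm ▸ hxW
  exact this

theorem Atlas.isLocFree_and_isFinType (E : QCoh 𝒳) [Module.Finite Γ(sch 𝒳 A.b, ⊤) Γ(E.obj.obj A.b, ⊤)]
    [Module.Projective Γ(sch 𝒳 A.b, ⊤) Γ(E.obj.obj A.b, ⊤)] : E.obj.IsLocFree ∧ E.obj.IsFinType :=
  ⟨fun ξ => isLocallyFree_of_isFinLocFree (A.isFinLocFree_obj E ξ),
    fun ξ => M1.isFP_isFT (M1.isFP_of_isFinLocFree (A.isFinLocFree_obj E ξ))⟩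

end Groth.Agent.StQC14
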